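import Mathlib

set_option autoImplicit false

namespace Cfsg.Agent.Helper18

/-- If `Ω ⧸ center Ω` satisfies the law `w`, then the values of `w` on elements of `K` whose images
in `H` lie in the range of `j : Ω →* H` commute with all such elements. -/
theorem law_commute {Ω H K : Type*} [Group Ω] [Group H] [Group K] (w : FreeGroup ℕ)
    (hlaw : ∀ g : ℕ → Ω ⧸ Subgroup.center Ω, FreeGroup.lift g w = 1)
    (j : Ω →* H) (ψ : K →* H) (hψ : Function.Injective ψ)
    (f : ℕ → K) (hf : ∀ i, ψ (f i) ∈ j.range) (k : K) (hk : ψ k ∈ j.range) :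
    Commute (FreeGroup.lift f w) k := by
  choose ω hω using hf
  obtain ⟨κ, hκ⟩ := hk
  have h1 : FreeGroup.lift (fun i => (QuotientGroup.mk' (Subgroup.center Ω)) (ω i)) w = 1 :=
    hlaw _
  have h2 : FreeGroup.lift (fun i => (QuotientGroup.mk' (Subgroup.center Ω)) (ω i)) =
      (QuotientGroup.mk' (Subgroup.center Ω)).comp (FreeGroup.lift ω) := by
    ext i
    simp [FreeGroup.lift_apply_of]
  rw [h2] at h1
  have h3 : FreeGroup.lift ω w ∈ Subgroup.center Ω := (QuotientGroup.eq_one_iff _).mp h1
  have h4 : κ * FreeGroup.lift ω w = FreeGroup.lift ω w * κ := Subgroup.mem_center_iff.mp h3 κ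
  have h5 : j.comp (FreeGroup.lift ω) = ψ.comp (FreeGroup.lift f) := by
    ext i
    simp [FreeGroup.lift_apply_of, hω]
  have h6 : j (FreeGroup.lift ω w) = ψ (FreeGroup.lift f w) := DFunLike.congr_fun h5 w
  have h7 := congrArg j h4
  rw [map_mul, map_mul, h6, hκ, ← map_mul, ← map_mul] at h7
  exact (hψ h7).symm

/-- transfer of a law along an isomorphism -/
theorem law_of_equiv {G G' : Type*} [Group G] [Group G'] (e : G ≃* G') (w : FreeGroup ℕ)
    (h : ∀ f : ℕ → G, FreeGroup.lift f w = 1) (g : ℕ → G') : FreeGroup.lift g w = 1 := by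
  have h1 := h (fun i => e.symm (g i))
  have h2 : FreeGroup.lift (fun i => e.symm (g i)) =
      e.symm.toMonoidHom.comp (FreeGroup.lift g) := by
    ext i
    simp [FreeGroup.lift_apply_of]
  rw [h2] at h1
  have h3 : e.symm (FreeGroup.lift g w) = 1 := h1
  exact (map_eq_one_iff e.symm e.symm.injective).mp h3

/-- transport of a non-commuting value of a word along an injective homomorphism -/
theorem law_fail_map {K K' : Type*} [Group K] [Group K'] (ρ : K →* K')
    (hρ : Function.Injective ρ) (w : FreeGroup ℕ) (f : ℕ → K) (k : K)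
    (h : ¬ Commute (FreeGroup.lift f w) k) :
    ¬ Commute (FreeGroup.lift (fun i => ρ (f i)) w) (ρ k) := by
  have h2 : FreeGroup.lift (fun i => ρ (f i)) = ρ.comp (FreeGroup.lift f) := by
    ext i
    simp [FreeGroup.lift_apply_of]
  rw [h2]
  intro hc
  apply h
  have h3 : ρ (FreeGroup.lift f w * k) = ρ (k * FreeGroup.lift f w) := by
    rw [map_mul, map_mul]; exact hc
  exact hρ h3

/-- homomorphisms map the commutator subgroup into the commutator subgroup -/
theorem map_mem_commutator {G H : Type*} [Group G] [Group H] (ρ : G →* H) {g : G}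
    (hg : g ∈ commutator G) : ρ g ∈ commutator H := by
  have h1 : ρ g ∈ (commutator G).map ρ := Subgroup.mem_map_of_mem ρ hg
  rw [commutator_def, Subgroup.map_commutator] at h1
  rw [commutator_def]
  exact Subgroup.commutator_mono le_top le_top h1

/-- cardinality bound for a quotient of a group embedded in a matrix ring over a finite field -/
theorem card_quot_le {Ω ι F : Type*} [Group Ω] [Fintype ι] [Fintype F] (N : Subgroup Ω)
    (g : Ω → Matrix ι ι F) (hg : Function.Injective g) (a b : ℕ) (ha0 : 0 < a)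
    (ha : Fintype.card F ≤ a) (hb : Fintype.card ι ≤ b) :
    Nat.card (Ω ⧸ N) ≤ (a ^ b) ^ b := by
  classical
  have hfin : Finite Ω := Finite.of_injective g hg
  have h0 : Nat.card (Ω ⧸ N) ≤ Nat.card Ω :=
    Nat.card_le_card_of_surjective (QuotientGroup.mk (s := N)) QuotientGroup.mk_surjective
  have h1 : Nat.card Ω ≤ Nat.card (Matrix ι ι F) := Nat.card_le_card_of_injective g hg
  have h2 : Nat.card (Matrix ι ι F) = (Fintype.card F ^ Fintype.card ι) ^ Fintype.card ι := by
    show Nat.card (ι → ι → F) = _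
    rw [Nat.card_fun, Nat.card_fun, Nat.card_eq_fintype_card, Nat.card_eq_fintype_card]
  have h3 : (Fintype.card F ^ Fintype.card ι) ^ Fintype.card ι ≤ (a ^ b) ^ b := by
    have h4 : Fintype.card F ^ Fintype.card ι ≤ a ^ b :=
      (Nat.pow_le_pow_left ha _).trans (Nat.pow_le_pow_right ha0 hb)
    exact (Nat.pow_le_pow_left h4 _).trans (Nat.pow_le_pow_right (Nat.pow_pos ha0) hb)
  omega

end Cfsg.Agent.Helper18
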