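import Mathlib
import Cfsg.Agent.S2352
import Cfsg.Agent.Helper18.LawBasic

set_option autoImplicit false

namespace Cfsg.Agent.Helper18

open scoped Matrix

/-- a non-trivial law fails in large alternating groups, with a non-central value -/
theorem alt_law_fail (w : FreeGroup ℕ) (hw : w ≠ 1) :
    ∃ N : ℕ, 5 ≤ N ∧ ∀ n : ℕ, N ≤ n → ∃ (f : ℕ → alternatingGroup (Fin n))
      (τ : alternatingGroup (Fin n)), ¬ Commute (FreeGroup.lift f w) τ := by
  obtain ⟨N, hN⟩ := Cfsg.Agent.S2352.result w hw
  refine ⟨max N 5, le_max_right _ _, fun n hn => ?_⟩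
  obtain ⟨f, hf⟩ := hN n (le_trans (le_max_left _ _) hn)
  refine ⟨f, ?_⟩
  by_contra hall
  push Not at hall
  apply hf
  have hc : FreeGroup.lift f w ∈ Subgroup.center (alternatingGroup (Fin n)) :=
    Subgroup.mem_center_iff.mpr fun τ => (hall τ).symm
  have h4 : 4 ≤ Nat.card (Fin n) := by
    rw [Nat.card_fin]
    have := le_max_right N 5
    omega
  rw [alternatingGroup.center_eq_bot h4] at hc
  exact Subgroup.mem_bot.mp hc

/-- permutation matrices as a monoid homomorphism -/
noncomputable def permHom (ι F : Type*) [Fintype ι] [DecidableEq ι] [Field F] :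
    Equiv.Perm ι →* Matrix ι ι F where
  toFun σ := (σ⁻¹).permMatrix F
  map_one' := by simp
  map_mul' σ τ := by
    rw [mul_inv_rev, PEquiv.toMatrix_toPEquiv_mul]
    ext i j
    simp [PEquiv.toMatrix_apply, Equiv.Perm.mul_apply]

theorem permHom_apply {ι F : Type*} [Fintype ι] [DecidableEq ι] [Field F] (σ : Equiv.Perm ι)
    (i j : ι) : permHom ι F σ i j = if σ⁻¹ i = j then 1 else 0 := by
  show (σ⁻¹).permMatrix F i j = _
  simp [PEquiv.toMatrix_apply, eq_comm]

theorem permHom_mulVec {ι F : Type*} [Fintype ι] [DecidableEq ι] [Field F] (σ : Equiv.Perm ι)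
    (v : ι → F) : permHom ι F σ *ᵥ v = v ∘ (σ⁻¹ : Equiv.Perm ι) :=
  PEquiv.toMatrix_toPEquiv_mulVec _ _

theorem permHom_injective (ι F : Type*) [Fintype ι] [DecidableEq ι] [Field F] :
    Function.Injective (permHom ι F) := by
  intro σ τ h
  have h1 : σ⁻¹ = τ⁻¹ := by
    ext i
    have h2 := congrFun (congrFun h i) (σ⁻¹ i)
    rw [permHom_apply, permHom_apply] at h2
    simp only [if_true] at h2
    by_contra hne
    rw [if_neg (fun h3 => hne h3.symm)] at h2
    exact one_ne_zero h2
  exact inv_injective h1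

theorem permHom_det {ι F : Type*} [Fintype ι] [DecidableEq ι] [Field F] (σ : Equiv.Perm ι) :
    (permHom ι F σ).det = ((Equiv.Perm.sign σ : ℤ) : F) := by
  show ((σ⁻¹).permMatrix F).det = _
  rw [Matrix.det_permutation]
  simp

/-- permutation matrices in the general linear group -/
noncomputable def permGL (ι F : Type*) [Fintype ι] [DecidableEq ι] [Field F] :
    Equiv.Perm ι →* Matrix.GeneralLinearGroup ι F :=
  (permHom ι F).toHomUnits

theorem permGL_injective (ι F : Type*) [Fintype ι] [DecidableEq ι] [Field F] :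
    Function.Injective (permGL ι F) := by
  intro σ τ h
  apply permHom_injective ι F
  have := congrArg (fun g : Matrix.GeneralLinearGroup ι F => (g : Matrix ι ι F)) h
  exact this

/-- a non-trivial law fails in the commutator subgroup of `GL_m(F)` for large `m` -/
theorem gl_law_fail_rank (w : FreeGroup ℕ) (hw : w ≠ 1) :
    ∃ N : ℕ, 5 ≤ N ∧ ∀ (m : ℕ) (F : Type) [Field F], N ≤ m →
      ∃ (f : ℕ → Matrix.GeneralLinearGroup (Fin m) F) (k : Matrix.GeneralLinearGroup (Fin m) F),
        (∀ i, f i ∈ commutator (Matrix.GeneralLinearGroup (Fin m) F)) ∧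
        k ∈ commutator (Matrix.GeneralLinearGroup (Fin m) F) ∧
        ¬ Commute (FreeGroup.lift f w) k := by
  obtain ⟨N, hN5, hN⟩ := alt_law_fail w hw
  refine ⟨N, hN5, fun m F _ hm => ?_⟩
  obtain ⟨f₀, τ, hτ⟩ := hN m hm
  have hperf : commutator (alternatingGroup (Fin m)) = ⊤ :=
    commutator_alternatingGroup_eq_top (by rw [Nat.card_fin]; omega)
  let ρ : alternatingGroup (Fin m) →* Matrix.GeneralLinearGroup (Fin m) F :=
    (permGL (Fin m) F).comp (alternatingGroup (Fin m)).subtype
  have hρ : Function.Injective ρ :=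
    (permGL_injective (Fin m) F).comp Subtype.val_injective
  have hmem : ∀ a : alternatingGroup (Fin m), ρ a ∈ commutator (Matrix.GeneralLinearGroup (Fin m) F) :=
    fun a => map_mem_commutator ρ (hperf ▸ Subgroup.mem_top a)
  exact ⟨fun i => ρ (f₀ i), ρ τ, fun i => hmem _, hmem _, law_fail_map ρ hρ w f₀ τ hτ⟩

end Cfsg.Agent.Helper18
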