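import Mathlib
import Cfsg.Agent.S2353
import Cfsg.Prelude.Def_Classical
import Cfsg.Agent.Helper18.LawAlt

set_option autoImplicit false

namespace Cfsg.Agent.Helper18

open scoped Matrix
open scoped commutatorElement
open Polynomial

universe u

/-- The polynomial governing the `(0,1)` entry of the value of the word `w` on the matrices
`U(c^(2i+1)) V(c) U(c^(2i+2))`: it is non-zero of degree bounded independently of the field. -/
theorem sl2_core (w : FreeGroup ℕ) (hw : w ≠ 1) :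
    ∃ D : ℕ, ∀ (F : Type u) [Field F], ∃ p : F[X], p ≠ 0 ∧ p.natDegree ≤ D ∧
      ∀ c : F, ((FreeGroup.lift (fun i => Cfsg.Agent.S2353.uvu (c ^ (2 * i + 1)) c (c ^ (2 * i + 2))) w :
        Matrix.SpecialLinearGroup (Fin 2) F) : Matrix (Fin 2) (Fin 2) F) 0 1 = p.eval c := by
  classical
  refine ⟨(((FreeGroup.lift (Cfsg.Agent.S2353.gen ℤ) w : Matrix.SpecialLinearGroup (Fin 2) ℤ[X]) :
    Matrix (Fin 2) (Fin 2) ℤ[X]) 0 1).natDegree, ?_⟩
  intro F instF
  obtain ⟨pZ, hpZ⟩ : ∃ pZ : ℤ[X], pZ = ((FreeGroup.lift (Cfsg.Agent.S2353.gen ℤ) w :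
    Matrix.SpecialLinearGroup (Fin 2) ℤ[X]) : Matrix (Fin 2) (Fin 2) ℤ[X]) 0 1 := ⟨_, rfl⟩
  obtain ⟨pF, hpF⟩ : ∃ pF : F[X], pF = ((FreeGroup.lift (Cfsg.Agent.S2353.gen F) w :
    Matrix.SpecialLinearGroup (Fin 2) F[X]) : Matrix (Fin 2) (Fin 2) F[X]) 0 1 := ⟨_, rfl⟩
  rw [← hpZ]
  have hmap : pF = Polynomial.map (Int.castRingHom F) pZ := by
    have hcomp : (Matrix.SpecialLinearGroup.map (n := Fin 2)
        (Polynomial.mapRingHom (Int.castRingHom F))).comp (FreeGroup.lift (Cfsg.Agent.S2353.gen ℤ))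
        = FreeGroup.lift (Cfsg.Agent.S2353.gen F) := by
      ext i : 1
      simp only [MonoidHom.comp_apply, FreeGroup.lift_apply_of]
      show Matrix.SpecialLinearGroup.map _ (Cfsg.Agent.S2353.uvu _ _ _) = Cfsg.Agent.S2353.uvu _ _ _
      rw [Cfsg.Agent.S2353.uvu_map]
      simp
    have h3 := DFunLike.congr_fun hcomp w
    rw [hpF, ← h3, hpZ]
    simp
  have hpF0 : pF ≠ 0 := by
    obtain ⟨L, hL⟩ : ∃ L, L = w.toWord := ⟨_, rfl⟩
    have hmk : w = FreeGroup.mk L := by rw [hL]; exact FreeGroup.mk_toWord.symm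
    rw [hpF, hmk, FreeGroup.lift_mk]
    exact Cfsg.Agent.S2353.entry_ne_zero L (hL ▸ FreeGroup.isReduced_toWord)
      (fun h => hw (FreeGroup.toWord_eq_nil_iff.mp (hL ▸ h)))
  have hdeg : pF.natDegree ≤ pZ.natDegree := by
    rw [hmap]; exact Polynomial.natDegree_map_le
  refine ⟨pF, hpF0, hdeg, fun c => ?_⟩
  have hcomp : FreeGroup.lift (fun i => Cfsg.Agent.S2353.uvu (c ^ (2 * i + 1)) c (c ^ (2 * i + 2)))
      = (Matrix.SpecialLinearGroup.map (n := Fin 2) (Polynomial.evalRingHom c)).comp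
        (FreeGroup.lift (Cfsg.Agent.S2353.gen F)) := by
    ext i : 1
    simp only [MonoidHom.comp_apply, FreeGroup.lift_apply_of]
    show Cfsg.Agent.S2353.uvu _ _ _ = Matrix.SpecialLinearGroup.map _ (Cfsg.Agent.S2353.uvu _ _ _)
    rw [Cfsg.Agent.S2353.uvu_map]
    simp
  rw [hcomp, hpF]
  simp

section SL2
variable {F : Type*} [Field F]

/-- upper unitriangular element of `SL₂` -/
def uSL (s : F) : Matrix.SpecialLinearGroup (Fin 2) F :=
  ⟨Cfsg.Agent.S2353.uM s, by simp [Cfsg.Agent.S2353.uM, Matrix.det_fin_two_of]⟩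

/-- lower unitriangular element of `SL₂` -/
def vSL (s : F) : Matrix.SpecialLinearGroup (Fin 2) F :=
  ⟨Cfsg.Agent.S2353.vM s, by simp [Cfsg.Agent.S2353.vM, Matrix.det_fin_two_of]⟩

/-- diagonal element of `SL₂` -/
def dSL (a : F) (ha : a ≠ 0) : Matrix.SpecialLinearGroup (Fin 2) F :=
  ⟨!![a, 0; 0, a⁻¹], by simp [Matrix.det_fin_two_of, ha]⟩

/-- diagonal element of `SL₂`, inverse convention -/
def dSL' (a : F) (ha : a ≠ 0) : Matrix.SpecialLinearGroup (Fin 2) F :=
  ⟨!![a⁻¹, 0; 0, a], by simp [Matrix.det_fin_two_of, ha]⟩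

theorem uvu_eq (l m r : F) : Cfsg.Agent.S2353.uvu l m r = uSL l * vSL m * uSL r :=
  Subtype.ext rfl

theorem d_u (a : F) (ha : a ≠ 0) (s t : F) (h : s = (a ^ 2 - 1) * t) :
    dSL a ha * uSL t = uSL s * uSL t * dSL a ha := by
  apply Subtype.ext
  show !![a, 0; 0, a⁻¹] * Cfsg.Agent.S2353.uM t =
    Cfsg.Agent.S2353.uM s * Cfsg.Agent.S2353.uM t * !![a, 0; 0, a⁻¹]
  refine Matrix.ext fun i j => ?_
  fin_cases i <;> fin_cases j <;>
    simp [Cfsg.Agent.S2353.uM, Matrix.mul_apply, Fin.sum_univ_two, h] <;> field_simp <;> ring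

theorem d_v (a : F) (ha : a ≠ 0) (s t : F) (h : s = (a ^ 2 - 1) * t) :
    dSL' a ha * vSL t = vSL s * vSL t * dSL' a ha := by
  apply Subtype.ext
  show !![a⁻¹, 0; 0, a] * Cfsg.Agent.S2353.vM t =
    Cfsg.Agent.S2353.vM s * Cfsg.Agent.S2353.vM t * !![a⁻¹, 0; 0, a]
  refine Matrix.ext fun i j => ?_
  fin_cases i <;> fin_cases j <;>
    simp [Cfsg.Agent.S2353.vM, Matrix.mul_apply, Fin.sum_univ_two, h] <;> field_simp <;> ring

theorem exists_sq_ne_one [Fintype F] (hF : 4 ≤ Fintype.card F) :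
    ∃ a : F, a ≠ 0 ∧ a ^ 2 - 1 ≠ 0 := by
  classical
  by_contra hall
  push Not at hall
  have hsub : (Finset.univ : Finset F) ⊆ {0, 1, -1} := by
    intro a _
    by_cases ha : a = 0
    · simp [ha]
    · have h1 := hall a ha
      have h2 : (a - 1) * (a + 1) = 0 := by linear_combination h1
      rcases mul_eq_zero.mp h2 with h3 | h3
      · have h4 : a = 1 := by linear_combination h3
        simp [h4]
      · have h4 : a = -1 := by linear_combination h3
        simp [h4]
  have hcard := Finset.card_le_card hsub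
  rw [Finset.card_univ] at hcard
  have h3 : ({0, 1, -1} : Finset F).card ≤ 3 := Finset.card_le_three
  omega

theorem uSL_mem [Fintype F] (hF : 4 ≤ Fintype.card F) (s : F) :
    uSL s ∈ commutator (Matrix.SpecialLinearGroup (Fin 2) F) := by
  obtain ⟨a, ha0, ha1⟩ := exists_sq_ne_one hF
  have h := d_u a ha0 s (s / (a ^ 2 - 1)) (by field_simp)
  have h2 : uSL s = ⁅dSL a ha0, uSL (s / (a ^ 2 - 1))⁆ := by
    rw [commutatorElement_def, h]; group
  rw [h2, commutator_def]
  exact Subgroup.commutator_mem_commutator (Subgroup.mem_top _) (Subgroup.mem_top _)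

theorem vSL_mem [Fintype F] (hF : 4 ≤ Fintype.card F) (s : F) :
    vSL s ∈ commutator (Matrix.SpecialLinearGroup (Fin 2) F) := by
  obtain ⟨a, ha0, ha1⟩ := exists_sq_ne_one hF
  have h := d_v a ha0 s (s / (a ^ 2 - 1)) (by field_simp)
  have h2 : vSL s = ⁅dSL' a ha0, vSL (s / (a ^ 2 - 1))⁆ := by
    rw [commutatorElement_def, h]; group
  rw [h2, commutator_def]
  exact Subgroup.commutator_mem_commutator (Subgroup.mem_top _) (Subgroup.mem_top _)

theorem uvu_mem [Fintype F] (hF : 4 ≤ Fintype.card F) (l m r : F) :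
    Cfsg.Agent.S2353.uvu l m r ∈ commutator (Matrix.SpecialLinearGroup (Fin 2) F) := by
  rw [uvu_eq]
  exact mul_mem (mul_mem (uSL_mem hF l) (vSL_mem hF m)) (uSL_mem hF r)

theorem not_commute_vSL (W : Matrix.SpecialLinearGroup (Fin 2) F)
    (h : (W : Matrix (Fin 2) (Fin 2) F) 0 1 ≠ 0) : ¬ Commute W (vSL 1) := by
  intro hc
  have h1 := congrArg (fun M : Matrix.SpecialLinearGroup (Fin 2) F =>
    (M : Matrix (Fin 2) (Fin 2) F) 0 0) hc.eq
  simp only [Matrix.SpecialLinearGroup.coe_mul, Matrix.mul_apply, Fin.sum_univ_two] at h1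
  have h2 : (W : Matrix (Fin 2) (Fin 2) F) 0 0 * 1 + (W : Matrix (Fin 2) (Fin 2) F) 0 1 * 1 =
      1 * (W : Matrix (Fin 2) (Fin 2) F) 0 0 + 0 * (W : Matrix (Fin 2) (Fin 2) F) 1 0 := h1
  exact h (by linear_combination h2)

/-- the block embedding `A ↦ [A 0; 0 1]` -/
def blockHom (ι κ : Type*) [Fintype ι] [Fintype κ] [DecidableEq ι] [DecidableEq κ] :
    Matrix ι ι F →* Matrix (ι ⊕ κ) (ι ⊕ κ) F where
  toFun A := Matrix.fromBlocks A 0 0 1
  map_one' := Matrix.fromBlocks_one
  map_mul' A B := by simp [Matrix.fromBlocks_multiply]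

theorem blockHom_injective (ι κ : Type*) [Fintype ι] [Fintype κ] [DecidableEq ι] [DecidableEq κ] :
    Function.Injective (blockHom (F := F) ι κ) := by
  intro A B h
  exact (Matrix.fromBlocks_inj.mp h).1

/-- the block embedding `A ↦ [1 0; 0 A]` -/
def blockHom' (ι κ : Type*) [Fintype ι] [Fintype κ] [DecidableEq ι] [DecidableEq κ] :
    Matrix κ κ F →* Matrix (ι ⊕ κ) (ι ⊕ κ) F where
  toFun A := Matrix.fromBlocks 1 0 0 A
  map_one' := Matrix.fromBlocks_one
  map_mul' A B := by simp [Matrix.fromBlocks_multiply]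

theorem blockHom'_injective (ι κ : Type*) [Fintype ι] [Fintype κ] [DecidableEq ι]
    [DecidableEq κ] : Function.Injective (blockHom' (F := F) ι κ) := by
  intro A B h
  exact (Matrix.fromBlocks_inj.mp h).2.2.2

/-- reindexing as a monoid homomorphism -/
def reindexHom {α β : Type*} [Fintype α] [Fintype β] [DecidableEq α] [DecidableEq β] (e : α ≃ β) :
    Matrix α α F →* Matrix β β F where
  toFun A := A.submatrix e.symm e.symm
  map_one' := Matrix.submatrix_one_equiv e.symm
  map_mul' A B := (Matrix.submatrix_mul_equiv A B e.symm e.symm e.symm).symm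

theorem reindexHom_injective {α β : Type*} [Fintype α] [Fintype β] [DecidableEq α] [DecidableEq β]
    (e : α ≃ β) : Function.Injective (reindexHom (F := F) e) := by
  intro A B h
  ext i j
  have := congrFun (congrFun h (e i)) (e j)
  simpa [reindexHom] using this

theorem toHomUnits_injective {G M : Type*} [Group G] [Monoid M] (f : G →* M)
    (hf : Function.Injective f) : Function.Injective f.toHomUnits := by
  intro a b h
  apply hf
  have := congrArg (fun u : Mˣ => (u : M)) h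
  exact this

/-- the block embedding of `SL₂` into `GL_m` -/
noncomputable def blockGL (m : ℕ) (hm : 2 ≤ m) :
    Matrix.SpecialLinearGroup (Fin 2) F →* Matrix.GeneralLinearGroup (Fin m) F :=
  ((reindexHom (finSumFinEquiv.trans (finCongr (by omega : 2 + (m - 2) = m)))).comp
    ((blockHom (Fin 2) (Fin (m - 2))).comp (Cfsg.slToMat 2 F))).toHomUnits

theorem blockGL_injective (m : ℕ) (hm : 2 ≤ m) : Function.Injective (blockGL (F := F) m hm) := by
  apply toHomUnits_injective
  rw [MonoidHom.coe_comp, MonoidHom.coe_comp]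
  refine (reindexHom_injective _).comp ((blockHom_injective _ _).comp ?_)
  intro A B h
  apply Subtype.ext
  exact h

end SL2

/-- a non-trivial law fails in the commutator subgroup of `GL_m(F)` when `m` or `F` is large -/
theorem gl_law_fail (w : FreeGroup ℕ) (hw : w ≠ 1) :
    ∃ N : ℕ, 5 ≤ N ∧ ∀ (m : ℕ) (F : Type) [Field F] [Fintype F], 2 ≤ m →
      (N ≤ m ∨ N ≤ Fintype.card F) →
      ∃ (f : ℕ → Matrix.GeneralLinearGroup (Fin m) F) (k : Matrix.GeneralLinearGroup (Fin m) F),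
        (∀ i, f i ∈ commutator (Matrix.GeneralLinearGroup (Fin m) F)) ∧
        k ∈ commutator (Matrix.GeneralLinearGroup (Fin m) F) ∧
        ¬ Commute (FreeGroup.lift f w) k := by
  classical
  obtain ⟨N₁, hN₁5, hN₁⟩ := gl_law_fail_rank w hw
  obtain ⟨D, hD⟩ := sl2_core.{0} w hw
  refine ⟨max N₁ (D + 5), le_trans hN₁5 (le_max_left _ _), ?_⟩
  intro m F _ _ hm hor
  rcases hor with h | h
  · exact hN₁ m F (le_trans (le_max_left _ _) h)
  · have hcard : D + 5 ≤ Fintype.card F := le_trans (le_max_right _ _) h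
    obtain ⟨p, hp0, hpD, hp⟩ := hD F
    obtain ⟨c, hc⟩ : ∃ c : F, p.eval c ≠ 0 := by
      by_contra hall
      push Not at hall
      exact hp0 (Polynomial.eq_zero_of_natDegree_lt_card_of_eval_eq_zero p (f := id)
        Function.injective_id hall (by omega))
    have hF4 : 4 ≤ Fintype.card F := by omega
    have hnc := not_commute_vSL _ (by rw [hp c]; exact hc)
    refine ⟨fun i => blockGL m hm (Cfsg.Agent.S2353.uvu (c ^ (2 * i + 1)) c (c ^ (2 * i + 2))),
      blockGL m hm (vSL 1), fun i => map_mem_commutator _ (uvu_mem hF4 _ _ _),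
      map_mem_commutator _ (vSL_mem hF4 1), ?_⟩
    exact law_fail_map (blockGL m hm) (blockGL_injective m hm) w _ _ hnc

end Cfsg.Agent.Helper18
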