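import Mathlib
import Cfsg.Prelude.Def_Classical
import Cfsg.Agent.Helper18.LawSL2

set_option autoImplicit false

namespace Cfsg.Agent.Helper18

open scoped Matrix

section Levi
variable {F : Type*} [Field F]

/-- the Levi embedding `g ↦ [g 0; 0 g⁻ᵀ]` -/
noncomputable def leviHom (ι : Type*) [Fintype ι] [DecidableEq ι] :
    Matrix.GeneralLinearGroup ι F →* Matrix (ι ⊕ ι) (ι ⊕ ι) F where
  toFun g := Matrix.fromBlocks (g : Matrix ι ι F) 0 0
    ((g⁻¹ : Matrix.GeneralLinearGroup ι F) : Matrix ι ι F).transpose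
  map_one' := by simp [Matrix.fromBlocks_one]
  map_mul' g h := by simp [Matrix.fromBlocks_multiply, mul_inv_rev, Matrix.transpose_mul]

theorem leviHom_injective (ι : Type*) [Fintype ι] [DecidableEq ι] :
    Function.Injective (leviHom (F := F) ι) := by
  intro g h hgh
  apply Units.ext
  exact (Matrix.fromBlocks_inj.mp hgh).1

theorem leviHom_mulVec_inl {ι : Type*} [Fintype ι] [DecidableEq ι]
    (g : Matrix.GeneralLinearGroup ι F) (z : ι ⊕ ι → F) (i : ι) :
    (leviHom ι g *ᵥ z) (Sum.inl i) = ((g : Matrix ι ι F) *ᵥ (z ∘ Sum.inl)) i := by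
  show (Matrix.fromBlocks _ _ _ _ *ᵥ z) (Sum.inl i) = _
  rw [Matrix.fromBlocks_mulVec]
  simp

theorem leviHom_mulVec_inr {ι : Type*} [Fintype ι] [DecidableEq ι]
    (g : Matrix.GeneralLinearGroup ι F) (z : ι ⊕ ι → F) (i : ι) :
    (leviHom ι g *ᵥ z) (Sum.inr i) =
      (((g⁻¹ : Matrix.GeneralLinearGroup ι F) : Matrix ι ι F).transpose *ᵥ (z ∘ Sum.inr)) i := by
  show (Matrix.fromBlocks _ _ _ _ *ᵥ z) (Sum.inr i) = _
  rw [Matrix.fromBlocks_mulVec]
  simp

/-- the hyperbolic pairing is invariant under the Levi embedding -/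
theorem leviHom_pairing {ι : Type*} [Fintype ι] [DecidableEq ι]
    (g : Matrix.GeneralLinearGroup ι F) (z : ι ⊕ ι → F) :
    ∑ i : ι, (leviHom ι g *ᵥ z) (Sum.inl i) * (leviHom ι g *ᵥ z) (Sum.inr i) =
      ∑ i : ι, z (Sum.inl i) * z (Sum.inr i) := by
  have h1 : ∑ i : ι, (leviHom ι g *ᵥ z) (Sum.inl i) * (leviHom ι g *ᵥ z) (Sum.inr i) =
      ((g : Matrix ι ι F) *ᵥ (z ∘ Sum.inl)) ⬝ᵥ
        (((g⁻¹ : Matrix.GeneralLinearGroup ι F) : Matrix ι ι F).transpose *ᵥ (z ∘ Sum.inr)) := by
    unfold dotProduct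
    refine Finset.sum_congr rfl fun i _ => ?_
    rw [leviHom_mulVec_inl, leviHom_mulVec_inr]
  rw [h1, Matrix.dotProduct_mulVec, Matrix.vecMul_transpose, Matrix.mulVec_mulVec]
  have h2 : ((g⁻¹ : Matrix.GeneralLinearGroup ι F) : Matrix ι ι F) * (g : Matrix ι ι F) = 1 := by
    rw [← Units.val_mul, inv_mul_cancel, Units.val_one]
  rw [h2, Matrix.one_mulVec]
  rfl

/-- the Levi embedding into the symplectic group -/
noncomputable def leviSp (ι : Type*) [Fintype ι] [DecidableEq ι] :
    Matrix.GeneralLinearGroup ι F →* Matrix.symplecticGroup ι F :=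
  (leviHom ι).codRestrict (Matrix.symplecticGroup ι F) (fun g => by
    rw [SymplecticGroup.mem_iff]
    have h2 : (g : Matrix ι ι F) * ((g⁻¹ : Matrix.GeneralLinearGroup ι F) : Matrix ι ι F) = 1 := by
      rw [← Units.val_mul, mul_inv_cancel, Units.val_one]
    have h3 : ((g⁻¹ : Matrix.GeneralLinearGroup ι F) : Matrix ι ι F).transpose *
        (g : Matrix ι ι F).transpose = 1 := by
      rw [← Matrix.transpose_mul, h2, Matrix.transpose_one]
    have h3' : ((g : Matrix ι ι F)⁻¹).transpose * (g : Matrix ι ι F).transpose = 1 := by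
      rw [← Matrix.coe_units_inv]; exact h3
    show Matrix.fromBlocks _ _ _ _ * Matrix.J ι F * (Matrix.fromBlocks _ _ _ _).transpose = _
    simp [Matrix.J, Matrix.fromBlocks_multiply, Matrix.fromBlocks_transpose, h3'])

theorem leviSp_injective (ι : Type*) [Fintype ι] [DecidableEq ι] :
    Function.Injective (leviSp (F := F) ι) := by
  intro g h hgh
  apply leviHom_injective ι
  exact congrArg Subtype.val hgh

/-- commutators in `GL` have determinant one -/
theorem comm_gl_mem_range {ι : Type*} [Fintype ι] [DecidableEq ι]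
    (c : Matrix.GeneralLinearGroup ι F) (hc : c ∈ commutator (Matrix.GeneralLinearGroup ι F)) :
    c ∈ (Matrix.SpecialLinearGroup.toGL (n := ι) (R := F)).range := by
  have hdet : Matrix.GeneralLinearGroup.det c = 1 :=
    MonoidHom.mem_ker.mp (Abelianization.commutator_subset_ker
      (Matrix.GeneralLinearGroup.det (n := ι) (R := F)) hc)
  have hdet' : (c : Matrix ι ι F).det = 1 := by
    have := congrArg Units.val hdet
    simpa using this
  refine ⟨⟨(c : Matrix ι ι F), hdet'⟩, ?_⟩
  apply Units.ext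
  rfl

end Levi

section Families
variable (w : FreeGroup ℕ)

/-- the linear case -/
theorem psl_params (N : ℕ)
    (hN : ∀ (m : ℕ) (F : Type) [Field F] [Fintype F], 2 ≤ m → (N ≤ m ∨ N ≤ Fintype.card F) →
      ∃ (f : ℕ → Matrix.GeneralLinearGroup (Fin m) F) (k : Matrix.GeneralLinearGroup (Fin m) F),
        (∀ i, f i ∈ commutator (Matrix.GeneralLinearGroup (Fin m) F)) ∧
        k ∈ commutator (Matrix.GeneralLinearGroup (Fin m) F) ∧
        ¬ Commute (FreeGroup.lift f w) k)
    (F : Type) [Field F] [Fintype F] (n : ℕ) (hn : 2 ≤ n)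
    (hlaw : ∀ g : ℕ → Matrix.ProjectiveSpecialLinearGroup (Fin n) F, FreeGroup.lift g w = 1) :
    n < N ∧ Fintype.card F < N := by
  by_contra hcon
  have hor : N ≤ n ∨ N ≤ Fintype.card F := by omega
  obtain ⟨f, k, hf, hk, hnc⟩ := hN n F hn hor
  exact hnc (law_commute w hlaw Matrix.SpecialLinearGroup.toGL (MonoidHom.id _)
    Function.injective_id f (fun i => comm_gl_mem_range _ (hf i)) k (comm_gl_mem_range _ hk))

/-- the symplectic case -/
theorem psp_params (N : ℕ)
    (hN : ∀ (m : ℕ) (F : Type) [Field F] [Fintype F], 2 ≤ m → (N ≤ m ∨ N ≤ Fintype.card F) →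
      ∃ (f : ℕ → Matrix.GeneralLinearGroup (Fin m) F) (k : Matrix.GeneralLinearGroup (Fin m) F),
        (∀ i, f i ∈ commutator (Matrix.GeneralLinearGroup (Fin m) F)) ∧
        k ∈ commutator (Matrix.GeneralLinearGroup (Fin m) F) ∧
        ¬ Commute (FreeGroup.lift f w) k)
    (F : Type) [Field F] [Fintype F] (m : ℕ) (hm : 2 ≤ m)
    (hlaw : ∀ g : ℕ → Cfsg.PSp m F, FreeGroup.lift g w = 1) :
    m < N ∧ Fintype.card F < N := by
  by_contra hcon
  have hor : N ≤ m ∨ N ≤ Fintype.card F := by omega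
  obtain ⟨f, k, hf, hk, hnc⟩ := hN m F hm hor
  exact hnc (law_commute w hlaw (MonoidHom.id _) (leviSp (Fin m))
    (leviSp_injective (Fin m)) f (fun i => ⟨_, rfl⟩) k ⟨_, rfl⟩)

/-- the general orthogonal case: a group `H` containing a copy of `GL_m(F)` -/
theorem omega_params (N : ℕ)
    (hN : ∀ (m : ℕ) (F : Type) [Field F] [Fintype F], 2 ≤ m → (N ≤ m ∨ N ≤ Fintype.card F) →
      ∃ (f : ℕ → Matrix.GeneralLinearGroup (Fin m) F) (k : Matrix.GeneralLinearGroup (Fin m) F),
        (∀ i, f i ∈ commutator (Matrix.GeneralLinearGroup (Fin m) F)) ∧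
        k ∈ commutator (Matrix.GeneralLinearGroup (Fin m) F) ∧
        ¬ Commute (FreeGroup.lift f w) k)
    (F : Type) [Field F] [Fintype F] (m : ℕ) (hm : 2 ≤ m)
    {H : Type*} [Group H] (ψ : Matrix.GeneralLinearGroup (Fin m) F →* H)
    (hψ : Function.Injective ψ)
    (hlaw : ∀ g : ℕ → (commutator H) ⧸ Subgroup.center (commutator H), FreeGroup.lift g w = 1) :
    m < N ∧ Fintype.card F < N := by
  by_contra hcon
  have hor : N ≤ m ∨ N ≤ Fintype.card F := by omega
  obtain ⟨f, k, hf, hk, hnc⟩ := hN m F hm hor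
  refine hnc (law_commute w hlaw (commutator H).subtype ψ hψ f (fun i => ?_) k ?_)
  · rw [Subgroup.range_subtype]; exact map_mem_commutator ψ (hf i)
  · rw [Subgroup.range_subtype]; exact map_mem_commutator ψ hk

end Families

section Orth
variable {F : Type*} [Field F]

/-- the Levi embedding into the isometry group of the plus-type form -/
noncomputable def leviPlus (m : ℕ) :
    Matrix.GeneralLinearGroup (Fin m) F →* Cfsg.isometryGroup F (Cfsg.quadFormPlus m F) :=
  (leviHom (Fin m)).toHomUnits.codRestrict (Cfsg.isometryGroup F (Cfsg.quadFormPlus m F))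
    (fun g => by
      intro u v
      show Cfsg.quadFormPlus m F (leviHom (Fin m) g *ᵥ u) = Cfsg.quadFormPlus m F u
      unfold Cfsg.quadFormPlus
      exact leviHom_pairing g u)

theorem leviPlus_injective (m : ℕ) : Function.Injective (leviPlus (F := F) m) := by
  intro g h hgh
  apply leviHom_injective (Fin m)
  have := congrArg (fun x : Cfsg.isometryGroup F (Cfsg.quadFormPlus m F) =>
    ((x : Matrix.GeneralLinearGroup (Fin m ⊕ Fin m) F) : Matrix (Fin m ⊕ Fin m) (Fin m ⊕ Fin m) F)) hgh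
  exact this

/-- the Levi embedding into the isometry group of the odd-dimensional form -/
noncomputable def leviOdd (m : ℕ) :
    Matrix.GeneralLinearGroup (Fin m) F →* Cfsg.isometryGroup F (Cfsg.quadFormOdd m F) :=
  ((blockHom' Unit (Fin m ⊕ Fin m)).comp (leviHom (Fin m))).toHomUnits.codRestrict
    (Cfsg.isometryGroup F (Cfsg.quadFormOdd m F))
    (fun g => by
      intro u v
      show Cfsg.quadFormOdd m F (Matrix.fromBlocks 1 0 0 (leviHom (Fin m) g) *ᵥ u) =
        Cfsg.quadFormOdd m F u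
      unfold Cfsg.quadFormOdd
      rw [Matrix.fromBlocks_mulVec]
      simp only [Sum.elim_inl, Sum.elim_inr, Matrix.one_mulVec, Matrix.zero_mulVec, add_zero,
        zero_add, Function.comp_apply]
      rw [leviHom_pairing g (u ∘ Sum.inr)]
      rfl)

theorem leviOdd_injective (m : ℕ) : Function.Injective (leviOdd (F := F) m) := by
  intro g h hgh
  apply leviHom_injective (Fin m)
  apply blockHom'_injective Unit (Fin m ⊕ Fin m)
  have := congrArg (fun x : Cfsg.isometryGroup F (Cfsg.quadFormOdd m F) =>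
    ((x : Matrix.GeneralLinearGroup (Unit ⊕ (Fin m ⊕ Fin m)) F) :
      Matrix (Unit ⊕ (Fin m ⊕ Fin m)) (Unit ⊕ (Fin m ⊕ Fin m)) F)) hgh
  exact this

/-- the Levi embedding into the isometry group of the minus-type form -/
noncomputable def leviMinus (m : ℕ) (a b : F) :
    Matrix.GeneralLinearGroup (Fin m) F →* Cfsg.isometryGroup F (Cfsg.quadFormMinus m F a b) :=
  ((blockHom (Fin m ⊕ Fin m) (Fin 2)).comp (leviHom (Fin m))).toHomUnits.codRestrict
    (Cfsg.isometryGroup F (Cfsg.quadFormMinus m F a b))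
    (fun g => by
      intro u v
      show Cfsg.quadFormMinus m F a b (Matrix.fromBlocks (leviHom (Fin m) g) 0 0 1 *ᵥ u) =
        Cfsg.quadFormMinus m F a b u
      unfold Cfsg.quadFormMinus
      rw [Matrix.fromBlocks_mulVec]
      simp only [Sum.elim_inl, Sum.elim_inr, Matrix.one_mulVec, Matrix.zero_mulVec, add_zero,
        zero_add, Function.comp_apply]
      rw [leviHom_pairing g (u ∘ Sum.inl)]
      rfl)

theorem leviMinus_injective (m : ℕ) (a b : F) :
    Function.Injective (leviMinus (F := F) m a b) := by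
  intro g h hgh
  apply leviHom_injective (Fin m)
  apply blockHom_injective (Fin m ⊕ Fin m) (Fin 2)
  have := congrArg (fun x : Cfsg.isometryGroup F (Cfsg.quadFormMinus m F a b) =>
    ((x : Matrix.GeneralLinearGroup ((Fin m ⊕ Fin m) ⊕ Fin 2) F) :
      Matrix ((Fin m ⊕ Fin m) ⊕ Fin 2) ((Fin m ⊕ Fin m) ⊕ Fin 2) F)) hgh
  exact this

end Orth

end Cfsg.Agent.Helper18
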