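import Mathlib

set_option autoImplicit false

namespace Cfsg.Agent.Helper18.Dickson

open Finset

variable {G : Type*} [Group G]

/-- commutative transitivity outside the centre -/
def CT (G : Type*) [Group G] : Prop :=
  ∀ a b c : G, b ∉ Subgroup.center G → Commute a b → Commute b c → Commute a c

/-- centraliser of an element -/
def cz (g : G) : Subgroup G := Subgroup.centralizer {g}

theorem mem_cz {g k : G} : k ∈ cz g ↔ Commute k g := by
  simp only [cz, Subgroup.mem_centralizer_iff, Set.mem_singleton_iff, forall_eq]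
  exact ⟨fun h => h.symm, fun h => h.symm⟩

/-- normaliser of the centraliser of an element -/
def nz (g : G) : Subgroup G := Subgroup.normalizer (cz g : Set G)

theorem mem_nz {g n : G} : n ∈ nz g ↔ ∀ h, h ∈ cz g ↔ n * h * n⁻¹ ∈ cz g :=
  Subgroup.mem_normalizer_iff

theorem cz_le_nz (g : G) : cz g ≤ nz g := Subgroup.le_normalizer

theorem comm_conj {a b : G} (h : Commute a b) (x : G) :
    Commute (x * a * x⁻¹) (x * b * x⁻¹) := by
  have e := h.eq
  show x * a * x⁻¹ * (x * b * x⁻¹) = x * b * x⁻¹ * (x * a * x⁻¹)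
  have e1 : x * a * x⁻¹ * (x * b * x⁻¹) = x * (a * b) * x⁻¹ := by group
  have e2 : x * b * x⁻¹ * (x * a * x⁻¹) = x * (b * a) * x⁻¹ := by group
  rw [e1, e2, e]

theorem comm_conj_iff {a b : G} (x : G) :
    Commute (x * a * x⁻¹) (x * b * x⁻¹) ↔ Commute a b := by
  constructor
  · intro h
    have h1 := comm_conj h x⁻¹
    have e1 : x⁻¹ * (x * a * x⁻¹) * x⁻¹⁻¹ = a := by group
    have e2 : x⁻¹ * (x * b * x⁻¹) * x⁻¹⁻¹ = b := by group
    rw [e1, e2] at h1
    exact h1
  · intro h; exact comm_conj h x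

theorem conj_not_center {k : G} (hk : k ∉ Subgroup.center G) (x : G) :
    x * k * x⁻¹ ∉ Subgroup.center G := by
  intro h
  apply hk
  have h1 := (inferInstance : (Subgroup.center G).Normal).conj_mem _ h x⁻¹
  have e1 : x⁻¹ * (x * k * x⁻¹) * x⁻¹⁻¹ = k := by group
  rw [e1] at h1
  exact h1

/-- the class of non-central elements commuting with a conjugate of `g` -/
def cls (g : G) : Set G := {k | k ∉ Subgroup.center G ∧ ∃ x : G, Commute k (x * g * x⁻¹)}

theorem self_mem_cls {g : G} (hg : g ∉ Subgroup.center G) : g ∈ cls g :=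
  ⟨hg, 1, by rw [one_mul, inv_one, mul_one]⟩

theorem cls_eq_of_mem (hct : CT G) {g g' : G} (hg : g ∉ Subgroup.center G) (h : g' ∈ cls g) :
    cls g' = cls g := by
  obtain ⟨hg', x₀, hx₀⟩ := h
  ext k
  constructor
  · rintro ⟨hk, x, hx⟩
    refine ⟨hk, x * x₀, ?_⟩
    have h1 : Commute (x * g' * x⁻¹) (x * (x₀ * g * x₀⁻¹) * x⁻¹) := comm_conj hx₀ x
    have h2 := hct k (x * g' * x⁻¹) (x * (x₀ * g * x₀⁻¹) * x⁻¹) (conj_not_center hg' x) hx h1
    have e : x * x₀ * g * (x * x₀)⁻¹ = x * (x₀ * g * x₀⁻¹) * x⁻¹ := by group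
    rw [e]; exact h2
  · rintro ⟨hk, x, hx⟩
    refine ⟨hk, x * x₀⁻¹, ?_⟩
    have h1 : Commute ((x * x₀⁻¹) * (x₀ * g * x₀⁻¹) * (x * x₀⁻¹)⁻¹)
        ((x * x₀⁻¹) * g' * (x * x₀⁻¹)⁻¹) := comm_conj hx₀.symm (x * x₀⁻¹)
    have e : (x * x₀⁻¹) * (x₀ * g * x₀⁻¹) * (x * x₀⁻¹)⁻¹ = x * g * x⁻¹ := by group
    rw [e] at h1
    exact hct k (x * g * x⁻¹) _ (conj_not_center hg x) hx h1

theorem cls_eq_of_inter (hct : CT G) {g g' k : G} (hg : g ∉ Subgroup.center G)
    (hg' : g' ∉ Subgroup.center G) (h1 : k ∈ cls g) (h2 : k ∈ cls g') : cls g = cls g' := by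
  rw [← cls_eq_of_mem hct hg h1, cls_eq_of_mem hct hg' h2]

theorem cz_eq_of_comm (hct : CT G) {g k : G} (hg : g ∉ Subgroup.center G)
    (hk : k ∉ Subgroup.center G) (h : Commute k g) : cz k = cz g := by
  ext c
  rw [mem_cz, mem_cz]
  constructor
  · intro hc; exact hct c k g hk hc h
  · intro hc; exact hct c g k hg hc h.symm

theorem card_cz_conj (g x : G) : Nat.card (cz (x * g * x⁻¹)) = Nat.card (cz g) := by
  symm
  apply Nat.card_congr
  exact Equiv.subtypeEquiv (MulAut.conj x).toEquiv (fun c => by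
    rw [mem_cz, mem_cz]
    show Commute c g ↔ Commute (x * c * x⁻¹) (x * g * x⁻¹)
    exact (comm_conj_iff x).symm)

theorem card_cz_of_mem_cls (hct : CT G) {g k : G} (hg : g ∉ Subgroup.center G) (h : k ∈ cls g) :
    Nat.card (cz k) = Nat.card (cz g) := by
  obtain ⟨hk, x, hx⟩ := h
  rw [cz_eq_of_comm hct (conj_not_center hg x) hk hx, card_cz_conj]

theorem pow_mem_center [Finite G] (g : G) (d : ℕ)
    (hd : Nat.card (cz g) = Nat.card (Subgroup.center G) * d) : g ^ d ∈ Subgroup.center G := by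
  have hle : Subgroup.center G ≤ cz g := Subgroup.center_le_centralizer _
  have hn : ((Subgroup.center G).subgroupOf (cz g)).Normal := inferInstance
  have hcard : Nat.card ((Subgroup.center G).subgroupOf (cz g)) = Nat.card (Subgroup.center G) :=
    Nat.card_congr (Subgroup.subgroupOfEquivOfLe hle).toEquiv
  have hidx : ((Subgroup.center G).subgroupOf (cz g)).index = d := by
    have h1 := ((Subgroup.center G).subgroupOf (cz g)).card_mul_index
    rw [hcard, hd] at h1
    have hpos : 0 < Nat.card (Subgroup.center G) := Nat.card_pos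
    exact Nat.eq_of_mul_eq_mul_left hpos h1
  have hmem := Subgroup.pow_index_mem ((Subgroup.center G).subgroupOf (cz g))
    (⟨g, mem_cz.mpr (Commute.refl g)⟩ : cz g)
  rw [hidx, Subgroup.mem_subgroupOf] at hmem
  simpa using hmem

theorem natCard_eq_card_filter [Fintype G] (H : Subgroup G) [DecidablePred (· ∈ H)] :
    Nat.card H = (univ.filter (· ∈ H)).card :=
  Nat.subtype_card _ (fun x => by simp)

theorem ncard_eq_card_filter [Fintype G] (s : Set G) [DecidablePred (· ∈ s)] :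
    s.ncard = (univ.filter (· ∈ s)).card := by
  rw [← Set.ncard_coe_finset]
  congr 1
  ext x; simp

theorem cls_card [Finite G] (hct : CT G) {g : G} (hg : g ∉ Subgroup.center G) :
    (cls g).ncard * Nat.card (nz g) =
      Nat.card G * (Nat.card (cz g) - Nat.card (Subgroup.center G)) := by
  classical
  haveI : Fintype G := Fintype.ofFinite G
  have e1 : (cls g).ncard = (univ.filter (· ∈ cls g)).card := ncard_eq_card_filter _
  have e2 : Nat.card (nz g) = (univ.filter (· ∈ nz g)).card :=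
    natCard_eq_card_filter _
  have e3 : Nat.card (cz g) = (univ.filter (· ∈ cz g)).card := natCard_eq_card_filter _
  have e4 : Nat.card (Subgroup.center G) = (univ.filter (· ∈ Subgroup.center G)).card :=
    natCard_eq_card_filter _
  have e5 : Nat.card G = (univ : Finset G).card := by
    rw [Nat.card_eq_fintype_card, Finset.card_univ]
  rw [e1, e2, e3, e4, e5]
  set W : Finset (G × G) :=
    univ.filter (fun q => q.2 ∉ Subgroup.center G ∧ Commute q.2 (q.1 * g * q.1⁻¹)) with hW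
  have c1 : W.card = ∑ x ∈ (univ : Finset G), (W.filter (fun q => q.1 = x)).card :=
    Finset.card_eq_sum_card_fiberwise (fun q _ => mem_univ _)
  have c2 : W.card = ∑ k ∈ univ.filter (· ∈ cls g), (W.filter (fun q => q.2 = k)).card :=
    Finset.card_eq_sum_card_fiberwise (fun q hq => by
      have hq' : q ∈ W := hq
      rw [hW, mem_filter] at hq'
      show q.2 ∈ univ.filter (· ∈ cls g)
      rw [mem_filter]
      exact ⟨mem_univ _, hq'.2.1, q.1, hq'.2.2⟩)
  have f1 : ∀ x ∈ (univ : Finset G), (W.filter (fun q => q.1 = x)).card =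
      (univ.filter (· ∈ cz g)).card - (univ.filter (· ∈ Subgroup.center G)).card := by
    intro x _
    have hsub : univ.filter (· ∈ Subgroup.center G) ⊆ univ.filter (· ∈ cz g) := by
      intro c hc
      rw [mem_filter] at hc ⊢
      exact ⟨mem_univ _, Subgroup.center_le_centralizer _ hc.2⟩
    rw [← Finset.card_sdiff_of_subset hsub]
    symm
    apply Finset.card_bij (fun c _ => (x, x * c * x⁻¹))
    · intro c hc
      rw [mem_sdiff, mem_filter, mem_filter] at hc
      rw [mem_filter, hW, mem_filter]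
      refine ⟨⟨mem_univ _, conj_not_center (fun h => hc.2 ⟨mem_univ _, h⟩) x, ?_⟩, rfl⟩
      exact comm_conj (mem_cz.mp hc.1.2) x
    · intro c _ c' _ h
      have h1 : x * c * x⁻¹ = x * c' * x⁻¹ := (Prod.mk.injEq _ _ _ _).mp h |>.2
      exact mul_left_cancel (mul_right_cancel h1)
    · intro q hq
      rw [mem_filter, hW, mem_filter] at hq
      obtain ⟨⟨-, hq1, hq2⟩, hqx⟩ := hq
      refine ⟨q.1⁻¹ * q.2 * q.1, ?_, ?_⟩
      · rw [mem_sdiff, mem_filter, mem_filter]
        refine ⟨⟨mem_univ _, mem_cz.mpr ?_⟩, fun h => ?_⟩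
        · have h1 := comm_conj hq2 q.1⁻¹
          have e1 : q.1⁻¹ * q.2 * q.1⁻¹⁻¹ = q.1⁻¹ * q.2 * q.1 := by group
          have e2 : q.1⁻¹ * (q.1 * g * q.1⁻¹) * q.1⁻¹⁻¹ = g := by group
          rw [e1, e2] at h1
          exact h1
        · have h1 := conj_not_center hq1 q.1⁻¹
          apply h1
          have e1 : q.1⁻¹ * q.2 * q.1⁻¹⁻¹ = q.1⁻¹ * q.2 * q.1 := by group
          rw [e1]
          exact h.2
      · rw [← hqx]
        have e1 : q.1 * (q.1⁻¹ * q.2 * q.1) * q.1⁻¹ = q.2 := by group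
        rw [e1]
  have f2 : ∀ k ∈ univ.filter (· ∈ cls g), (W.filter (fun q => q.2 = k)).card =
      (univ.filter (· ∈ nz g)).card := by
    intro k hk
    rw [mem_filter] at hk
    obtain ⟨-, hkc, x₀, hx₀⟩ := hk
    have hk0 : Commute (x₀⁻¹ * k * x₀) g := by
      have h1 := comm_conj hx₀ x₀⁻¹
      have e1 : x₀⁻¹ * k * x₀⁻¹⁻¹ = x₀⁻¹ * k * x₀ := by group
      have e2 : x₀⁻¹ * (x₀ * g * x₀⁻¹) * x₀⁻¹⁻¹ = g := by group
      rw [e1, e2] at h1
      exact h1
    have hk0c : x₀⁻¹ * k * x₀ ∉ Subgroup.center G := by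
      have h1 := conj_not_center hkc x₀⁻¹
      have e1 : x₀⁻¹ * k * x₀⁻¹⁻¹ = x₀⁻¹ * k * x₀ := by group
      rw [e1] at h1
      exact h1
    symm
    apply Finset.card_bij (fun n _ => (x₀ * n, k))
    · intro n hn
      rw [mem_filter] at hn
      rw [mem_filter, hW, mem_filter]
      refine ⟨⟨mem_univ _, hkc, ?_⟩, rfl⟩
      have hn1 : n * g * n⁻¹ ∈ cz g :=
        (mem_nz.mp hn.2 g).mp (mem_cz.mpr (Commute.refl g))
      have h3 : Commute (x₀⁻¹ * k * x₀) (n * g * n⁻¹) :=
        hct _ g _ hg hk0 (mem_cz.mp hn1).symm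
      have h4 := comm_conj h3 x₀
      have e1 : x₀ * (x₀⁻¹ * k * x₀) * x₀⁻¹ = k := by group
      have e2 : x₀ * (n * g * n⁻¹) * x₀⁻¹ = x₀ * n * g * (x₀ * n)⁻¹ := by group
      rw [e1, e2] at h4
      exact h4
    · intro n _ n' _ h
      have h1 : x₀ * n = x₀ * n' := (Prod.mk.injEq _ _ _ _).mp h |>.1
      exact mul_left_cancel h1
    · intro q hq
      rw [mem_filter, hW, mem_filter] at hq
      obtain ⟨⟨-, -, hq2⟩, hqk⟩ := hq
      refine ⟨x₀⁻¹ * q.1, ?_, ?_⟩
      · rw [mem_filter]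
        refine ⟨mem_univ _, ?_⟩
        have h5 : Commute (x₀⁻¹ * k * x₀) ((x₀⁻¹ * q.1) * g * (x₀⁻¹ * q.1)⁻¹) := by
          have h1 := comm_conj hq2 x₀⁻¹
          have e1 : x₀⁻¹ * q.2 * x₀⁻¹⁻¹ = x₀⁻¹ * k * x₀ := by rw [hqk]; group
          have e2 : x₀⁻¹ * (q.1 * g * q.1⁻¹) * x₀⁻¹⁻¹ = (x₀⁻¹ * q.1) * g * (x₀⁻¹ * q.1)⁻¹ := by
            group
          rw [e1, e2] at h1
          exact h1
        have h6 : Commute g ((x₀⁻¹ * q.1) * g * (x₀⁻¹ * q.1)⁻¹) := hct g _ _ hk0c hk0.symm h5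
        have hngc : (x₀⁻¹ * q.1) * g * (x₀⁻¹ * q.1)⁻¹ ∉ Subgroup.center G :=
          conj_not_center hg _
        rw [mem_nz]
        intro c
        rw [mem_cz, mem_cz]
        constructor
        · intro hc
          exact hct _ _ _ hngc (comm_conj hc (x₀⁻¹ * q.1)) h6.symm
        · intro hc
          have h7 : Commute ((x₀⁻¹ * q.1) * c * (x₀⁻¹ * q.1)⁻¹)
              ((x₀⁻¹ * q.1) * g * (x₀⁻¹ * q.1)⁻¹) := hct _ g _ hg hc h6
          exact (comm_conj_iff _).mp h7
      · rw [← hqk]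
        have e1 : x₀ * (x₀⁻¹ * q.1) = q.1 := by group
        rw [e1]
  rw [Finset.sum_congr rfl f1, Finset.sum_const, smul_eq_mul] at c1
  rw [Finset.sum_congr rfl f2, Finset.sum_const, smul_eq_mul] at c2
  rw [← c2, c1]

theorem card_normalizer_le [Finite G] (g : G)
    (h : ∀ n₁ n₂ : G, n₁ ∈ nz g → n₂ ∈ nz g → n₁ ∉ cz g → n₂ ∉ cz g →
      n₂⁻¹ * n₁ ∈ cz g) : Nat.card (nz g) ≤ 2 * Nat.card (cz g) := by
  classical
  haveI : Fintype G := Fintype.ofFinite G
  rw [natCard_eq_card_filter, natCard_eq_card_filter (cz g)]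
  by_cases hN : ∀ n ∈ nz g, n ∈ cz g
  · have h1 : (univ.filter (· ∈ nz g)).card ≤ (univ.filter (· ∈ cz g)).card :=
      Finset.card_le_card (fun n hn => by
        rw [mem_filter] at hn ⊢; exact ⟨mem_univ _, hN n hn.2⟩)
    omega
  · obtain ⟨n₀, hn₀⟩ := not_forall.mp hN
    obtain ⟨hn₀, hn₀'⟩ := Classical.not_imp.mp hn₀
    have hsub : univ.filter (· ∈ nz g) ⊆
        univ.filter (· ∈ cz g) ∪ (univ.filter (· ∈ cz g)).image (fun c => n₀ * c) := by
      intro n hn
      rw [mem_filter] at hn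
      rw [mem_union, mem_filter, mem_image]
      by_cases hc : n ∈ cz g
      · left; exact ⟨mem_univ _, hc⟩
      · right
        refine ⟨n₀⁻¹ * n, ?_, by group⟩
        rw [mem_filter]
        exact ⟨mem_univ _, h n n₀ hn.2 hn₀ hc hn₀'⟩
    have h1 := Finset.card_le_card hsub
    have h2 := Finset.card_union_le (univ.filter (· ∈ cz g))
      ((univ.filter (· ∈ cz g)).image (fun c => n₀ * c))
    have h3 := Finset.card_image_le (s := univ.filter (· ∈ cz g)) (f := fun c => n₀ * c)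
    omega

theorem card_dvd_of_free {Γ X : Type*} [Group Γ] [MulAction Γ X] [Finite Γ] [Finite X]
    (h : ∀ (γ : Γ) (x : X), γ • x = x → γ = 1) : Nat.card Γ ∣ Nat.card X := by
  have hs : ∀ b : X, MulAction.stabilizer Γ b = ⊥ := by
    intro b
    ext γ
    rw [MulAction.mem_stabilizer_iff, Subgroup.mem_bot]
    exact ⟨h γ b, fun e => by rw [e, one_smul]⟩
  have e := MulAction.selfEquivOrbitsQuotientProd hs
  rw [Nat.card_congr e, Nat.card_prod]
  exact dvd_mul_left _ _

theorem card_compl_add [Finite G] (H : Subgroup G) :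
    Nat.card {g : G // g ∉ H} + Nat.card H = Nat.card G := by
  classical
  have h1 := Nat.card_congr (Equiv.sumCompl (fun g : G => g ∈ H))
  rw [Nat.card_sum] at h1
  rw [← h1]
  exact add_comm _ _

end Cfsg.Agent.Helper18.Dickson
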