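import Mathlib
import Cfsg.Agent.Helper12.SL2Unip
import Cfsg.Agent.Helper12.SL2Gen
import Cfsg.Agent.Helper18.PSL2Aut1

set_option autoImplicit false

namespace Cfsg.Agent.Helper18.Dickson

open Matrix Cfsg.Agent.Helper12 Cfsg.Agent.Helper18.OutPSL2

variable {K : Type*} [Field K]

local notation "SL2" => Matrix.SpecialLinearGroup (Fin 2)
local notation "M2" => Matrix (Fin 2) (Fin 2)

theorem ct_sl (a b c : SL2 K) (hb : ¬ Sl2Scalar b) (hab : a * b = b * a) (hbc : b * c = c * b) :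
    a * c = c * a := by
  obtain ⟨x, y, ha⟩ := sl2_commutant b a hb hab.symm
  obtain ⟨x', y', hc⟩ := sl2_commutant b c hb hbc
  rw [sl2_mul_eq_iff, ha, hc]
  simp only [add_mul, mul_add, Matrix.smul_mul, Matrix.mul_smul, Matrix.one_mul, Matrix.mul_one,
    smul_smul]
  module

theorem semis_conj (h2 : (2 : K) ≠ 0) (g x : SL2 K)
    (hss : (g : M2 K).trace ^ 2 ≠ 4) (hc : g * x = x * g)
    (ht : (x : M2 K).trace = (g : M2 K).trace) : x = g ∨ x = g⁻¹ := by
  have hns : ¬ Sl2Scalar g := fun h => hss (sl2Scalar_trace_sq g h)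
  obtain ⟨α, β, hx⟩ := sl2_commutant g x hns hc
  obtain ⟨a, b, c, d, hg, hdet⟩ := sl2_eta g
  have hdx := x.det_coe
  rw [hx, hg] at hdx
  rw [hx, hg] at ht
  rw [hg] at hss
  have hdx' : (α + β * a) * (α + β * d) - (β * b) * (β * c) = 1 := by
    rw [← hdx, Matrix.det_fin_two]
    simp
  have ht' : (α + β * a) + (α + β * d) = a + d := by
    rw [Matrix.trace_fin_two, Matrix.trace_fin_two_of] at ht
    simpa using ht
  have hss' : (a + d) ^ 2 ≠ 4 := by
    rw [Matrix.trace_fin_two_of] at hss; exact hss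
  have key : (1 - β) * (1 + β) * ((a + d) ^ 2 - 4) = 0 := by
    linear_combination 4 * hdx' - 4 * β ^ 2 * hdet - (a + d + 2 * α + β * (a + d)) * ht'
  have hss'' : (a + d) ^ 2 - 4 ≠ 0 := sub_ne_zero.mpr hss'
  rcases mul_eq_zero.mp key with h1 | h1
  · rcases mul_eq_zero.mp h1 with hb | hb
    · have hβ : β = 1 := by linear_combination -hb
      have hα : α = 0 := by
        have h3 : 2 * α = 0 := by rw [hβ] at ht'; linear_combination ht'
        exact (mul_eq_zero.mp h3).resolve_left h2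
      left
      apply Subtype.ext
      rw [hx, hα, hβ]
      simp
    · have hβ : β = -1 := by linear_combination hb
      have hα : α = a + d := by
        have h3 : 2 * (α - (a + d)) = 0 := by rw [hβ] at ht'; linear_combination ht'
        have h4 := (mul_eq_zero.mp h3).resolve_left h2
        linear_combination h4
      right
      apply Subtype.ext
      rw [hx, Matrix.SpecialLinearGroup.coe_inv, hg, Matrix.adjugate_fin_two_of, hα, hβ]
      ext i j
      fin_cases i <;> fin_cases j <;> simp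
  · exact absurd h1 hss''

theorem sc_coeff (g : SL2 K) (n : ℕ) (x y : K)
    (h : (g : M2 K) ^ n = x • (1 : M2 K) + y • (g : M2 K))
    (hs : Sl2Scalar (g ^ n)) (hns : ¬ Sl2Scalar g) : y = 0 := by
  by_contra hy
  apply hns
  obtain ⟨h01, h10, h00⟩ := hs
  rw [Matrix.SpecialLinearGroup.coe_pow, h] at h01 h10 h00
  have e01 : (x • (1 : M2 K) + y • (g : M2 K)) 0 1 = y * (g : M2 K) 0 1 := by simp
  have e10 : (x • (1 : M2 K) + y • (g : M2 K)) 1 0 = y * (g : M2 K) 1 0 := by simp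
  have e00 : (x • (1 : M2 K) + y • (g : M2 K)) 0 0 = x + y * (g : M2 K) 0 0 := by simp
  have e11 : (x • (1 : M2 K) + y • (g : M2 K)) 1 1 = x + y * (g : M2 K) 1 1 := by simp
  rw [e01] at h01
  rw [e10] at h10
  rw [e00, e11] at h00
  exact ⟨(mul_eq_zero.mp h01).resolve_left hy, (mul_eq_zero.mp h10).resolve_left hy,
    mul_left_cancel₀ hy (add_left_cancel h00)⟩

theorem sc_sq (g : SL2 K) (hns : ¬ Sl2Scalar g) (hs : Sl2Scalar (g ^ 2)) :
    (g : M2 K).trace = 0 := by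
  have hC := sl2_cayley g
  have h : (g : M2 K) ^ 2 = (-1 : K) • (1 : M2 K) + (g : M2 K).trace • (g : M2 K) := by
    rw [pow_two, hC]; module
  exact sc_coeff g 2 _ _ h hs hns

theorem sc_pow5 (g : SL2 K) (hns : ¬ Sl2Scalar g) (hs : Sl2Scalar (g ^ 5)) :
    (g : M2 K).trace ^ 4 - 3 * (g : M2 K).trace ^ 2 + 1 = 0 := by
  have hC := sl2_cayley g
  generalize (g : M2 K).trace = t at hC ⊢
  have step : ∀ α β : K, (α • (g : M2 K) + β • (1 : M2 K)) * (g : M2 K) =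
      (α * t + β) • (g : M2 K) + (-α) • (1 : M2 K) := by
    intro α β
    rw [add_mul, Matrix.smul_mul, Matrix.smul_mul, Matrix.one_mul, hC]
    module
  have e1 : (g : M2 K) ^ 1 = (1 : K) • (g : M2 K) + (0 : K) • (1 : M2 K) := by
    rw [pow_one]; module
  have e2 := step 1 0
  rw [← e1, ← pow_succ] at e2
  have e3 := step (1 * t + 0) (-1)
  rw [← e2, ← pow_succ] at e3
  have e4 := step ((1 * t + 0) * t + -1) (-(1 * t + 0))
  rw [← e3, ← pow_succ] at e4
  have e5 := step (((1 * t + 0) * t + -1) * t + -(1 * t + 0)) (-((1 * t + 0) * t + -1))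
  rw [← e4, ← pow_succ] at e5
  have h := e5.trans (add_comm _ _)
  have h0 := sc_coeff g 5 _ _ h hs hns
  linear_combination h0

theorem sq_tr (g : SL2 K) : ((g ^ 2 : SL2 K) : M2 K).trace = (g : M2 K).trace ^ 2 - 2 := by
  rw [Matrix.SpecialLinearGroup.coe_pow, pow_two, sl2_cayley, Matrix.trace_sub, Matrix.trace_smul,
    Matrix.trace_one, Fintype.card_fin]
  simp only [smul_eq_mul]
  push_cast
  ring

theorem tr2_pow (p : ℕ) [Fact p.Prime] [CharP K p] (g : SL2 K) (htr : (g : M2 K).trace = 2) :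
    g ^ p = 1 := by
  apply Subtype.ext
  rw [Matrix.SpecialLinearGroup.coe_pow, sl2_unip_pow p g 1 (by rw [htr, mul_one]) (by ring)]
  simp

theorem tr_U_lo (s t : K) : ((sl2U s * lo t : SL2 K) : M2 K).trace = 2 + s * t := by
  rw [Matrix.SpecialLinearGroup.coe_mul, sl2U_val, lo_val, Matrix.mul_fin_two,
    Matrix.trace_fin_two_of]
  ring

theorem lo_pow (b : K) (n : ℕ) : (lo b : SL2 K) ^ n = lo (n * b) := by
  induction n with
  | zero => rw [pow_zero, Nat.cast_zero, zero_mul, lo_zero]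
  | succ k ih =>
    rw [pow_succ, ih, lo_mul]
    congr 1
    push_cast
    ring

theorem lo_neg_eq_inv (x : K) : (lo (-x) : SL2 K) = (lo x)⁻¹ := by
  rw [eq_inv_iff_mul_eq_one, lo_mul, neg_add_cancel, lo_zero]

theorem nf2 (y : SL2 K) (hy : (y : M2 K).trace = 2) (h10 : (y : M2 K) 1 0 ≠ 0) :
    ∃ γ : K, sl2U γ * y * (sl2U γ)⁻¹ = lo ((y : M2 K) 1 0) := by
  obtain ⟨a, b, c, d, hym, hdet⟩ := sl2_eta y
  rw [hym] at h10 hy
  rw [Matrix.trace_fin_two_of] at hy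
  have hc : c ≠ 0 := h10
  have hc' : (y : M2 K) 1 0 = c := by rw [hym]; rfl
  obtain ⟨γ, hγ⟩ : ∃ γ : K, γ * c = 1 - a := ⟨(1 - a) / c, by field_simp⟩
  refine ⟨γ, ?_⟩
  rw [hc', mul_inv_eq_iff_eq_mul, sl2_mul_eq_iff, hym, sl2U_val, lo_val, Matrix.mul_fin_two,
    Matrix.mul_fin_two]
  refine mat2_ext ?_ ?_ ?_ ?_
  · linear_combination hγ
  · apply mul_left_cancel₀ hc
    linear_combination (d - 1) * hγ - hdet + hy
  · ring
  · linear_combination hy - hγ

theorem nf (h2 : (2 : K) ≠ 0) (x y : SL2 K) (hx : (x : M2 K).trace = 2)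
    (hy : (y : M2 K).trace = 2) (hxy : x * y ≠ y * x) :
    ∃ (D : SL2 K) (s t : K), s ≠ 0 ∧ t ≠ 0 ∧ D * x * D⁻¹ = sl2U s ∧ D * y * D⁻¹ = lo t := by
  have hx1 : x ≠ 1 := by
    rintro rfl
    exact hxy (by rw [one_mul, mul_one])
  obtain ⟨b, hb, hconj⟩ := sl2_exists_conj_sl2U h2 x hx hx1
  rw [isConj_iff] at hconj
  obtain ⟨c, hc⟩ := hconj
  have hy' : ((c * y * c⁻¹ : SL2 K) : M2 K).trace = 2 := by rw [sl2_trace_conj, hy]
  have h10 : ((c * y * c⁻¹ : SL2 K) : M2 K) 1 0 ≠ 0 := by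
    intro h0
    apply hxy
    have hcomm : (c * y * c⁻¹) * sl2U b = sl2U b * (c * y * c⁻¹) := by
      rw [sl2U_comm_iff hb]
      refine ⟨h0, ?_⟩
      obtain ⟨a', b', c', d', hm, hdet⟩ := sl2_eta (c * y * c⁻¹)
      rw [hm] at h0 hy' ⊢
      rw [Matrix.trace_fin_two_of] at hy'
      have hc0 : c' = 0 := h0
      show a' = d'
      have h5 : (a' - d') ^ 2 = 0 := by
        rw [hc0] at hdet
        linear_combination (a' + d' + 2) * hy' - 4 * hdet
      have h6 := (pow_eq_zero_iff (two_ne_zero)).mp h5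
      linear_combination h6
    rw [← hc] at hcomm
    have h7 : c⁻¹ * (c * y * c⁻¹ * (c * x * c⁻¹)) * c = c⁻¹ * (c * x * c⁻¹ * (c * y * c⁻¹)) * c :=
      congrArg (fun m => c⁻¹ * m * c) hcomm
    have e1 : c⁻¹ * (c * y * c⁻¹ * (c * x * c⁻¹)) * c = y * x := by group
    have e2 : c⁻¹ * (c * x * c⁻¹ * (c * y * c⁻¹)) * c = x * y := by group
    rw [e1, e2] at h7
    exact h7.symm
  obtain ⟨γ, hγ⟩ := nf2 (c * y * c⁻¹) hy' h10
  refine ⟨sl2U γ * c, b, _, hb, h10, ?_, ?_⟩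
  · have e : sl2U γ * c * x * (sl2U γ * c)⁻¹ = sl2U γ * (c * x * c⁻¹) * (sl2U γ)⁻¹ := by group
    rw [e, hc, mul_inv_eq_iff_eq_mul, sl2U_mul, sl2U_mul, add_comm]
  · have e : sl2U γ * c * y * (sl2U γ * c)⁻¹ = sl2U γ * (c * y * c⁻¹) * (sl2U γ)⁻¹ := by group
    rw [e, hγ]

section theta
variable {R : Type*} [Field R]

/-- `X ↦ diag(c,1) τ(X) diag(c,1)⁻¹` for a ring homomorphism `τ : R → K` -/
def thetaZ (c : Kˣ) (τ : R →+* K) : SL2 R →* SL2 K where
  toFun X := sl2mk (τ ((X : M2 R) 0 0)) (c * τ ((X : M2 R) 0 1))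
    (((c⁻¹ : Kˣ) : K) * τ ((X : M2 R) 1 0)) (τ ((X : M2 R) 1 1)) (by
      have h := X.det_coe
      rw [Matrix.det_fin_two] at h
      have h2 := congrArg τ h
      simp only [map_sub, map_mul, map_one] at h2
      have hc : (c : K) * ((c⁻¹ : Kˣ) : K) = 1 := by simp
      linear_combination h2 - τ ((X : M2 R) 0 1) * τ ((X : M2 R) 1 0) * hc)
  map_one' := by
    apply Subtype.ext
    simp only [sl2mk_val, Matrix.SpecialLinearGroup.coe_one, Matrix.one_fin_two]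
    refine mat2_ext ?_ ?_ ?_ ?_ <;> simp
  map_mul' X Y := by
    have hc : (c : K) * ((c⁻¹ : Kˣ) : K) = 1 := by simp
    obtain ⟨a, b, c', d, hX, -⟩ := sl2_eta X
    obtain ⟨a', b', c'', d', hY, -⟩ := sl2_eta Y
    apply Subtype.ext
    simp only [sl2mk_val, Matrix.SpecialLinearGroup.coe_mul, hX, hY, Matrix.mul_fin_two]
    simp only [Matrix.of_apply, Matrix.cons_val', Matrix.cons_val_zero, Matrix.cons_val_one,
      Matrix.cons_val_fin_one, map_add, map_mul]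
    refine mat2_ext ?_ ?_ ?_ ?_
    · linear_combination (-(τ b * τ c'')) * hc
    · ring
    · ring
    · linear_combination (-(τ c' * τ b')) * hc

theorem thetaZ_val (c : Kˣ) (τ : R →+* K) (X : SL2 R) :
    ((thetaZ c τ X : SL2 K) : M2 K) =
      !![τ ((X : M2 R) 0 0), c * τ ((X : M2 R) 0 1);
        ((c⁻¹ : Kˣ) : K) * τ ((X : M2 R) 1 0), τ ((X : M2 R) 1 1)] := rfl

theorem thetaZ_U (c : Kˣ) (τ : R →+* K) (b : R) : thetaZ c τ (sl2U b) = sl2U (c * τ b) := by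
  apply Subtype.ext
  rw [thetaZ_val, sl2U_val, sl2U_val]
  refine mat2_ext ?_ ?_ ?_ ?_ <;> simp

theorem thetaZ_L (c : Kˣ) (τ : R →+* K) (b : R) :
    thetaZ c τ (lo b) = lo (((c⁻¹ : Kˣ) : K) * τ b) := by
  apply Subtype.ext
  rw [thetaZ_val, lo_val, lo_val]
  refine mat2_ext ?_ ?_ ?_ ?_ <;> simp

theorem thetaZ_inj (c : Kˣ) (τ : R →+* K) : Function.Injective (thetaZ c τ) := by
  intro X Y h
  have h' := congrArg (fun X : SL2 K => (X : M2 K)) h
  simp only [thetaZ_val] at h'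
  obtain ⟨h00, h01, h10, h11⟩ := mat2_inj h'
  have hτ := τ.injective
  have hc0 : (c : K) ≠ 0 := c.ne_zero
  have hc1 : ((c⁻¹ : Kˣ) : K) ≠ 0 := (c⁻¹).ne_zero
  apply Subtype.ext
  ext i j
  fin_cases i <;> fin_cases j
  · exact hτ h00
  · exact hτ (mul_left_cancel₀ hc0 h01)
  · exact hτ (mul_left_cancel₀ hc1 h10)
  · exact hτ h11

end theta

theorem gen_zmod (p : ℕ) [Fact p.Prime] (H : Subgroup (SL2 (ZMod p)))
    (hu : sl2U (1 : ZMod p) ∈ H) (hl : lo (1 : ZMod p) ∈ H) : H = ⊤ := by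
  have hU : ∀ y : ZMod p, sl2U y ∈ H := by
    intro y
    have e : (sl2U (1 : ZMod p)) ^ y.val = sl2U y := by
      rw [sl2U_pow, mul_one, ZMod.natCast_zmod_val]
    rw [← e]; exact H.pow_mem hu _
  refine sl2_generate (lo 1) ?_ H hU (fun y => H.mul_mem (H.mul_mem hl (hU y)) (H.inv_mem hl))
  rw [lo_val]
  show (1 : ZMod p) ≠ 0
  exact one_ne_zero

theorem phi_exists (p : ℕ) [Fact p.Prime] [CharP K p] (L : Subgroup (SL2 K)) (D : SL2 K)
    (α β : K) (m : ZMod p) (hm : m ≠ 0) (hαβ : α * β = ZMod.castHom (dvd_refl p) K m)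
    (hu : D * sl2U α * D⁻¹ ∈ L) (hl : D * lo β * D⁻¹ ∈ L) :
    ∃ φ : SL2 (ZMod p) →* SL2 K, Function.Injective φ ∧ ∀ g, φ g ∈ L := by
  have hιm : ZMod.castHom (dvd_refl p) K m ≠ 0 := by
    intro h0
    exact hm ((map_eq_zero (ZMod.castHom (dvd_refl p) K)).mp h0)
  have hα : α ≠ 0 := by
    rintro rfl
    rw [zero_mul] at hαβ
    exact hιm hαβ.symm
  have hβ : β ≠ 0 := by
    rintro rfl
    rw [mul_zero] at hαβ
    exact hιm hαβ.symm
  refine ⟨(MulAut.conj D).toMonoidHom.comp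
    (thetaZ (Units.mk0 α hα) (ZMod.castHom (dvd_refl p) K)), ?_, ?_⟩
  · intro X Y h
    apply thetaZ_inj (Units.mk0 α hα) (ZMod.castHom (dvd_refl p) K)
    exact (MulAut.conj D).injective h
  · have hH : L.comap ((MulAut.conj D).toMonoidHom.comp
        (thetaZ (Units.mk0 α hα) (ZMod.castHom (dvd_refl p) K))) = ⊤ := by
      apply gen_zmod
      · rw [Subgroup.mem_comap]
        show D * thetaZ (Units.mk0 α hα) (ZMod.castHom (dvd_refl p) K) (sl2U 1) * D⁻¹ ∈ L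
        rw [thetaZ_U, map_one, mul_one, Units.val_mk0]
        exact hu
      · rw [Subgroup.mem_comap]
        show D * thetaZ (Units.mk0 α hα) (ZMod.castHom (dvd_refl p) K) (lo 1) * D⁻¹ ∈ L
        rw [thetaZ_L, map_one, mul_one]
        have hk : (((m⁻¹).val : ℕ) : K) = (ZMod.castHom (dvd_refl p) K m)⁻¹ := by
          have h1 : (((m⁻¹).val : ℕ) : K) =
              ZMod.castHom (dvd_refl p) K (((m⁻¹).val : ℕ) : ZMod p) := by rw [map_natCast]
          rw [h1, ZMod.natCast_zmod_val, map_inv₀]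
        have e : lo (((Units.mk0 α hα)⁻¹ : Kˣ) : K) = (lo β) ^ (m⁻¹).val := by
          rw [lo_pow, hk]
          congr 1
          rw [Units.val_inv_eq_inv_val, Units.val_mk0, ← hαβ, mul_inv, mul_assoc,
            inv_mul_cancel₀ hβ, mul_one]
        rw [e, ← conj_pow]
        exact L.pow_mem hl _
    intro g
    have hg : g ∈ L.comap ((MulAut.conj D).toMonoidHom.comp
        (thetaZ (Units.mk0 α hα) (ZMod.castHom (dvd_refl p) K))) := by
      rw [hH]; exact Subgroup.mem_top g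
    exact hg

theorem exc_id (h3 : (3 : K) = 0) (s t : K) (hs : s ≠ 0) (hμ : (s * t) ^ 2 = -1) :
    sl2U (s * (s * t - 1)) * lo (s⁻¹) * (sl2U (s * (s * t - 1)))⁻¹ =
      (lo t * sl2U s) * lo t * (lo t * sl2U s)⁻¹ := by
  have hss : s * s⁻¹ = 1 := mul_inv_cancel₀ hs
  have e1 : ∀ γ σ : K, sl2U γ * lo σ * (sl2U γ)⁻¹ =
      sl2mk (1 + γ * σ) (-(γ ^ 2 * σ)) σ (1 - γ * σ) (by ring) := by
    intro γ σ
    rw [mul_inv_eq_iff_eq_mul]
    apply Subtype.ext
    simp only [Matrix.SpecialLinearGroup.coe_mul, lo_val, sl2U_val, sl2mk_val, Matrix.mul_fin_two]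
    refine mat2_ext ?_ ?_ ?_ ?_ <;> ring
  have e2 : (lo t * sl2U s) * lo t * (lo t * sl2U s)⁻¹ =
      sl2mk (1 + s * t * (1 + s * t)) (-(t * s ^ 2)) (t * (1 + s * t) ^ 2)
        (1 - s * t * (1 + s * t)) (by ring) := by
    rw [mul_inv_eq_iff_eq_mul]
    apply Subtype.ext
    simp only [Matrix.SpecialLinearGroup.coe_mul, lo_val, sl2U_val, sl2mk_val, Matrix.mul_fin_two]
    refine mat2_ext ?_ ?_ ?_ ?_ <;> ring
  rw [e1, e2]
  apply Subtype.ext
  rw [sl2mk_val, sl2mk_val]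
  refine mat2_ext ?_ ?_ ?_ ?_
  · linear_combination (s * t - 1) * hss - hμ
  · linear_combination (-(s * (s * t - 1) ^ 2)) * hss - s * hμ + (s * (s * t)) * h3
  · linear_combination (s⁻¹ - t) * hμ - (t * (s * t)) * hss - (t * (s * t)) * h3
  · linear_combination (-(s * t - 1)) * hss + hμ

theorem conj10 (g u : SL2 K) (h10 : (u : M2 K) 1 0 = 0) (h00 : (u : M2 K) 0 0 = 1)
    (h11 : (u : M2 K) 1 1 = 1) :
    ((g * u * g⁻¹ : SL2 K) : M2 K) 1 0 = -((u : M2 K) 0 1 * (g : M2 K) 1 0 ^ 2) := by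
  obtain ⟨a, b, c, d, hg, hdet⟩ := sl2_eta g
  obtain ⟨x, y, z, w, hu, -⟩ := sl2_eta u
  rw [hu] at h10 h00 h11
  have hz : z = 0 := h10
  have hx : x = 1 := h00
  have hw : w = 1 := h11
  subst hz hx hw
  rw [Matrix.SpecialLinearGroup.coe_mul, Matrix.SpecialLinearGroup.coe_mul,
    Matrix.SpecialLinearGroup.coe_inv, hg, hu, Matrix.adjugate_fin_two_of, Matrix.mul_fin_two,
    Matrix.mul_fin_two]
  show (c * 1 + d * 0) * d + (c * y + d * 1) * -c = -(y * c ^ 2)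
  ring

theorem conj_upper (n c : SL2 K) (hn : (n : M2 K) 1 0 = 0) :
    ((n * c * n⁻¹ : SL2 K) : M2 K) 1 0 = (n : M2 K) 1 1 ^ 2 * (c : M2 K) 1 0 ∧
    ((n * c * n⁻¹ : SL2 K) : M2 K) 0 0 =
      (c : M2 K) 0 0 + (n : M2 K) 0 1 * (n : M2 K) 1 1 * (c : M2 K) 1 0 ∧
    ((n * c * n⁻¹ : SL2 K) : M2 K) 1 1 =
      (c : M2 K) 1 1 - (n : M2 K) 0 1 * (n : M2 K) 1 1 * (c : M2 K) 1 0 := by
  obtain ⟨x, y, z, w, hnm, hdet⟩ := sl2_eta n
  obtain ⟨a, b, c', d, hcm, -⟩ := sl2_eta c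
  rw [hnm] at hn
  have hz : z = 0 := hn
  subst hz
  have hxw : x * w = 1 := by linear_combination hdet
  rw [Matrix.SpecialLinearGroup.coe_mul, Matrix.SpecialLinearGroup.coe_mul,
    Matrix.SpecialLinearGroup.coe_inv, hnm, hcm, Matrix.adjugate_fin_two_of, Matrix.mul_fin_two,
    Matrix.mul_fin_two]
  refine ⟨?_, ?_, ?_⟩
  · show (0 * a + w * c') * w + (0 * b + w * d) * -0 = w ^ 2 * c'
    ring
  · show (x * a + y * c') * w + (x * b + y * d) * -0 = a + y * w * c'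
    linear_combination a * hxw
  · show (0 * a + w * c') * -y + (0 * b + w * d) * x = d - y * w * c'
    linear_combination d * hxw

theorem comm_upper10 (g c : SL2 K) (hg10 : (g : M2 K) 1 0 = 0)
    (hne : (g : M2 K) 0 0 ≠ (g : M2 K) 1 1) (hc : c * g = g * c) : (c : M2 K) 1 0 = 0 := by
  obtain ⟨x, y, z, w, hgm, -⟩ := sl2_eta g
  obtain ⟨a, b, c', d, hcm, -⟩ := sl2_eta c
  rw [hgm] at hg10 hne
  have hz : z = 0 := hg10
  have hxw : x ≠ w := hne
  subst hz
  rw [sl2_mul_eq_iff, hgm, hcm, Matrix.mul_fin_two, Matrix.mul_fin_two] at hc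
  have e10 : c' * x + d * 0 = 0 * a + w * c' := congrFun (congrFun hc 1) 0
  rw [hcm]
  show c' = 0
  have h : c' * (x - w) = 0 := by linear_combination e10
  exact (mul_eq_zero.mp h).resolve_right (sub_ne_zero.mpr hxw)

theorem comm_upper01 (g c : SL2 K) (hg10 : (g : M2 K) 1 0 = 0)
    (hne : (g : M2 K) 0 0 ≠ (g : M2 K) 1 1) (hc : c * g = g * c)
    (hc00 : (c : M2 K) 0 0 = (c : M2 K) 1 1) : (c : M2 K) 0 1 = 0 := by
  obtain ⟨x, y, z, w, hgm, -⟩ := sl2_eta g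
  obtain ⟨a, b, c', d, hcm, -⟩ := sl2_eta c
  rw [hgm] at hg10 hne
  rw [hcm] at hc00
  have hz : z = 0 := hg10
  have hxw : x ≠ w := hne
  have had : a = d := hc00
  subst hz had
  rw [sl2_mul_eq_iff, hgm, hcm, Matrix.mul_fin_two, Matrix.mul_fin_two] at hc
  have e01 : a * y + b * w = x * b + y * a := congrFun (congrFun hc 0) 1
  rw [hcm]
  show b = 0
  have h : b * (w - x) = 0 := by linear_combination e01
  exact (mul_eq_zero.mp h).resolve_right (sub_ne_zero.mpr (Ne.symm hxw))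

theorem bruhat_entry (α t : K) :
    (((lo t)⁻¹ * (sl2U α)⁻¹ * (lo t)⁻¹ : SL2 K) : M2 K) 1 0 = -(2 * t) - t ^ 2 * α := by
  rw [← lo_neg_eq_inv, ← sl2U_neg_eq_inv, Matrix.SpecialLinearGroup.coe_mul,
    Matrix.SpecialLinearGroup.coe_mul, lo_val, sl2U_val, Matrix.mul_fin_two, Matrix.mul_fin_two]
  show (-t * 1 + 1 * 0) * 1 + (-t * -α + 1 * 1) * -t = -(2 * t) - t ^ 2 * α
  ring

theorem neg_unip (p : ℕ) [Fact p.Prime] [CharP K p] (hp2 : p ≠ 2) (g : SL2 K)
    (h10 : (g : M2 K) 1 0 = 0) (h00 : (g : M2 K) 0 0 = -1) (h11 : (g : M2 K) 1 1 = -1) :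
    (∃ m : ℕ, (g * g) ^ m = sl2U ((g : M2 K) 0 1)) ∧ Sl2Scalar (g * sl2U ((g : M2 K) 0 1)) := by
  obtain ⟨a, b, c, d, hg, -⟩ := sl2_eta g
  rw [hg] at h10 h00 h11
  have hc : c = 0 := h10
  have ha : a = -1 := h00
  have hd : d = -1 := h11
  subst hc ha hd
  have hb : (g : M2 K) 0 1 = b := by rw [hg]; rfl
  rw [hb]
  have hgg : g * g = sl2U (-2 * b) := by
    apply Subtype.ext
    rw [Matrix.SpecialLinearGroup.coe_mul, hg, sl2U_val, Matrix.mul_fin_two]
    refine mat2_ext ?_ ?_ ?_ ?_ <;> ring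
  constructor
  · have hodd := (Fact.out : p.Prime).eq_two_or_odd'.resolve_left hp2
    obtain ⟨m, hm⟩ := hodd
    refine ⟨m, ?_⟩
    rw [hgg, sl2U_pow]
    congr 1
    have hpK : ((p : ℕ) : K) = 0 := CharP.cast_eq_zero K p
    rw [hm] at hpK
    push_cast at hpK
    linear_combination (-b) * hpK
  · unfold Sl2Scalar
    rw [Matrix.SpecialLinearGroup.coe_mul, hg, sl2U_val, Matrix.mul_fin_two]
    refine ⟨?_, ?_, ?_⟩
    · show -1 * b + b * 1 = 0
      ring
    · show (0 : K) * 1 + -1 * 0 = 0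
      ring
    · show -1 * 1 + b * 0 = 0 * b + -1 * 1
      ring

theorem lo_comm01 {t : K} (ht : t ≠ 0) (X : SL2 K) (h : X * lo t = lo t * X) :
    (X : M2 K) 0 1 = 0 := by
  obtain ⟨x, y, z, w, hXm, -⟩ := sl2_eta X
  rw [sl2_mul_eq_iff, hXm, lo_val, Matrix.mul_fin_two, Matrix.mul_fin_two] at h
  have e00 : x * 1 + y * t = 1 * x + 0 * z := congrFun (congrFun h 0) 0
  rw [hXm]
  show y = 0
  have h3 : y * t = 0 := by linear_combination e00
  exact (mul_eq_zero.mp h3).resolve_right ht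

theorem upper_tr2 (g : SL2 K) (h10 : (g : M2 K) 1 0 = 0) (htr : (g : M2 K).trace = 2) :
    (g : M2 K) 0 0 = 1 ∧ (g : M2 K) 1 1 = 1 := by
  obtain ⟨a, b, c, d, hg, hdet⟩ := sl2_eta g
  rw [hg] at h10 htr ⊢
  rw [Matrix.trace_fin_two_of] at htr
  have hc : c = 0 := h10
  subst hc
  have h1 : (a - 1) ^ 2 = 0 := by linear_combination a * htr - hdet
  have h2 := (pow_eq_zero_iff (two_ne_zero)).mp h1
  have ha : a = 1 := by linear_combination h2
  refine ⟨ha, ?_⟩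
  show d = 1
  linear_combination htr - ha

theorem upper_sq (g : SL2 K) (h10 : (g : M2 K) 1 0 = 0)
    (h00 : (g : M2 K) 0 0 = (g : M2 K) 1 1) :
    (g : M2 K) 0 0 = 1 ∨ (g : M2 K) 0 0 = -1 := by
  obtain ⟨a, b, c, d, hg, hdet⟩ := sl2_eta g
  rw [hg] at h10 h00 ⊢
  have hc : c = 0 := h10
  have had : a = d := h00
  subst hc had
  show a = 1 ∨ a = -1
  have h1 : (a - 1) * (a + 1) = 0 := by linear_combination hdet
  rcases mul_eq_zero.mp h1 with h | h
  · left; linear_combination h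
  · right; linear_combination h

theorem upper_ss (g : SL2 K) (h10 : (g : M2 K) 1 0 = 0)
    (hne : (g : M2 K) 0 0 ≠ (g : M2 K) 1 1) : (g : M2 K).trace ^ 2 ≠ 4 := by
  obtain ⟨a, b, c, d, hg, hdet⟩ := sl2_eta g
  rw [hg] at h10 hne ⊢
  rw [Matrix.trace_fin_two_of]
  have hc : c = 0 := h10
  have had : a ≠ d := hne
  subst hc
  intro h
  apply had
  have h1 : (a - d) ^ 2 = 0 := by linear_combination h - 4 * hdet
  have h2 := (pow_eq_zero_iff (two_ne_zero)).mp h1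
  linear_combination h2

theorem comm_U_tr {b : K} (hb : b ≠ 0) (X : SL2 K) (h : X * sl2U b = sl2U b * X) :
    (X : M2 K).trace ^ 2 = 4 := by
  obtain ⟨h10, h00⟩ := (sl2U_comm_iff hb X).mp h
  obtain ⟨a, b', c, d, hg, hdet⟩ := sl2_eta X
  rw [hg] at h10 h00 ⊢
  rw [Matrix.trace_fin_two_of]
  have hc : c = 0 := h10
  have had : a = d := h00
  subst hc had
  linear_combination 4 * hdet

end Cfsg.Agent.Helper18.Dickson
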