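import Mathlib

set_option autoImplicit false

namespace Cfsg.Agent.Helper18.Dickson

/-- case `h = z` -/
theorem numA (a r z e n κ kU : ℕ) (ha : 3 ≤ a) (hr : 1 ≤ r) (hz : 1 ≤ z) (he : 1 ≤ e)
    (hkU : kU + (1 + r * a) * z = (1 + r * a) * z * a)
    (hκ : κ * n = a * z * (1 + r * a) * (z * e)) (hn : n ≤ 2 * (z * (e + 1)))
    (hsum : κ + kU + z ≤ a * z * (1 + r * a)) : e = 1 := by
  have h1 : κ ≤ r * a * z := by nlinarith [hkU, hsum]
  have h2 : a * z * (1 + r * a) * (z * e) ≤ (r * a * z) * (2 * (z * (e + 1))) := by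
    rw [← hκ]; exact Nat.mul_le_mul h1 hn
  have h3 : (a * z * z) * ((1 + r * a) * e) ≤ (a * z * z) * (2 * r * (e + 1)) := by
    calc (a * z * z) * ((1 + r * a) * e) = a * z * (1 + r * a) * (z * e) := by ring
      _ ≤ (r * a * z) * (2 * (z * (e + 1))) := h2
      _ = (a * z * z) * (2 * r * (e + 1)) := by ring
  have hpos : 0 < a * z * z := Nat.mul_pos (Nat.mul_pos (by omega) (by omega)) (by omega)
  have h4 : (1 + r * a) * e ≤ 2 * r * (e + 1) := Nat.le_of_mul_le_mul_left h3 hpos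
  by_contra hne
  have he2 : 2 ≤ e := by omega
  have h5 : r * 3 * e ≤ r * a * e := Nat.mul_le_mul_right e (Nat.mul_le_mul_left r ha)
  have h6 : r * 2 ≤ r * e := Nat.mul_le_mul_left r he2
  nlinarith [h4, h5, h6]

theorem numB1 (a r z f κ0 kU Rc : ℕ) (hz : 1 ≤ z)
    (hkU : kU + (1 + r * a) * z = (1 + r * a) * z * a)
    (hκ0 : κ0 * (z * (f + 1)) = a * (z * (f + 1)) * (1 + r * a) * (z * f))
    (hR : Rc + κ0 + kU + z = a * (z * (f + 1)) * (1 + r * a)) : Rc = r * a * z := by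
  have hpos : 0 < z * (f + 1) := Nat.mul_pos (by omega) (by omega)
  have k0 : κ0 = a * (1 + r * a) * (z * f) := by
    apply Nat.eq_of_mul_eq_mul_right hpos
    rw [hκ0]; ring
  subst k0
  nlinarith [hkU, hR]

theorem numB1F (a r z f κ1 Rc : ℕ) (ha : 3 ≤ a) (hr : 1 ≤ r) (hz : 1 ≤ z) (hf : 1 ≤ f)
    (hRc : Rc = r * a * z) (h4 : a * (z * (f + 1)) * (1 + r * a) ≤ 4 * κ1) (hle : κ1 ≤ Rc) :
    False := by
  subst hRc
  have h1 : a * (z * 2) * (1 + r * a) ≤ a * (z * (f + 1)) * (1 + r * a) := by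
    apply Nat.mul_le_mul_right
    apply Nat.mul_le_mul_left
    apply Nat.mul_le_mul_left
    omega
  have h2 : (a * z) * (2 * (1 + r * a)) ≤ (a * z) * (4 * r) := by
    calc (a * z) * (2 * (1 + r * a)) = a * (z * 2) * (1 + r * a) := by ring
      _ ≤ a * (z * (f + 1)) * (1 + r * a) := h1
      _ ≤ 4 * κ1 := h4
      _ ≤ 4 * (r * a * z) := by omega
      _ = (a * z) * (4 * r) := by ring
  have hpos : 0 < a * z := Nat.mul_pos (by omega) (by omega)
  have h3 := Nat.le_of_mul_le_mul_left h2 hpos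
  have h5 : r * 3 ≤ r * a := Nat.mul_le_mul_left r ha
  linarith

theorem numC_R (a r z f κ0 kU Rc : ℕ) (hz : 1 ≤ z)
    (hkU : kU + (1 + r * a) * z = (1 + r * a) * z * a)
    (hκ0 : κ0 * (2 * (z * (f + 1))) = a * (z * (f + 1)) * (1 + r * a) * (z * f))
    (hR : Rc + κ0 + kU + z = a * (z * (f + 1)) * (1 + r * a)) :
    2 * Rc = a * z * f * (1 + r * a) + 2 * r * a * z := by
  have hpos : 0 < z * (f + 1) := Nat.mul_pos (by omega) (by omega)
  have k0 : 2 * κ0 = a * (1 + r * a) * (z * f) := by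
    apply Nat.eq_of_mul_eq_mul_right hpos
    calc 2 * κ0 * (z * (f + 1)) = κ0 * (2 * (z * (f + 1))) := by ring
      _ = a * (z * (f + 1)) * (1 + r * a) * (z * f) := hκ0
      _ = a * (1 + r * a) * (z * f) * (z * (f + 1)) := by ring
  nlinarith [hkU, hR, k0]

theorem numC_lt (a r z f Rc : ℕ) (ha : 3 ≤ a) (hr : 1 ≤ r) (hz : 1 ≤ z)
    (h2R : 2 * Rc = a * z * f * (1 + r * a) + 2 * r * a * z) :
    2 * Rc < a * (z * (f + 1)) * (1 + r * a) := by
  have h1 : r * a * z * 3 ≤ r * a * z * a := Nat.mul_le_mul_left _ ha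
  have h2 : 0 < a * z := Nat.mul_pos (by omega) (by omega)
  nlinarith [h1, h2, h2R]

theorem numC_1 (a r z f e κ1 Rc : ℕ) (ha : 3 ≤ a) (hr : 1 ≤ r) (hz : 1 ≤ z) (he : 1 ≤ e)
    (h2R : 2 * Rc = a * z * f * (1 + r * a) + 2 * r * a * z)
    (hκ1 : κ1 * (z * (e + 1)) = a * (z * (f + 1)) * (1 + r * a) * (z * e)) (hle : κ1 ≤ Rc) :
    False := by
  have hlt := numC_lt a r z f Rc ha hr hz h2R
  have hz0 : 0 < z := by omega
  have h1 : κ1 * (e + 1) = a * (z * (f + 1)) * (1 + r * a) * e := by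
    apply Nat.eq_of_mul_eq_mul_right hz0
    calc κ1 * (e + 1) * z = κ1 * (z * (e + 1)) := by ring
      _ = a * (z * (f + 1)) * (1 + r * a) * (z * e) := hκ1
      _ = a * (z * (f + 1)) * (1 + r * a) * e * z := by ring
  have h2 : a * (z * (f + 1)) * (1 + r * a) * e ≤ (2 * κ1) * e := by
    rw [← h1]
    calc κ1 * (e + 1) ≤ κ1 * (2 * e) := Nat.mul_le_mul_left _ (by omega)
      _ = (2 * κ1) * e := by ring
  have h3 := Nat.le_of_mul_le_mul_right h2 (by omega : 0 < e)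
  linarith

theorem numC_2 (a r z f κ1 κ2 Rc : ℕ) (ha : 3 ≤ a) (hr : 1 ≤ r) (hz : 1 ≤ z)
    (h2R : 2 * Rc = a * z * f * (1 + r * a) + 2 * r * a * z)
    (h1 : a * (z * (f + 1)) * (1 + r * a) ≤ 4 * κ1)
    (h2 : a * (z * (f + 1)) * (1 + r * a) ≤ 4 * κ2)
    (hle : κ1 + κ2 ≤ Rc) : False := by
  have hlt := numC_lt a r z f Rc ha hr hz h2R
  linarith

theorem numC_3 (b r z f e κ1 : ℕ) (hb : 1 ≤ b) (hr : 1 ≤ r) (hz : 1 ≤ z) (hf : 1 ≤ f)
    (hfb : f ≤ b)
    (h2R : 2 * κ1 = (b + 2) * z * f * (1 + r * (b + 2)) + 2 * r * (b + 2) * z)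
    (hκ1 : κ1 * (2 * (z * (e + 1))) = (b + 2) * (z * (f + 1)) * (1 + r * (b + 2)) * (z * e)) :
    r = 1 ∨ (r = 3 ∧ b = 1 ∧ f = 1 ∧ e = 4) := by
  have hz0 : 0 < z := by omega
  have e1 : (2 * κ1) * (z * (e + 1)) =
      (b + 2) * (z * (f + 1)) * (1 + r * (b + 2)) * (z * e) := by rw [← hκ1]; ring
  rw [h2R] at e1
  have key : (1 + r * b) * e = (1 + r * b) * f + 2 * r * (f + 1) := by
    have hpos : 0 < (b + 2) * z * z := Nat.mul_pos (Nat.mul_pos (by omega) hz0) hz0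
    apply Nat.eq_of_mul_eq_mul_left hpos
    nlinarith [e1]
  have hdvd1 : (1 + r * b) ∣ (2 * (f + 1)) * r := by
    have h1 : (1 + r * b) * (e - f) = (2 * (f + 1)) * r := by
      rw [Nat.mul_sub, key, Nat.add_sub_cancel_left]; ring
    exact Dvd.intro _ h1
  have hcop : Nat.Coprime (1 + r * b) r := by
    rw [Nat.coprime_add_mul_left_left]
    exact Nat.coprime_one_left r
  have hdvd : (1 + r * b) ∣ 2 * (f + 1) := hcop.dvd_of_dvd_mul_right hdvd1
  obtain ⟨k, hk⟩ := hdvd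
  have hk1 : 1 ≤ k := by
    rcases Nat.eq_zero_or_pos k with h0 | h0
    · rw [h0] at hk; omega
    · exact h0
  by_cases hr1 : r = 1
  · left; exact hr1
  right
  have hr2 : 2 ≤ r := by omega
  have h1 : 1 + r * b ≤ (1 + r * b) * k := Nat.le_mul_of_pos_right _ hk1
  by_cases hr3 : r = 2
  · exfalso
    subst hr3
    rcases Nat.lt_or_ge k 2 with hk2 | hk2
    · have hk' : k = 1 := by omega
      subst hk'
      omega
    · have h3 : (1 + 2 * b) * 2 ≤ (1 + 2 * b) * k := Nat.mul_le_mul_left _ hk2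
      omega
  · have hr4 : 3 ≤ r := by omega
    have h3 : 3 * b ≤ r * b := Nat.mul_le_mul_right b hr4
    have hb1 : b = 1 := by omega
    subst hb1
    have hr5 : r = 3 := by omega
    subst hr5
    have hf1 : f = 1 := by omega
    subst hf1
    refine ⟨rfl, rfl, rfl, ?_⟩
    omega

theorem numQ (G z κ j e : ℕ) (hz : 1 ≤ z) (he : 1 ≤ e) (hj : j = 1 ∨ j = 2)
    (hκ : κ * (j * (z * (e + 1))) = G * (z * e)) : G ≤ 4 * κ := by
  have h0 : z * 1 ≤ z * e := Nat.mul_le_mul_left z he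
  have h1 : G * (z * e) ≤ (4 * κ) * (z * e) := by
    rw [← hκ]
    have h2 : j * (z * (e + 1)) ≤ 4 * (z * e) := by
      rcases hj with rfl | rfl <;> nlinarith [h0]
    calc κ * (j * (z * (e + 1))) ≤ κ * (4 * (z * e)) := Nat.mul_le_mul_left _ h2
      _ = 4 * κ * (z * e) := by ring
  exact Nat.le_of_mul_le_mul_right h1 (Nat.mul_pos (by omega) (by omega))

end Cfsg.Agent.Helper18.Dickson
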