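import Mathlib
import Cfsg.Agent.Helper18.DicksonAbs
import Cfsg.Agent.Helper18.DicksonNum
import Cfsg.Agent.Helper18.DicksonMat

set_option autoImplicit false

namespace Cfsg.Agent.Helper18.Dickson

open Matrix Cfsg.Agent.Helper12 Cfsg.Agent.Helper18.OutPSL2

variable {K : Type*} [Field K]

local notation "SL2" => Matrix.SpecialLinearGroup (Fin 2)
local notation "M2" => Matrix (Fin 2) (Fin 2)

theorem mul10 (a b : SL2 K) : ((a * b : SL2 K) : M2 K) 1 0 =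
    (a : M2 K) 1 0 * (b : M2 K) 0 0 + (a : M2 K) 1 1 * (b : M2 K) 1 0 := by
  rw [Matrix.SpecialLinearGroup.coe_mul, Matrix.mul_apply, Fin.sum_univ_two]

theorem mul00 (a b : SL2 K) : ((a * b : SL2 K) : M2 K) 0 0 =
    (a : M2 K) 0 0 * (b : M2 K) 0 0 + (a : M2 K) 0 1 * (b : M2 K) 1 0 := by
  rw [Matrix.SpecialLinearGroup.coe_mul, Matrix.mul_apply, Fin.sum_univ_two]

theorem inv10 (a : SL2 K) : ((a⁻¹ : SL2 K) : M2 K) 1 0 = -(a : M2 K) 1 0 := by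
  rw [Matrix.SpecialLinearGroup.coe_inv, Matrix.adjugate_fin_two]; rfl

theorem inv00 (a : SL2 K) : ((a⁻¹ : SL2 K) : M2 K) 0 0 = (a : M2 K) 1 1 := by
  rw [Matrix.SpecialLinearGroup.coe_inv, Matrix.adjugate_fin_two]; rfl

theorem one10 : ((1 : SL2 K) : M2 K) 1 0 = 0 := by simp

theorem one00 : ((1 : SL2 K) : M2 K) 0 0 = 1 := by simp

theorem det_upper (a : SL2 K) (h : (a : M2 K) 1 0 = 0) :
    (a : M2 K) 0 0 * (a : M2 K) 1 1 = 1 := by
  have h1 := a.det_coe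
  rw [Matrix.det_fin_two, h, mul_zero, sub_zero] at h1
  exact h1

/-- the upper triangular part of `L` -/
def BU (L : Subgroup (SL2 K)) : Subgroup L where
  carrier := {g | ((g : SL2 K) : M2 K) 1 0 = 0}
  mul_mem' := by
    intro a b ha hb
    have ha' : ((a : SL2 K) : M2 K) 1 0 = 0 := ha
    have hb' : ((b : SL2 K) : M2 K) 1 0 = 0 := hb
    show (((a : SL2 K) * (b : SL2 K) : SL2 K) : M2 K) 1 0 = 0
    rw [mul10, ha', hb']; ring
  one_mem' := by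
    show (((1 : SL2 K)) : M2 K) 1 0 = 0
    exact one10
  inv_mem' := by
    intro a ha
    have ha' : ((a : SL2 K) : M2 K) 1 0 = 0 := ha
    show ((((a : SL2 K))⁻¹ : SL2 K) : M2 K) 1 0 = 0
    rw [inv10, ha', neg_zero]

/-- the upper unitriangular part of `L` -/
def PU (L : Subgroup (SL2 K)) : Subgroup L where
  carrier := {g | ((g : SL2 K) : M2 K) 1 0 = 0 ∧ ((g : SL2 K) : M2 K) 0 0 = 1}
  mul_mem' := by
    rintro a b ⟨ha1, ha2⟩ ⟨hb1, hb2⟩
    refine ⟨?_, ?_⟩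
    · show (((a : SL2 K) * (b : SL2 K) : SL2 K) : M2 K) 1 0 = 0
      rw [mul10, ha1, hb1]; ring
    · show (((a : SL2 K) * (b : SL2 K) : SL2 K) : M2 K) 0 0 = 1
      rw [mul00, ha2, hb2, hb1]; ring
  one_mem' := ⟨one10, one00⟩
  inv_mem' := by
    rintro a ⟨ha1, ha2⟩
    refine ⟨?_, ?_⟩
    · show ((((a : SL2 K))⁻¹ : SL2 K) : M2 K) 1 0 = 0
      rw [inv10, ha1, neg_zero]
    · show ((((a : SL2 K))⁻¹ : SL2 K) : M2 K) 0 0 = 1
      rw [inv00]
      have h := det_upper (a : SL2 K) ha1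
      rw [ha2, one_mul] at h
      exact h

theorem mem_BU {L : Subgroup (SL2 K)} {g : L} : g ∈ BU L ↔ ((g : SL2 K) : M2 K) 1 0 = 0 := Iff.rfl

theorem mem_PU {L : Subgroup (SL2 K)} {g : L} :
    g ∈ PU L ↔ ((g : SL2 K) : M2 K) 1 0 = 0 ∧ ((g : SL2 K) : M2 K) 0 0 = 1 := Iff.rfl

theorem PU_le_BU (L : Subgroup (SL2 K)) : PU L ≤ BU L := fun _ hg => hg.1

theorem PU_11 {L : Subgroup (SL2 K)} {g : L} (hg : g ∈ PU L) : ((g : SL2 K) : M2 K) 1 1 = 1 := by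
  have h := det_upper (g : SL2 K) hg.1
  rw [hg.2, one_mul] at h
  exact h

theorem PU_eq_sl2U {L : Subgroup (SL2 K)} {g : L} (hg : g ∈ PU L) :
    (g : SL2 K) = sl2U (((g : SL2 K) : M2 K) 0 1) :=
  sl2_eq_sl2U _ hg.2 hg.1 (PU_11 hg)

theorem PU_eq_one {L : Subgroup (SL2 K)} {g : L} (hg : g ∈ PU L)
    (h01 : ((g : SL2 K) : M2 K) 0 1 = 0) : g = 1 := by
  apply Subtype.ext
  rw [PU_eq_sl2U hg, h01, sl2U_zero]
  rfl

theorem comm_sub {L : Subgroup (SL2 K)} (a b : L) :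
    Commute a b ↔ (a : SL2 K) * (b : SL2 K) = (b : SL2 K) * (a : SL2 K) := by
  constructor
  · intro h
    exact congrArg Subtype.val h.eq
  · intro h
    exact Subtype.ext h

/-- the data of the normal form -/
structure Setup (L : Subgroup (SL2 K)) (s t : K) where
  hs : s ≠ 0
  ht : t ≠ 0
  U : L
  Y : L
  hU : (U : SL2 K) = sl2U s
  hY : (Y : SL2 K) = lo t

variable {L : Subgroup (SL2 K)} {s t : K}

theorem center_iff (S : Setup L s t) (g : L) :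
    g ∈ Subgroup.center L ↔ Sl2Scalar (g : SL2 K) := by
  constructor
  · intro hg
    rw [Subgroup.mem_center_iff] at hg
    have h1 := hg S.U
    have h2 := hg S.Y
    have h1' : (g : SL2 K) * sl2U s = sl2U s * (g : SL2 K) := by
      rw [← S.hU]; exact (congrArg Subtype.val h1).symm
    have h2' : (g : SL2 K) * lo t = lo t * (g : SL2 K) := by
      rw [← S.hY]; exact (congrArg Subtype.val h2).symm
    obtain ⟨h10, h00⟩ := (sl2U_comm_iff S.hs _).mp h1'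
    exact ⟨lo_comm01 S.ht _ h2', h10, h00⟩
  · intro hg
    rw [Subgroup.mem_center_iff]
    intro k
    have h1 := Subgroup.mem_center_iff.mp (sl2Scalar_mem_center _ hg) (k : SL2 K)
    exact Subtype.ext h1

theorem ct_L (S : Setup L s t) : CT L := by
  intro a b c hb hab hbc
  rw [comm_sub] at hab hbc ⊢
  exact ct_sl _ _ _ (fun h => hb ((center_iff S b).mpr h)) hab hbc

theorem czU_iff (S : Setup L s t) (g : L) :
    g ∈ cz S.U ↔ ((g : SL2 K) : M2 K) 1 0 = 0 ∧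
      ((g : SL2 K) : M2 K) 0 0 = ((g : SL2 K) : M2 K) 1 1 := by
  rw [mem_cz, comm_sub, S.hU]
  exact sl2U_comm_iff S.hs _

theorem U10 (S : Setup L s t) : ((S.U : SL2 K) : M2 K) 1 0 = 0 := by rw [S.hU, sl2U_val]; rfl
theorem U00 (S : Setup L s t) : ((S.U : SL2 K) : M2 K) 0 0 = 1 := by rw [S.hU, sl2U_val]; rfl
theorem U11 (S : Setup L s t) : ((S.U : SL2 K) : M2 K) 1 1 = 1 := by rw [S.hU, sl2U_val]; rfl
theorem U01 (S : Setup L s t) : ((S.U : SL2 K) : M2 K) 0 1 = s := by rw [S.hU, sl2U_val]; rfl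

theorem nzU_eq (S : Setup L s t) : nz S.U = BU L := by
  ext n
  rw [mem_nz, mem_BU]
  constructor
  · intro h
    have h1 := (h S.U).mp (mem_cz.mpr (Commute.refl _))
    rw [czU_iff S] at h1
    have h2 := conj10 (n : SL2 K) (S.U : SL2 K) (U10 S) (U00 S) (U11 S)
    have h3 : (((n : SL2 K) * (S.U : SL2 K) * (n : SL2 K)⁻¹ : SL2 K) : M2 K) 1 0 = 0 := h1.1
    rw [h3, U01 S] at h2
    have h5 : s * ((n : SL2 K) : M2 K) 1 0 ^ 2 = 0 := by linear_combination h2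
    have h6 := (mul_eq_zero.mp h5).resolve_left S.hs
    exact (pow_eq_zero_iff (two_ne_zero)).mp h6
  · intro hn c
    rw [czU_iff S, czU_iff S]
    obtain ⟨e10, e00, e11⟩ := conj_upper (n : SL2 K) (c : SL2 K) hn
    have hw : ((n : SL2 K) : M2 K) 1 1 ≠ 0 := by
      intro h0
      have h1 := det_upper (n : SL2 K) hn
      rw [h0, mul_zero] at h1
      exact zero_ne_one h1
    show _ ↔ (((n : SL2 K) * (c : SL2 K) * (n : SL2 K)⁻¹ : SL2 K) : M2 K) 1 0 = 0 ∧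
      (((n : SL2 K) * (c : SL2 K) * (n : SL2 K)⁻¹ : SL2 K) : M2 K) 0 0 =
        (((n : SL2 K) * (c : SL2 K) * (n : SL2 K)⁻¹ : SL2 K) : M2 K) 1 1
    rw [e10, e00, e11]
    constructor
    · rintro ⟨h1, h2⟩
      rw [h1, h2]
      simp
    · rintro ⟨h1, h2⟩
      have hc10 : ((c : SL2 K) : M2 K) 1 0 = 0 := by
        rcases mul_eq_zero.mp h1 with h | h
        · exact absurd ((pow_eq_zero_iff (two_ne_zero)).mp h) hw
        · exact h
      refine ⟨hc10, ?_⟩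
      rw [hc10] at h2
      linear_combination h2

theorem center_inf_PU (S : Setup L s t) (w : L) (h1 : w ∈ Subgroup.center L) (h2 : w ∈ PU L) :
    w = 1 :=
  PU_eq_one h2 ((center_iff S w).mp h1).1

theorem card_czU [Finite K] (p : ℕ) [Fact p.Prime] [CharP K p] (hp2 : p ≠ 2) (S : Setup L s t) :
    Nat.card (cz S.U) = Nat.card (Subgroup.center L) * Nat.card (PU L) := by
  rw [← Nat.card_prod]
  symm
  have hPc : ∀ u : L, u ∈ PU L → u ∈ cz S.U := by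
    intro u hu'
    rw [czU_iff S]
    exact ⟨hu'.1, by rw [hu'.2, PU_11 hu']⟩
  have hZc : ∀ ζ : L, ζ ∈ Subgroup.center L → ζ ∈ cz S.U := fun ζ hζ =>
    Subgroup.center_le_centralizer _ hζ
  apply Nat.card_congr
  refine Equiv.ofBijective
    (fun q : ↥(Subgroup.center L) × ↥(PU L) =>
      (⟨q.1.1 * q.2.1, (cz S.U).mul_mem (hZc _ q.1.2) (hPc _ q.2.2)⟩ : cz S.U)) ⟨?_, ?_⟩
  · rintro ⟨⟨ζ, hζ⟩, ⟨u, hu1⟩⟩ ⟨⟨ζ', hζ'⟩, ⟨u', hu1'⟩⟩ h
    have h1 : ζ * u = ζ' * u' := congrArg Subtype.val h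
    have hw : ζ'⁻¹ * ζ = u' * u⁻¹ := by
      calc ζ'⁻¹ * ζ = ζ'⁻¹ * (ζ * u) * u⁻¹ := by group
        _ = ζ'⁻¹ * (ζ' * u') * u⁻¹ := by rw [h1]
        _ = u' * u⁻¹ := by group
    have h2 : ζ'⁻¹ * ζ = 1 := center_inf_PU S _
      ((Subgroup.center L).mul_mem ((Subgroup.center L).inv_mem hζ') hζ)
      (by rw [hw]; exact (PU L).mul_mem hu1' ((PU L).inv_mem hu1))
    have hζζ : ζ' = ζ := inv_mul_eq_one.mp h2
    have huu : u' = u := by rw [hw] at h2; exact mul_inv_eq_one.mp h2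
    subst hζζ huu
    rfl
  · rintro ⟨c, hc⟩
    have hc' := (czU_iff S c).mp hc
    rcases upper_sq (c : SL2 K) hc'.1 hc'.2 with h | h
    · exact ⟨(1, ⟨c, ⟨hc'.1, h⟩⟩), Subtype.ext (one_mul c)⟩
    · obtain ⟨⟨m, hm⟩, hsc⟩ := neg_unip p hp2 (c : SL2 K) hc'.1 h (by rw [← hc'.2]; exact h)
      have hv : (((c * c) ^ m : L) : SL2 K) = sl2U (((c : SL2 K) : M2 K) 0 1) := hm
      have hvP : (c * c) ^ m ∈ PU L := by
        refine ⟨?_, ?_⟩
        · show ((((c * c) ^ m : L) : SL2 K) : M2 K) 1 0 = 0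
          rw [hv, sl2U_val]; rfl
        · show ((((c * c) ^ m : L) : SL2 K) : M2 K) 0 0 = 1
          rw [hv, sl2U_val]; rfl
      have hζ : c * (c * c) ^ m ∈ Subgroup.center L := by
        rw [center_iff S]
        have e : ((c * (c * c) ^ m : L) : SL2 K) =
            (c : SL2 K) * sl2U (((c : SL2 K) : M2 K) 0 1) := by
          rw [← hv]; rfl
        rw [e]; exact hsc
      exact ⟨(⟨c * (c * c) ^ m, hζ⟩, ⟨((c * c) ^ m)⁻¹, (PU L).inv_mem hvP⟩),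
        Subtype.ext (mul_inv_cancel_right c ((c * c) ^ m))⟩

theorem conj_BU_eq_one (g v : L) (hg : g ∉ BU L) (hv : v ∈ PU L) (h : g⁻¹ * v * g ∈ BU L) :
    v = 1 := by
  apply PU_eq_one hv
  have h2 := conj10 ((g : SL2 K)⁻¹) (v : SL2 K) hv.1 hv.2 (PU_11 hv)
  rw [inv_inv, inv10] at h2
  have h3 : (((g : SL2 K)⁻¹ * (v : SL2 K) * (g : SL2 K) : SL2 K) : M2 K) 1 0 = 0 := mem_BU.mp h
  rw [h3] at h2
  have h4 : ((v : SL2 K) : M2 K) 0 1 * ((g : SL2 K) : M2 K) 1 0 ^ 2 = 0 := by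
    linear_combination h2
  rcases mul_eq_zero.mp h4 with h5 | h5
  · exact h5
  · exact absurd (mem_BU.mpr ((pow_eq_zero_iff (two_ne_zero)).mp h5)) hg

theorem card_free [Finite K] (L : Subgroup (SL2 K)) :
    Nat.card (PU L) * Nat.card (BU L) ∣ Nat.card {g : L // g ∉ BU L} := by
  letI : MulAction (↥(PU L) × ↥(BU L)) {g : L // g ∉ BU L} :=
    { smul := fun q g => ⟨q.1.1 * g.1 * q.2.1⁻¹, fun hmem => g.2 (by
          have h1 : (q.1.1)⁻¹ * (q.1.1 * g.1 * q.2.1⁻¹) * q.2.1 ∈ BU L :=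
            (BU L).mul_mem ((BU L).mul_mem ((BU L).inv_mem (PU_le_BU L q.1.2)) hmem) q.2.2
          have e : (q.1.1)⁻¹ * (q.1.1 * g.1 * q.2.1⁻¹) * q.2.1 = g.1 := by group
          rw [e] at h1; exact h1)⟩
      one_smul := fun g => by
        apply Subtype.ext
        show (1 : L) * g.1 * (1 : L)⁻¹ = g.1
        group
      mul_smul := fun q q' g => by
        apply Subtype.ext
        show (q.1.1 * q'.1.1) * g.1 * (q.2.1 * q'.2.1)⁻¹ =
          q.1.1 * (q'.1.1 * g.1 * q'.2.1⁻¹) * q.2.1⁻¹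
        group }
  rw [← Nat.card_prod]
  apply card_dvd_of_free
  intro q g hq
  have h1 : q.1.1 * g.1 * q.2.1⁻¹ = g.1 := congrArg Subtype.val hq
  have h2 : g.1⁻¹ * q.1.1 * g.1 = q.2.1 := by
    calc g.1⁻¹ * q.1.1 * g.1 = g.1⁻¹ * (q.1.1 * g.1 * q.2.1⁻¹) * q.2.1 := by group
      _ = g.1⁻¹ * g.1 * q.2.1 := by rw [h1]
      _ = q.2.1 := by group
  have hv1 : q.1.1 = 1 := conj_BU_eq_one g.1 q.1.1 g.2 q.1.2 (by rw [h2]; exact q.2.2)
  have hn1 : q.2.1 = 1 := by rw [← h2, hv1]; group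
  exact Prod.ext (Subtype.ext hv1) (Subtype.ext hn1)

theorem semis_norm [Finite K] (h2 : (2 : K) ≠ 0) (g : L)
    (hss : ((g : SL2 K) : M2 K).trace ^ 2 ≠ 4) : Nat.card (nz g) ≤ 2 * Nat.card (cz g) := by
  apply card_normalizer_le
  have key : ∀ n : L, n ∈ nz g → n ∉ cz g → n * g * n⁻¹ = g⁻¹ := by
    intro n hn hnc
    have h1 : n * g * n⁻¹ ∈ cz g := (mem_nz.mp hn g).mp (mem_cz.mpr (Commute.refl g))
    rw [mem_cz, comm_sub] at h1
    have h3 := semis_conj h2 (g : SL2 K) ((n * g * n⁻¹ : L) : SL2 K) hss h1.symm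
      (sl2_trace_conj (n : SL2 K) (g : SL2 K))
    rcases h3 with h3 | h3
    · exfalso
      apply hnc
      rw [mem_cz]
      have h4 : n * g * n⁻¹ = g := Subtype.ext h3
      show n * g = g * n
      calc n * g = n * g * n⁻¹ * n := by group
        _ = g * n := by rw [h4]
    · exact Subtype.ext h3
  intro n₁ n₂ hn₁ hn₂ hc₁ hc₂
  have k1 := key n₁ hn₁ hc₁
  have k2 := key n₂ hn₂ hc₂
  rw [mem_cz]
  show n₂⁻¹ * n₁ * g = g * (n₂⁻¹ * n₁)
  have a1 : n₁ * g = g⁻¹ * n₁ := by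
    calc n₁ * g = n₁ * g * n₁⁻¹ * n₁ := by group
      _ = g⁻¹ * n₁ := by rw [k1]
  have a2 : n₂⁻¹ * g⁻¹ = g * n₂⁻¹ := by
    calc n₂⁻¹ * g⁻¹ = n₂⁻¹ * (n₂ * g * n₂⁻¹) := by rw [k2]
      _ = g * n₂⁻¹ := by group
  calc n₂⁻¹ * n₁ * g = n₂⁻¹ * (n₁ * g) := by group
    _ = n₂⁻¹ * g⁻¹ * n₁ := by rw [a1]; group
    _ = g * n₂⁻¹ * n₁ := by rw [a2]
    _ = g * (n₂⁻¹ * n₁) := by group

theorem unip_in_clsU [Finite K] (p : ℕ) [Fact p.Prime] [CharP K p] (h2 : (2 : K) ≠ 0)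
    (S : Setup L s t) (hidx : ¬ p ∣ (BU L).index) (k : L) (hk : k ∉ Subgroup.center L)
    (htr : ((k : SL2 K) : M2 K).trace ^ 2 = 4) : k ∈ cls S.U := by
  have hct := ct_L S
  have hkns : ¬ Sl2Scalar (k : SL2 K) := fun h => hk ((center_iff S k).mpr h)
  have h4 : (4 : K) ≠ 0 := by
    have e : (4 : K) = 2 * 2 := by norm_num
    rw [e]; exact mul_ne_zero h2 h2
  have hwtr : (((k ^ 2 : L) : SL2 K) : M2 K).trace = 2 := by
    rw [Subgroup.coe_pow, sq_tr, htr]; norm_num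
  have hwns : ¬ Sl2Scalar ((k ^ 2 : L) : SL2 K) := by
    intro h
    rw [Subgroup.coe_pow] at h
    have h0 := sc_sq (k : SL2 K) hkns h
    rw [h0] at htr
    apply h4
    rw [← htr]; ring
  have hwc : k ^ 2 ∉ Subgroup.center L := fun h => hwns ((center_iff S _).mp h)
  have hwp : (k ^ 2) ^ p = 1 := by
    apply Subtype.ext
    rw [Subgroup.coe_pow]
    exact tr2_pow p _ hwtr
  have hw1 : k ^ 2 ≠ 1 := fun h => hwc (by rw [h]; exact Subgroup.one_mem _)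
  have hord : orderOf (k ^ 2) = p := orderOf_eq_prime hwp hw1
  have hΓ : IsPGroup p (Subgroup.zpowers (k ^ 2)) := by
    apply IsPGroup.of_card (n := 1)
    rw [Nat.card_zpowers, hord, pow_one]
  obtain ⟨q, hq⟩ := hΓ.nonempty_fixed_point_of_prime_not_dvd_card (L ⧸ BU L)
    (show ¬ p ∣ Nat.card (L ⧸ BU L) from hidx)
  obtain ⟨x, rfl⟩ := QuotientGroup.mk_surjective q
  have hfix := MulAction.mem_fixedPoints.mp hq ⟨k ^ 2, Subgroup.mem_zpowers _⟩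
  have hfix' : ((k ^ 2 * x : L) : L ⧸ BU L) = (x : L ⧸ BU L) := hfix
  rw [QuotientGroup.eq] at hfix'
  have hv : x⁻¹ * k ^ 2 * x ∈ BU L := by
    have h5 := (BU L).inv_mem hfix'
    have e : ((k ^ 2 * x)⁻¹ * x)⁻¹ = x⁻¹ * k ^ 2 * x := by group
    rw [e] at h5; exact h5
  have hvtr : (((x⁻¹ * k ^ 2 * x : L) : SL2 K) : M2 K).trace = 2 := by
    have h := sl2_trace_conj ((x : SL2 K)⁻¹) ((k ^ 2 : L) : SL2 K)
    rw [inv_inv] at h
    exact h.trans hwtr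
  obtain ⟨v00, v11⟩ := upper_tr2 _ (mem_BU.mp hv) hvtr
  have hvU : Commute (x⁻¹ * k ^ 2 * x) S.U := by
    rw [← mem_cz, czU_iff S]
    exact ⟨mem_BU.mp hv, by rw [v00, v11]⟩
  have hwU : Commute (k ^ 2) (x * S.U * x⁻¹) := by
    have h := comm_conj hvU x
    have e : x * (x⁻¹ * k ^ 2 * x) * x⁻¹ = k ^ 2 := by group
    rw [e] at h; exact h
  have hkw : Commute k (k ^ 2) := (Commute.refl k).pow_right 2
  exact ⟨hk, x, hct k (k ^ 2) _ hwc hkw hwU⟩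

theorem clsU_tr (S : Setup L s t) (k : L) (hk : k ∈ cls S.U) :
    ((k : SL2 K) : M2 K).trace ^ 2 = 4 := by
  obtain ⟨-, x, hx⟩ := hk
  have h1 : Commute (x⁻¹ * k * x) S.U := by
    have h := comm_conj hx x⁻¹
    have e1 : x⁻¹ * k * x⁻¹⁻¹ = x⁻¹ * k * x := by group
    have e2 : x⁻¹ * (x * S.U * x⁻¹) * x⁻¹⁻¹ = S.U := by group
    rw [e1, e2] at h; exact h
  rw [comm_sub, S.hU] at h1
  have h2 := comm_U_tr S.hs _ h1
  have h3 := sl2_trace_conj ((x : SL2 K)⁻¹) (k : SL2 K)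
  rw [inv_inv] at h3
  rw [← h3]
  exact h2

theorem comm_mem_PU (n g : L) (hn : n ∈ BU L) (hg : g ∈ BU L) : n * g * n⁻¹ * g⁻¹ ∈ PU L := by
  refine ⟨mem_BU.mp ((BU L).mul_mem ((BU L).mul_mem ((BU L).mul_mem hn hg) ((BU L).inv_mem hn))
    ((BU L).inv_mem hg)), ?_⟩
  show (((n : SL2 K) * (g : SL2 K) * (n : SL2 K)⁻¹ * (g : SL2 K)⁻¹ : SL2 K) : M2 K) 0 0 = 1
  have hn' := mem_BU.mp hn
  have hg' := mem_BU.mp hg
  rw [mul00, mul00, mul00, inv10, inv10, hn', hg', inv00, inv00]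
  have d1 := det_upper _ hn'
  have d2 := det_upper _ hg'
  linear_combination (((g : SL2 K) : M2 K) 0 0 * ((g : SL2 K) : M2 K) 1 1) * d1 + d2

end Cfsg.Agent.Helper18.Dickson
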