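import Mathlib
import Cfsg.Agent.Helper18.DicksonMain

set_option autoImplicit false

namespace Cfsg.Agent.Helper18.Dickson

open Matrix Cfsg.Agent.Helper12 Cfsg.Agent.Helper18.OutPSL2

local notation "SL2" => Matrix.SpecialLinearGroup (Fin 2)
local notation "M2" => Matrix (Fin 2) (Fin 2)

section abstract

variable {G : Type*} [Group G]

theorem cls_sub_nc (g : G) : cls g ⊆ {k : G | k ∉ Subgroup.center G} :=
  fun _ hk => hk.1

theorem cls_disjoint (hct : CT G) {g g' : G} (hg : g ∉ Subgroup.center G)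
    (hg' : g' ∉ Subgroup.center G) (h : g' ∉ cls g) : Disjoint (cls g) (cls g') := by
  rw [Set.disjoint_left]
  intro k h1 h2
  apply h
  rw [cls_eq_of_inter hct hg hg' h1 h2]
  exact self_mem_cls hg'

/-- what is left of the non-central elements after removing two classes -/
def rest (g g' : G) : Set G := {k | k ∉ Subgroup.center G ∧ k ∉ cls g ∧ k ∉ cls g'}

theorem nc_count [Finite G] :
    ({k : G | k ∉ Subgroup.center G}).ncard + Nat.card (Subgroup.center G) = Nat.card G := by
  have h := card_compl_add (Subgroup.center G)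
  have e : Nat.card {g : G // g ∉ Subgroup.center G} =
      ({k : G | k ∉ Subgroup.center G}).ncard :=
    Nat.card_coe_set_eq {k : G | k ∉ Subgroup.center G}
  omega

theorem rest_count [Finite G] (hct : CT G) {g g' : G}
    (hg : g ∉ Subgroup.center G) (hg' : g' ∉ Subgroup.center G) (h : g' ∉ cls g) :
    (rest g g').ncard + (cls g').ncard + (cls g).ncard + Nat.card (Subgroup.center G) =
      Nat.card G := by
  have hd : Disjoint (cls g) (cls g') := cls_disjoint hct hg hg' h
  have hsub : cls g ∪ cls g' ⊆ {k : G | k ∉ Subgroup.center G} :=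
    Set.union_subset (cls_sub_nc g) (cls_sub_nc g')
  have h1 := Set.ncard_sdiff_add_ncard_of_subset hsub
  rw [Set.ncard_union_eq hd] at h1
  have h2 : rest g g' = {k : G | k ∉ Subgroup.center G} \ (cls g ∪ cls g') := by
    ext k
    simp only [rest, Set.mem_ofPred_eq, Set.mem_sdiff, Set.mem_union, not_or]
  have h3 := nc_count (G := G)
  rw [h2]
  omega

theorem cls_sub_rest (hct : CT G) {g g' g₁ : G}
    (hg : g ∉ Subgroup.center G) (hg' : g' ∉ Subgroup.center G) (h₁ : g₁ ∈ rest g g') :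
    cls g₁ ⊆ rest g g' := by
  obtain ⟨h1c, h1g, h1g'⟩ := h₁
  intro k hk
  refine ⟨hk.1, fun h => h1g ?_, fun h => h1g' ?_⟩
  · rw [← cls_eq_of_inter hct h1c hg hk h]; exact self_mem_cls h1c
  · rw [← cls_eq_of_inter hct h1c hg' hk h]; exact self_mem_cls h1c

theorem one_cls_le [Finite G] (hct : CT G) {g g' g₁ : G}
    (hg : g ∉ Subgroup.center G) (hg' : g' ∉ Subgroup.center G) (h₁ : g₁ ∈ rest g g') :
    (cls g₁).ncard ≤ (rest g g').ncard :=
  Set.ncard_le_ncard (cls_sub_rest hct hg hg' h₁)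

theorem two_cls_le [Finite G] (hct : CT G) {g g' g₁ g₂ : G}
    (hg : g ∉ Subgroup.center G) (hg' : g' ∉ Subgroup.center G) (h₁ : g₁ ∈ rest g g')
    (h₂ : g₂ ∈ rest g g') (hn : g₂ ∉ cls g₁) :
    (cls g₁).ncard + (cls g₂).ncard ≤ (rest g g').ncard := by
  rw [← Set.ncard_union_eq (cls_disjoint hct h₁.1 h₂.1 hn)]
  exact Set.ncard_le_ncard
    (Set.union_subset (cls_sub_rest hct hg hg' h₁) (cls_sub_rest hct hg hg' h₂))

end abstract

variable {K : Type*} [Field K]

theorem two_ne_zero_of_char (p : ℕ) [Fact p.Prime] [CharP K p] (hp2 : p ≠ 2) : (2 : K) ≠ 0 := by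
  intro h
  have h' : ((2 : ℕ) : K) = 0 := by exact_mod_cast h
  rw [CharP.cast_eq_zero_iff K p 2] at h'
  have h1 := Nat.le_of_dvd (by norm_num) h'
  have h2 := (Fact.out : p.Prime).two_le
  omega

theorem tr_of_pow_char_pow (p : ℕ) [Fact p.Prime] [CharP K p] (g : SL2 K) (k : ℕ)
    (h : g ^ p ^ k = 1) : (g : M2 K).trace = 2 := by
  have h1 : (g : M2 K) ^ p ^ k = 1 := by
    rw [← Matrix.SpecialLinearGroup.coe_pow, h, Matrix.SpecialLinearGroup.coe_one]
  have hnil : IsNilpotent ((g : M2 K) - 1) := by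
    refine ⟨p ^ k, ?_⟩
    rw [sub_pow_char_pow_of_commute p k (Commute.one_right _), h1, one_pow, sub_self]
  have h0 := (Matrix.isNilpotent_trace_of_isNilpotent hnil).eq_zero
  rw [Matrix.trace_sub, Matrix.trace_one, Fintype.card_fin] at h0
  push_cast at h0
  linear_combination h0

theorem phi_exists' (p : ℕ) [Fact p.Prime] [CharP K p] (L : Subgroup (SL2 K)) (D : SL2 K)
    (α β : K) (m : ZMod p) (hα : α ≠ 0) (hβ : β ≠ 0)
    (hαβ : α * β = ZMod.castHom (dvd_refl p) K m)
    (hu : D * sl2U α * D⁻¹ ∈ L) (hl : D * lo β * D⁻¹ ∈ L) :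
    ∃ φ : SL2 (ZMod p) →* SL2 K, Function.Injective φ ∧ ∀ g, φ g ∈ L := by
  refine phi_exists p L D α β m ?_ hαβ hu hl
  rintro rfl
  rw [map_zero] at hαβ
  exact mul_ne_zero hα hβ hαβ

theorem exc_mu (h3 : (3 : K) = 0) (μ : K) (hμ : μ ≠ 0)
    (hA : (2 + μ) ^ 2 = 4 ∨ 2 + μ = 0 ∨ (2 + μ) ^ 4 - 3 * (2 + μ) ^ 2 + 1 = 0)
    (hB : (2 - μ) ^ 2 = 4 ∨ 2 - μ = 0 ∨ (2 - μ) ^ 4 - 3 * (2 - μ) ^ 2 + 1 = 0) :
    μ = 1 ∨ μ = -1 ∨ μ ^ 2 = -1 := by
  rcases hA with hA | hA | hA
  · right; left
    have h5 : μ * (μ + 4) = 0 := by linear_combination hA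
    rcases mul_eq_zero.mp h5 with h | h
    · exact absurd h hμ
    · linear_combination h - h3
  · left
    linear_combination hA - h3
  · rcases hB with hB | hB | hB
    · left
      have h5 : μ * (μ - 4) = 0 := by linear_combination hB
      rcases mul_eq_zero.mp h5 with h | h
      · exact absurd h hμ
      · linear_combination h + h3
    · right; left
      linear_combination (-1 : K) * hB + h3
    · right; right
      have h5 : μ * (μ ^ 2 + 1) = 0 := by
        linear_combination hA - hB - (13 * μ + 5 * μ ^ 3) * h3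
      rcases mul_eq_zero.mp h5 with h | h
      · exact absurd h hμ
      · linear_combination h

variable {L : Subgroup (SL2 K)} {s t : K}

theorem card_cz_upper [Finite K] (S : Setup L s t) (g₀ : L) (hg : g₀ ∈ BU L)
    (hne : ((g₀ : SL2 K) : M2 K) 0 0 ≠ ((g₀ : SL2 K) : M2 K) 1 1) :
    Nat.card (cz g₀) * Nat.card (PU L) = Nat.card (BU L) ∧
      Nat.card (cz g₀) ≤ Nat.card (Subgroup.center L) * (Nat.card (PU L) - 1) := by
  classical
  haveI : Fintype L := Fintype.ofFinite L
  have hg10 := mem_BU.mp hg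
  have hczB : ∀ c : L, c ∈ cz g₀ → c ∈ BU L := by
    intro c hc
    rw [mem_cz, comm_sub] at hc
    exact mem_BU.mpr (comm_upper10 (g₀ : SL2 K) (c : SL2 K) hg10 hne hc)
  have hczP : ∀ c : L, c ∈ cz g₀ → c ∈ PU L → c = 1 := by
    intro c hc hcP
    rw [mem_cz, comm_sub] at hc
    apply PU_eq_one hcP
    exact comm_upper01 (g₀ : SL2 K) (c : SL2 K) hg10 hne hc (by rw [hcP.2, PU_11 hcP])
  have h1 : Nat.card (cz g₀) * Nat.card (PU L) ≤ Nat.card (BU L) := by
    rw [← Nat.card_prod]
    apply Nat.card_le_card_of_injective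
      (fun q : ↥(cz g₀) × ↥(PU L) => (⟨q.1.1 * q.2.1,
        (BU L).mul_mem (hczB _ q.1.2) (PU_le_BU L q.2.2)⟩ : BU L))
    rintro ⟨⟨c, hc⟩, ⟨u, hu⟩⟩ ⟨⟨c', hc'⟩, ⟨u', hu'⟩⟩ h
    have h1 : c * u = c' * u' := congrArg Subtype.val h
    have hw : c'⁻¹ * c = u' * u⁻¹ := by
      calc c'⁻¹ * c = c'⁻¹ * (c * u) * u⁻¹ := by group
        _ = c'⁻¹ * (c' * u') * u⁻¹ := by rw [h1]
        _ = u' * u⁻¹ := by group
    have h2 : c'⁻¹ * c = 1 := hczP _ ((cz g₀).mul_mem ((cz g₀).inv_mem hc') hc)
      (by rw [hw]; exact (PU L).mul_mem hu' ((PU L).inv_mem hu))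
    have hcc : c' = c := inv_mul_eq_one.mp h2
    have huu : u' = u := by rw [hw] at h2; exact mul_inv_eq_one.mp h2
    subst hcc huu
    rfl
  have h2 : Nat.card (BU L) ≤ Nat.card (cz g₀) * Nat.card (PU L) := by
    rw [natCard_eq_card_filter (BU L), natCard_eq_card_filter (cz g₀),
      natCard_eq_card_filter (PU L)]
    have hfib : ∀ y ∈ (Finset.univ.filter (· ∈ BU L)).image (fun n => n * g₀ * n⁻¹),
        ((Finset.univ.filter (· ∈ BU L)).filter (fun n => n * g₀ * n⁻¹ = y)).card ≤
          (Finset.univ.filter (· ∈ cz g₀)).card := by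
      intro y hy
      rw [Finset.mem_image] at hy
      obtain ⟨n₁, -, rfl⟩ := hy
      apply Finset.card_le_card_of_injOn (fun n => n₁⁻¹ * n)
      · intro n hn
        have hn' : n ∈ (Finset.univ.filter (· ∈ BU L)).filter
            (fun n => n * g₀ * n⁻¹ = n₁ * g₀ * n₁⁻¹) := hn
        rw [Finset.mem_filter] at hn'
        show n₁⁻¹ * n ∈ Finset.univ.filter (· ∈ cz g₀)
        rw [Finset.mem_filter]
        refine ⟨Finset.mem_univ _, mem_cz.mpr ?_⟩
        show n₁⁻¹ * n * g₀ = g₀ * (n₁⁻¹ * n)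
        calc n₁⁻¹ * n * g₀ = n₁⁻¹ * (n * g₀ * n⁻¹) * n := by group
          _ = n₁⁻¹ * (n₁ * g₀ * n₁⁻¹) * n := by rw [hn'.2]
          _ = g₀ * (n₁⁻¹ * n) := by group
      · intro n _ n' _ h
        exact mul_left_cancel h
    have h3 := Finset.card_le_mul_card_image (Finset.univ.filter (· ∈ BU L))
      (Finset.univ.filter (· ∈ cz g₀)).card hfib
    have h4 : ((Finset.univ.filter (· ∈ BU L)).image (fun n => n * g₀ * n⁻¹)).card ≤
        (Finset.univ.filter (· ∈ PU L)).card := by
      have hsub : (Finset.univ.filter (· ∈ BU L)).image (fun n => n * g₀ * n⁻¹) ⊆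
          (Finset.univ.filter (· ∈ PU L)).image (fun u => u * g₀) := by
        intro y hy
        rw [Finset.mem_image] at hy ⊢
        obtain ⟨n, hn, rfl⟩ := hy
        rw [Finset.mem_filter] at hn
        refine ⟨n * g₀ * n⁻¹ * g₀⁻¹, ?_, by group⟩
        rw [Finset.mem_filter]
        exact ⟨Finset.mem_univ _, comm_mem_PU n g₀ hn.2 hg⟩
      exact (Finset.card_le_card hsub).trans Finset.card_image_le
    exact h3.trans (Nat.mul_le_mul_left _ h4)
  have h3 : Nat.card (cz g₀) ≤ Nat.card (Subgroup.center L) * (Nat.card (PU L) - 1) := by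
    rw [natCard_eq_card_filter (cz g₀), natCard_eq_card_filter (Subgroup.center L),
      natCard_eq_card_filter (PU L)]
    have hfib : ∀ y ∈ (Finset.univ.filter (· ∈ cz g₀)).image (fun c => c * S.U * c⁻¹),
        ((Finset.univ.filter (· ∈ cz g₀)).filter (fun c => c * S.U * c⁻¹ = y)).card ≤
          (Finset.univ.filter (· ∈ Subgroup.center L)).card := by
      intro y hy
      rw [Finset.mem_image] at hy
      obtain ⟨c₁, hc₁, rfl⟩ := hy
      rw [Finset.mem_filter] at hc₁
      apply Finset.card_le_card_of_injOn (fun c => c₁⁻¹ * c)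
      · intro c hc
        have hc' : c ∈ (Finset.univ.filter (· ∈ cz g₀)).filter
            (fun c => c * S.U * c⁻¹ = c₁ * S.U * c₁⁻¹) := hc
        rw [Finset.mem_filter, Finset.mem_filter] at hc'
        show c₁⁻¹ * c ∈ Finset.univ.filter (· ∈ Subgroup.center L)
        rw [Finset.mem_filter]
        refine ⟨Finset.mem_univ _, ?_⟩
        have hw1 : c₁⁻¹ * c ∈ cz g₀ := (cz g₀).mul_mem ((cz g₀).inv_mem hc₁.2) hc'.1.2
        have hw2 : c₁⁻¹ * c ∈ cz S.U := by
          rw [mem_cz]
          show c₁⁻¹ * c * S.U = S.U * (c₁⁻¹ * c)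
          calc c₁⁻¹ * c * S.U = c₁⁻¹ * (c * S.U * c⁻¹) * c := by group
            _ = c₁⁻¹ * (c₁ * S.U * c₁⁻¹) * c := by rw [hc'.2]
            _ = S.U * (c₁⁻¹ * c) := by group
        rw [czU_iff S] at hw2
        rw [mem_cz, comm_sub] at hw1
        rw [center_iff S]
        exact ⟨comm_upper01 (g₀ : SL2 K) _ hg10 hne hw1 hw2.2, hw2.1, hw2.2⟩
      · intro c _ c' _ h
        exact mul_left_cancel h
    have h4 := Finset.card_le_mul_card_image (Finset.univ.filter (· ∈ cz g₀))
      (Finset.univ.filter (· ∈ Subgroup.center L)).card hfib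
    have h5 : ((Finset.univ.filter (· ∈ cz g₀)).image (fun c => c * S.U * c⁻¹)).card ≤
        (Finset.univ.filter (· ∈ PU L)).card - 1 := by
      have hsub : (Finset.univ.filter (· ∈ cz g₀)).image (fun c => c * S.U * c⁻¹) ⊆
          (Finset.univ.filter (· ∈ PU L)).erase 1 := by
        intro y hy
        rw [Finset.mem_image] at hy
        obtain ⟨c, hc, rfl⟩ := hy
        rw [Finset.mem_filter] at hc
        rw [Finset.mem_erase, Finset.mem_filter]
        have hcB := mem_BU.mp (hczB c hc.2)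
        obtain ⟨e10, e00, -⟩ := conj_upper (c : SL2 K) (S.U : SL2 K) hcB
        refine ⟨?_, Finset.mem_univ _, ?_, ?_⟩
        · intro h1
          have hU1 : S.U = 1 := by
            calc S.U = c⁻¹ * (c * S.U * c⁻¹) * c := by group
              _ = c⁻¹ * 1 * c := by rw [h1]
              _ = 1 := by group
          have h6 := congrArg Subtype.val hU1
          rw [S.hU] at h6
          exact sl2U_ne_one S.hs h6
        · show (((c : SL2 K) * (S.U : SL2 K) * (c : SL2 K)⁻¹ : SL2 K) : M2 K) 1 0 = 0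
          rw [e10, U10 S, mul_zero]
        · show (((c : SL2 K) * (S.U : SL2 K) * (c : SL2 K)⁻¹ : SL2 K) : M2 K) 0 0 = 1
          rw [e00, U10 S, mul_zero, add_zero, U00 S]
      have h1mem : (1 : L) ∈ Finset.univ.filter (· ∈ PU L) := by
        rw [Finset.mem_filter]; exact ⟨Finset.mem_univ _, (PU L).one_mem⟩
      calc _ ≤ ((Finset.univ.filter (· ∈ PU L)).erase 1).card := Finset.card_le_card hsub
        _ = _ := Finset.card_erase_of_mem h1mem
    exact h4.trans (Nat.mul_le_mul_left _ h5)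
  exact ⟨le_antisymm h1 h2, h3⟩

theorem semis_data [Finite K] (h2 : (2 : K) ≠ 0) (S : Setup L s t) (g : L)
    (hss : ((g : SL2 K) : M2 K).trace ^ 2 ≠ 4) :
    g ∉ Subgroup.center L ∧ ∃ e j : ℕ, 1 ≤ e ∧ (j = 1 ∨ j = 2) ∧
      Nat.card (cz g) = Nat.card (Subgroup.center L) * (e + 1) ∧
      (cls g).ncard * (j * (Nat.card (Subgroup.center L) * (e + 1))) =
        Nat.card L * (Nat.card (Subgroup.center L) * e) := by
  have hgc : g ∉ Subgroup.center L := fun h =>
    hss (sl2Scalar_trace_sq _ ((center_iff S g).mp h))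
  refine ⟨hgc, ?_⟩
  have hle : Subgroup.center L ≤ cz g := Subgroup.center_le_centralizer _
  obtain ⟨m, hm⟩ := Subgroup.card_dvd_of_le hle
  have hzpos : 0 < Nat.card (Subgroup.center L) := Nat.card_pos
  have hcpos : 0 < Nat.card (cz g) := Nat.card_pos
  have hm2 : 2 ≤ m := by
    by_contra hlt
    have hm1 : m ≤ 1 := by omega
    have hcard : Nat.card (cz g) ≤ Nat.card (Subgroup.center L) := by
      rw [hm]
      calc Nat.card (Subgroup.center L) * m ≤ Nat.card (Subgroup.center L) * 1 :=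
            Nat.mul_le_mul_left _ hm1
        _ = _ := mul_one _
    have heq := Subgroup.eq_of_le_of_card_ge hle hcard
    exact hgc (by rw [heq]; exact mem_cz.mpr (Commute.refl g))
  obtain ⟨e, rfl⟩ : ∃ e, m = e + 1 := ⟨m - 1, by omega⟩
  obtain ⟨j, hj⟩ := Subgroup.card_dvd_of_le (cz_le_nz g)
  have hnle := semis_norm h2 g hss
  have hnpos : 0 < Nat.card (nz g) := Nat.card_pos
  have hj12 : j = 1 ∨ j = 2 := by
    have hj0 : j ≠ 0 := by
      rintro rfl
      rw [mul_zero] at hj
      omega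
    have hj2 : j ≤ 2 := by
      by_contra hgt
      have h3 : 3 ≤ j := by omega
      have h4 := Nat.mul_le_mul_left (Nat.card (cz g)) h3
      rw [← hj] at h4
      omega
    omega
  have hcls := cls_card (ct_L S) hgc
  refine ⟨e, j, by omega, hj12, hm, ?_⟩
  rw [hj, hm] at hcls
  have e2 : Nat.card (Subgroup.center L) * (e + 1) - Nat.card (Subgroup.center L) =
      Nat.card (Subgroup.center L) * e := by
    rw [mul_add, mul_one, Nat.add_sub_cancel]
  rw [e2] at hcls
  rw [← hcls]
  ring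

theorem base_counts [Finite K] (p : ℕ) [Fact p.Prime] [CharP K p] (hp2 : p ≠ 2)
    (S : Setup L s t) :
    ∃ a z B G kU hh r : ℕ, Nat.card (PU L) = a ∧ Nat.card (Subgroup.center L) = z ∧
      Nat.card (BU L) = B ∧ Nat.card L = G ∧ (cls S.U).ncard = kU ∧ 3 ≤ a ∧ p ∣ a ∧ 1 ≤ z ∧
      1 ≤ hh ∧ 1 ≤ r ∧ B = z * a * hh ∧ Nat.card {g : L // g ∉ BU L} = r * (a * B) ∧
      G = B * (1 + r * a) ∧ ¬ p ∣ (BU L).index ∧
      kU + (1 + r * a) * z = (1 + r * a) * z * a := by
  have hpp : p.Prime := Fact.out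
  have hUP : S.U ∈ PU L := ⟨U10 S, U00 S⟩
  have hord : orderOf S.U = p := by
    rw [← Subgroup.orderOf_coe, S.hU]
    exact orderOf_sl2U p S.hs
  have hpa : p ∣ Nat.card (PU L) := by
    rw [← hord]
    exact Subgroup.orderOf_dvd_natCard _ hUP
  have hapos : 0 < Nat.card (PU L) := Nat.card_pos
  have ha3 : 3 ≤ Nat.card (PU L) := by
    have h1 := Nat.le_of_dvd hapos hpa
    have h2 := hpp.two_le
    omega
  have hzpos : 0 < Nat.card (Subgroup.center L) := Nat.card_pos
  have hBpos : 0 < Nat.card (BU L) := Nat.card_pos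
  have hczle : cz S.U ≤ BU L := by rw [← nzU_eq S]; exact cz_le_nz _
  obtain ⟨hh, hhh⟩ := Subgroup.card_dvd_of_le hczle
  rw [card_czU p hp2 S] at hhh
  have hh1 : 1 ≤ hh := by
    rcases Nat.eq_zero_or_pos hh with h0 | h0
    · rw [h0, mul_zero] at hhh; omega
    · exact h0
  obtain ⟨r, hr⟩ := card_free L
  have hcomp := card_compl_add (BU L)
  have hYB : S.Y ∉ BU L := by
    intro h
    have h1 := mem_BU.mp h
    rw [S.hY, lo_val] at h1
    exact S.ht h1
  have hr1 : 1 ≤ r := by
    rcases Nat.eq_zero_or_pos r with h0 | h0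
    · rw [h0, mul_zero] at hr
      have hne : Nonempty {g : L // g ∉ BU L} := ⟨⟨S.Y, hYB⟩⟩
      have h5 := Nat.card_pos (α := {g : L // g ∉ BU L})
      omega
    · exact h0
  have hG : Nat.card L = Nat.card (BU L) * (1 + r * Nat.card (PU L)) := by
    rw [← hcomp, hr]; ring
  have hidx : (BU L).index = 1 + r * Nat.card (PU L) := by
    have h1 := (BU L).index_mul_card
    rw [hG] at h1
    apply Nat.eq_of_mul_eq_mul_right hBpos
    rw [h1]; ring
  have hnd : ¬ p ∣ (BU L).index := by
    rw [hidx]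
    intro hd
    have h1 : p ∣ r * Nat.card (PU L) := dvd_mul_of_dvd_right hpa r
    have h2 : p ∣ 1 := (Nat.dvd_add_left h1).mp hd
    exact hpp.one_lt.ne' (Nat.dvd_one.mp h2)
  have hUc : S.U ∉ Subgroup.center L := by
    intro h
    have h1 := ((center_iff S _).mp h).1
    rw [U01 S] at h1
    exact S.hs h1
  have hcls := cls_card (ct_L S) hUc
  rw [nzU_eq S, card_czU p hp2 S, hG] at hcls
  have hkU : (cls S.U).ncard = (1 + r * Nat.card (PU L)) *
      (Nat.card (Subgroup.center L) * Nat.card (PU L) - Nat.card (Subgroup.center L)) := by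
    apply Nat.eq_of_mul_eq_mul_right hBpos
    rw [hcls]; ring
  refine ⟨_, _, _, _, _, hh, r, rfl, rfl, rfl, rfl, rfl, ha3, hpa, hzpos, hh1, hr1, hhh, ?_, hG,
    hnd, ?_⟩
  · rw [hr]; ring
  · rw [hkU]
    have hle : Nat.card (Subgroup.center L) ≤ Nat.card (Subgroup.center L) * Nat.card (PU L) :=
      Nat.le_mul_of_pos_right _ hapos
    have e := Nat.sub_add_cancel hle
    obtain ⟨w, hw⟩ : ∃ w, Nat.card (Subgroup.center L) * Nat.card (PU L) -
        Nat.card (Subgroup.center L) = w := ⟨_, rfl⟩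
    rw [hw] at e ⊢
    calc (1 + r * Nat.card (PU L)) * w + (1 + r * Nat.card (PU L)) * Nat.card (Subgroup.center L)
        = (1 + r * Nat.card (PU L)) * (w + Nat.card (Subgroup.center L)) := by ring
      _ = (1 + r * Nat.card (PU L)) * (Nat.card (Subgroup.center L) * Nat.card (PU L)) := by
          rw [e]
      _ = _ := by ring

theorem coord_aux [Finite K] (p : ℕ) [Fact p.Prime] [CharP K p] (hp2 : p ≠ 2)
    (S : Setup L s t) :
    ∃ φ : SL2 (ZMod p) →* SL2 K, Function.Injective φ ∧ ∀ g, φ g ∈ L := by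
  have h2 : (2 : K) ≠ 0 := two_ne_zero_of_char p hp2
  have hct := ct_L S
  obtain ⟨a, z, B, G, kU, hh, r, ha, hz, hBd, hGd, hkUd, ha3, hpa, hz1, hh1, hr1, hB, hcompl,
    hG, hnd, hkU⟩ := base_counts p hp2 S
  have hst : s * t ≠ 0 := mul_ne_zero S.hs S.ht
  have hUL : sl2U s ∈ L := by rw [← S.hU]; exact S.U.2
  have hYL : lo t ∈ L := by rw [← S.hY]; exact S.Y.2
  have hUL1 : (1 : SL2 K) * sl2U s * (1 : SL2 K)⁻¹ ∈ L := by
    rw [one_mul, inv_one, mul_one]; exact hUL
  have hYL1 : (1 : SL2 K) * lo t * (1 : SL2 K)⁻¹ ∈ L := by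
    rw [one_mul, inv_one, mul_one]; exact hYL
  have hUc : S.U ∉ Subgroup.center L := by
    intro h
    have h1 := ((center_iff S _).mp h).1
    rw [U01 S] at h1
    exact S.hs h1
  have hYB : S.Y ∉ BU L := by
    intro h
    have h1 := mem_BU.mp h
    rw [S.hY, lo_val] at h1
    exact S.ht h1
  have hsemi : ∀ g : L, ((g : SL2 K) : M2 K).trace ^ 2 ≠ 4 → g ∉ cls S.U :=
    fun g hss h => hss (clsU_tr S g h)
  have hunip : ∀ k : L, k ∉ Subgroup.center L → k ∉ cls S.U →
      ((k : SL2 K) : M2 K).trace ^ 2 ≠ 4 :=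
    fun k hk hk' htr => hk' (unip_in_clsU p h2 S hnd k hk htr)
  have htrUY : (((S.U * S.Y : L) : SL2 K) : M2 K).trace = 2 + s * t := by
    show (((S.U : SL2 K) * (S.Y : SL2 K) : SL2 K) : M2 K).trace = 2 + s * t
    rw [S.hU, S.hY, tr_U_lo]
  have htrUiY : (((S.U⁻¹ * S.Y : L) : SL2 K) : M2 K).trace = 2 - s * t := by
    show ((((S.U : SL2 K))⁻¹ * (S.Y : SL2 K) : SL2 K) : M2 K).trace = 2 - s * t
    rw [S.hU, S.hY, ← sl2U_neg_eq_inv, tr_U_lo]
    ring
  by_cases hBc : ∀ g ∈ BU L, g ∈ cz S.U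
  · -- the Borel part is the centraliser of `U`
    have hBeq : B = z * a := by
      have h5 : BU L = cz S.U := le_antisymm hBc (by rw [← nzU_eq S]; exact cz_le_nz _)
      rw [← hBd, h5, card_czU p hp2 S, hz, ha]
    have hG' : G = a * z * (1 + r * a) := by rw [hG, hBeq]; ring
    by_cases htr : (((S.U * S.Y : L) : SL2 K) : M2 K).trace ^ 2 = 4
    · rw [htrUY] at htr
      have h4 : s * t = -4 := by
        have h5 : (s * t) * (s * t + 4) = 0 := by linear_combination htr
        rcases mul_eq_zero.mp h5 with h | h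
        · exact absurd h hst
        · linear_combination h
      exact phi_exists' p L 1 s t (-4) S.hs S.ht (by rw [h4, map_neg, map_ofNat]) hUL1 hYL1
    · obtain ⟨hgc, e, j, he, hj, hcz, hκ⟩ := semis_data h2 S (S.U * S.Y) htr
      have hcount := rest_count hct hUc hgc (hsemi _ htr)
      rw [hz, hGd] at hκ
      rw [hz, hGd, hkUd] at hcount
      have he1 : e = 1 := numA a r z e (j * (z * (e + 1))) (cls (S.U * S.Y)).ncard kU ha3 hr1 hz1
        he hkU (by rw [← hG']; exact hκ)
        (Nat.mul_le_mul_right _ (by rcases hj with rfl | rfl <;> omega))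
        (by rw [← hG']; omega)
      have hpow : (S.U * S.Y) ^ 2 ∈ Subgroup.center L := by
        have h5 := pow_mem_center (S.U * S.Y) (e + 1) hcz
        rw [he1] at h5
        exact h5
      have hsc := (center_iff S _).mp hpow
      rw [Subgroup.coe_pow] at hsc
      have hns : ¬ Sl2Scalar ((S.U * S.Y : L) : SL2 K) := fun h => hgc ((center_iff S _).mpr h)
      have h0 := sc_sq _ hns hsc
      rw [htrUY] at h0
      have h4 : s * t = -2 := by linear_combination h0
      exact phi_exists' p L 1 s t (-2) S.hs S.ht (by rw [h4, map_neg, map_ofNat]) hUL1 hYL1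
  · -- there is a semisimple element in the Borel part
    obtain ⟨g₀, hg₀⟩ := not_forall.mp hBc
    obtain ⟨hg₀B, hg₀c⟩ := Classical.not_imp.mp hg₀
    have hg10 := mem_BU.mp hg₀B
    have hne : ((g₀ : SL2 K) : M2 K) 0 0 ≠ ((g₀ : SL2 K) : M2 K) 1 1 :=
      fun h => hg₀c ((czU_iff S g₀).mpr ⟨hg10, h⟩)
    have hss₀ := upper_ss (g₀ : SL2 K) hg10 hne
    obtain ⟨hC1, hC2⟩ := card_cz_upper S g₀ hg₀B hne
    obtain ⟨hg₀c', f, j₀, hf, hj₀, hcz₀, hκ₀⟩ := semis_data h2 S g₀ hss₀
    have hcz₀z : Nat.card (cz g₀) = z * (f + 1) := by rw [hcz₀, hz]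
    rw [hz, hGd] at hκ₀
    have hB' : B = z * (f + 1) * a := by rw [← hBd, ← hC1, hcz₀z, ha]
    have hG' : G = a * (z * (f + 1)) * (1 + r * a) := by rw [hG, hB']; ring
    have hfa : f + 1 ≤ a - 1 := by
      have h5 := hC2
      rw [hcz₀z, hz, ha] at h5
      exact Nat.le_of_mul_le_mul_left h5 hz1
    have hcount := rest_count hct hUc hg₀c' (hsemi g₀ hss₀)
    rw [hz, hGd, hkUd] at hcount
    have hRss : ∀ g₁ ∈ rest S.U g₀, ((g₁ : SL2 K) : M2 K).trace ^ 2 ≠ 4 :=
      fun g₁ hg₁ => hunip g₁ hg₁.1 hg₁.2.1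
    rcases hj₀ with rfl | rfl
    · -- the centraliser of `g₀` is self-normalising
      have hRc : (rest S.U g₀).ncard = r * a * z :=
        numB1 a r z f (cls g₀).ncard kU (rest S.U g₀).ncard hz1 hkU
          (by rw [← hG', ← hκ₀, one_mul]) (by rw [← hG']; exact hcount)
      have hRne : (rest S.U g₀).Nonempty := by
        apply Set.nonempty_of_ncard_ne_zero
        rw [hRc]
        exact Nat.mul_ne_zero (Nat.mul_ne_zero (by omega) (by omega)) (by omega)
      obtain ⟨g₁, hg₁⟩ := hRne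
      obtain ⟨hg₁c, e₁, j₁, he₁, hj₁, hcz₁, hκ₁⟩ := semis_data h2 S g₁ (hRss g₁ hg₁)
      rw [hz, hGd] at hκ₁
      have hle₁ := one_cls_le hct hUc hg₀c' hg₁
      have q1 := numQ G z _ j₁ e₁ hz1 he₁ hj₁ hκ₁
      rw [hG'] at q1
      exact (numB1F a r z f _ _ ha3 hr1 hz1 hf hRc q1 hle₁).elim
    · have h2R := numC_R a r z f (cls g₀).ncard kU (rest S.U g₀).ncard hz1 hkU
        (by rw [← hG']; exact hκ₀) (by rw [← hG']; exact hcount)
      have hRne : (rest S.U g₀).Nonempty := by
        apply Set.nonempty_of_ncard_ne_zero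
        intro h0
        rw [h0] at h2R
        have h5 : 0 < 2 * r * a * z :=
          Nat.mul_pos (Nat.mul_pos (Nat.mul_pos (by omega) (by omega)) (by omega)) (by omega)
        omega
      obtain ⟨g₁, hg₁⟩ := hRne
      obtain ⟨hg₁c, e₁, j₁, he₁, hj₁, hcz₁, hκ₁⟩ := semis_data h2 S g₁ (hRss g₁ hg₁)
      rw [hz, hGd] at hκ₁
      have hle₁ := one_cls_le hct hUc hg₀c' hg₁
      rcases hj₁ with rfl | rfl
      · exact (numC_1 a r z f e₁ (cls g₁).ncard (rest S.U g₀).ncard ha3 hr1 hz1 he₁ h2R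
          (by rw [← hG', ← hκ₁, one_mul]) hle₁).elim
      · by_cases hex : ∃ g₂ ∈ rest S.U g₀, g₂ ∉ cls g₁
        · obtain ⟨g₂, hg₂, hg₂n⟩ := hex
          obtain ⟨hg₂c, e₂, j₂, he₂, hj₂, hcz₂, hκ₂⟩ := semis_data h2 S g₂ (hRss g₂ hg₂)
          rw [hz, hGd] at hκ₂
          have hle₂ := two_cls_le hct hUc hg₀c' hg₁ hg₂ hg₂n
          have q1 := numQ G z _ 2 e₁ hz1 he₁ (Or.inr rfl) hκ₁
          have q2 := numQ G z _ j₂ e₂ hz1 he₂ hj₂ hκ₂
          rw [hG'] at q1 q2
          exact (numC_2 a r z f _ _ (rest S.U g₀).ncard ha3 hr1 hz1 h2R q1 q2 hle₂).elim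
        · have hRsub : rest S.U g₀ ⊆ cls g₁ := by
            intro k hk
            by_contra hkn
            exact hex ⟨k, hk, hkn⟩
          have hRc : (rest S.U g₀).ncard = (cls g₁).ncard :=
            le_antisymm (Set.ncard_le_ncard hRsub) hle₁
          rw [hRc] at h2R
          obtain ⟨b, rfl⟩ : ∃ b, a = b + 2 := ⟨a - 2, by omega⟩
          have hfb : f ≤ b := by omega
          have hb1 : 1 ≤ b := by omega
          rcases numC_3 b r z f e₁ (cls g₁).ncard hb1 hr1 hz1 hf hfb h2R
            (by rw [← hG']; exact hκ₁) with hr | ⟨hr, hb, hf1, he4⟩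
          · -- one double coset: Bruhat decomposition
            subst hr
            let fB : ↥(PU L) × ↥(BU L) → {g : L // g ∉ BU L} := fun q =>
              ⟨q.1.1 * S.Y * q.2.1, fun hmem => hYB (by
                have h1 : (q.1.1)⁻¹ * (q.1.1 * S.Y * q.2.1) * (q.2.1)⁻¹ ∈ BU L :=
                  (BU L).mul_mem ((BU L).mul_mem ((BU L).inv_mem (PU_le_BU L q.1.2)) hmem)
                    ((BU L).inv_mem q.2.2)
                have e : (q.1.1)⁻¹ * (q.1.1 * S.Y * q.2.1) * (q.2.1)⁻¹ = S.Y := by group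
                rw [e] at h1; exact h1)⟩
            have hinj : Function.Injective fB := by
              rintro ⟨⟨u, hu⟩, ⟨n, hn⟩⟩ ⟨⟨u', hu'⟩, ⟨n', hn'⟩⟩ h
              have h1 : u * S.Y * n = u' * S.Y * n' := congrArg Subtype.val h
              have h3 : S.Y⁻¹ * (u'⁻¹ * u) * S.Y = n' * n⁻¹ := by
                calc S.Y⁻¹ * (u'⁻¹ * u) * S.Y = S.Y⁻¹ * u'⁻¹ * (u * S.Y * n) * n⁻¹ := by group
                  _ = S.Y⁻¹ * u'⁻¹ * (u' * S.Y * n') * n⁻¹ := by rw [h1]
                  _ = n' * n⁻¹ := by group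
              have h4 : u'⁻¹ * u = 1 := conj_BU_eq_one S.Y (u'⁻¹ * u) hYB
                ((PU L).mul_mem ((PU L).inv_mem hu') hu)
                (by rw [h3]; exact (BU L).mul_mem hn' ((BU L).inv_mem hn))
              have huu : u' = u := inv_mul_eq_one.mp h4
              subst huu
              have hnn : n = n' := mul_left_cancel h1
              subst hnn
              rfl
            have hbij : Function.Bijective fB := hinj.bijective_of_nat_card_le
              (le_of_eq (by rw [Nat.card_prod, hcompl, ha, hBd, one_mul]))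
            have hYi : S.Y⁻¹ ∉ BU L := fun h => hYB (by
              have h5 := (BU L).inv_mem h
              rw [inv_inv] at h5
              exact h5)
            obtain ⟨⟨⟨u, hu⟩, ⟨n, hn⟩⟩, hun⟩ := hbij.2 ⟨S.Y⁻¹, hYi⟩
            have h1 : u * S.Y * n = S.Y⁻¹ := congrArg Subtype.val hun
            have h3 : n = S.Y⁻¹ * u⁻¹ * S.Y⁻¹ := by
              calc n = S.Y⁻¹ * u⁻¹ * (u * S.Y * n) := by group
                _ = S.Y⁻¹ * u⁻¹ * S.Y⁻¹ := by rw [h1]
            obtain ⟨α, hα⟩ : ∃ α, (u : SL2 K) = sl2U α := ⟨_, PU_eq_sl2U hu⟩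
            have h4 : (((lo t)⁻¹ * (sl2U α)⁻¹ * (lo t)⁻¹ : SL2 K) : M2 K) 1 0 = 0 := by
              rw [← S.hY, ← hα]
              have h5 := mem_BU.mp hn
              rw [h3] at h5
              exact h5
            rw [bruhat_entry] at h4
            have hαt : α * t = -2 := by
              have h5 : t * (α * t + 2) = 0 := by linear_combination (-1 : K) * h4
              rcases mul_eq_zero.mp h5 with h | h
              · exact absurd h S.ht
              · linear_combination h
            have hα0 : α ≠ 0 := by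
              rintro rfl
              rw [zero_mul] at hαt
              exact h2 (by linear_combination hαt)
            have huL : (1 : SL2 K) * sl2U α * (1 : SL2 K)⁻¹ ∈ L := by
              rw [one_mul, inv_one, mul_one, ← hα]; exact u.2
            exact phi_exists' p L 1 α t (-2) hα0 S.ht (by rw [hαt, map_neg, map_ofNat]) huL hYL1
          · -- the exceptional configuration in characteristic 3
            have hp3 : p ∣ 3 := by rw [hb] at hpa; exact hpa
            have h3 : (3 : K) = 0 := by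
              have h5 : ((3 : ℕ) : K) = 0 := (CharP.cast_eq_zero_iff K p 3).mpr hp3
              exact_mod_cast h5
            have hE : ∀ g : L, ((g : SL2 K) : M2 K).trace ^ 2 ≠ 4 →
                ((g : SL2 K) : M2 K).trace = 0 ∨
                  ((g : SL2 K) : M2 K).trace ^ 4 - 3 * ((g : SL2 K) : M2 K).trace ^ 2 + 1 = 0 := by
              intro g hss
              obtain ⟨hgc, -⟩ := semis_data h2 S g hss
              have hns : ¬ Sl2Scalar (g : SL2 K) := fun h => hgc ((center_iff S g).mpr h)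
              by_cases hg0 : g ∈ cls g₀
              · left
                have hc := card_cz_of_mem_cls hct hg₀c' hg0
                have hpow : g ^ 2 ∈ Subgroup.center L := by
                  have h5 := pow_mem_center g (f + 1) (by rw [hc, hcz₀])
                  rw [hf1] at h5
                  exact h5
                have hsc := (center_iff S _).mp hpow
                rw [Subgroup.coe_pow] at hsc
                exact sc_sq _ hns hsc
              · right
                have hgR : g ∈ cls g₁ := hRsub ⟨hgc, hsemi g hss, hg0⟩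
                have hc := card_cz_of_mem_cls hct hg₁c hgR
                have hpow : g ^ 5 ∈ Subgroup.center L := by
                  have h5 := pow_mem_center g (e₁ + 1) (by rw [hc, hcz₁])
                  rw [he4] at h5
                  exact h5
                have hsc := (center_iff S _).mp hpow
                rw [Subgroup.coe_pow] at hsc
                exact sc_pow5 _ hns hsc
            have hμ : s * t = 1 ∨ s * t = -1 ∨ (s * t) ^ 2 = -1 := by
              have hA : (2 + s * t) ^ 2 = 4 ∨ 2 + s * t = 0 ∨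
                  (2 + s * t) ^ 4 - 3 * (2 + s * t) ^ 2 + 1 = 0 := by
                by_cases h : (((S.U * S.Y : L) : SL2 K) : M2 K).trace ^ 2 = 4
                · left; rw [htrUY] at h; exact h
                · right
                  have h5 := hE _ h
                  rw [htrUY] at h5
                  exact h5
              have hB : (2 - s * t) ^ 2 = 4 ∨ 2 - s * t = 0 ∨
                  (2 - s * t) ^ 4 - 3 * (2 - s * t) ^ 2 + 1 = 0 := by
                by_cases h : (((S.U⁻¹ * S.Y : L) : SL2 K) : M2 K).trace ^ 2 = 4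
                · left; rw [htrUiY] at h; exact h
                · right
                  have h5 := hE _ h
                  rw [htrUiY] at h5
                  exact h5
              exact exc_mu h3 (s * t) hst hA hB
            rcases hμ with h | h | h
            · exact phi_exists' p L 1 s t 1 S.hs S.ht (by rw [h, map_one]) hUL1 hYL1
            · exact phi_exists' p L 1 s t (-1) S.hs S.ht (by rw [h, map_neg, map_one]) hUL1 hYL1
            · have hid := exc_id h3 s t S.hs h
              refine phi_exists' p L (sl2U (s * (s * t - 1))) s s⁻¹ 1 S.hs (inv_ne_zero S.hs)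
                (by rw [mul_inv_cancel₀ S.hs, map_one]) ?_ ?_
              · have e : sl2U (s * (s * t - 1)) * sl2U s * (sl2U (s * (s * t - 1)))⁻¹ =
                    sl2U s := by
                  rw [mul_inv_eq_iff_eq_mul, sl2U_mul, sl2U_mul, add_comm]
                rw [e]; exact hUL
              · rw [hid]
                exact L.mul_mem (L.mul_mem (L.mul_mem hYL hUL) hYL)
                  (L.inv_mem (L.mul_mem hYL hUL))

theorem dickson_pair [Finite K] (p : ℕ) [Fact p.Prime] [CharP K p] (hp2 : p ≠ 2)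
    (H : Subgroup (SL2 K)) (x y : SL2 K) (hx : x ∈ H) (hy : y ∈ H)
    (hxt : (x : M2 K).trace = 2) (hyt : (y : M2 K).trace = 2) (hxy : x * y ≠ y * x) :
    ∃ φ : SL2 (ZMod p) →* SL2 K, Function.Injective φ ∧ ∀ g, φ g ∈ H := by
  have h2 : (2 : K) ≠ 0 := two_ne_zero_of_char p hp2
  obtain ⟨D, s, t, hs, ht, hDx, hDy⟩ := nf h2 x y hxt hyt hxy
  have hUL : sl2U s ∈ H.map (MulAut.conj D).toMonoidHom := by
    rw [← hDx]
    exact Subgroup.mem_map_of_mem (MulAut.conj D).toMonoidHom hx
  have hYL : lo t ∈ H.map (MulAut.conj D).toMonoidHom := by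
    rw [← hDy]
    exact Subgroup.mem_map_of_mem (MulAut.conj D).toMonoidHom hy
  obtain ⟨φ, hinj, hmem⟩ := coord_aux p hp2
    (⟨hs, ht, ⟨sl2U s, hUL⟩, ⟨lo t, hYL⟩, rfl, rfl⟩ :
      Setup (H.map (MulAut.conj D).toMonoidHom) s t)
  refine ⟨(MulAut.conj D⁻¹).toMonoidHom.comp φ, ?_, ?_⟩
  · intro X Y h
    exact hinj ((MulAut.conj D⁻¹).injective h)
  · intro g
    obtain ⟨k, hk, hkeq⟩ := Subgroup.mem_map.mp (hmem g)
    show D⁻¹ * φ g * D⁻¹⁻¹ ∈ H
    rw [← hkeq]
    have e : D⁻¹ * ((MulAut.conj D).toMonoidHom k) * D⁻¹⁻¹ = k := by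
      show D⁻¹ * (D * k * D⁻¹) * D⁻¹⁻¹ = k
      group
    rw [e]; exact hk

theorem dickson [Finite K] (p : ℕ) [Fact p.Prime] [CharP K p] (hp2 : p ≠ 2)
    (H : Subgroup (SL2 K)) (hH : 1 < Nat.card (Sylow p H)) :
    ∃ φ : SL2 (ZMod p) →* SL2 K, Function.Injective φ ∧ ∀ g, φ g ∈ H := by
  have hnt : Nontrivial (Sylow p H) := Finite.one_lt_card_iff_nontrivial.mp hH
  obtain ⟨P, Q, hPQ⟩ := exists_pair_ne (Sylow p H)
  have hex : ∃ x ∈ (P : Subgroup H), ∃ y ∈ (Q : Subgroup H), x * y ≠ y * x := by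
    by_contra hcon
    have hcomm : ∀ x ∈ (P : Subgroup H), ∀ y ∈ (Q : Subgroup H), x * y = y * x := by
      intro x hx y hy
      by_contra hne
      exact hcon ⟨x, hx, y, hy, hne⟩
    have hQN : (Q : Subgroup H) ≤ Subgroup.normalizer ((P : Subgroup H) : Set H) := by
      intro y hy
      rw [Subgroup.mem_normalizer_iff]
      intro h
      constructor
      · intro hh
        have e : y * h * y⁻¹ = h := by
          rw [← hcomm h hh y hy, mul_inv_cancel_right]
        rw [e]; exact hh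
      · intro hh
        have e : y * h * y⁻¹ = h := by
          have h5 := hcomm _ hh y hy
          calc y * h * y⁻¹ = y⁻¹ * ((y * h * y⁻¹) * y) := by rw [h5]; group
            _ = h := by group
        rw [e] at hh; exact hh
    have hsup : IsPGroup p ((Q : Subgroup H) ⊔ (P : Subgroup H) : Subgroup H) :=
      IsPGroup.to_sup_of_normal_right' Q.isPGroup' P.isPGroup' hQN
    have e1 := P.is_maximal' hsup le_sup_right
    have e2 := Q.is_maximal' hsup le_sup_left
    exact hPQ (Sylow.ext (e1.symm.trans e2))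
  obtain ⟨x, hx, y, hy, hxy⟩ := hex
  obtain ⟨k, hk⟩ := P.isPGroup' ⟨x, hx⟩
  obtain ⟨k', hk'⟩ := Q.isPGroup' ⟨y, hy⟩
  have hxp : ((x : H) : SL2 K) ^ p ^ k = 1 := by
    have h5 := congrArg (fun g : ↥(P : Subgroup H) => ((g : H) : SL2 K)) hk
    simpa using h5
  have hyp : ((y : H) : SL2 K) ^ p ^ k' = 1 := by
    have h5 := congrArg (fun g : ↥(Q : Subgroup H) => ((g : H) : SL2 K)) hk'
    simpa using h5
  refine dickson_pair p hp2 H (x : SL2 K) (y : SL2 K) x.2 y.2
    (tr_of_pow_char_pow p _ k hxp) (tr_of_pow_char_pow p _ k' hyp) ?_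
  intro h
  exact hxy (Subtype.ext h)

end Cfsg.Agent.Helper18.Dickson
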