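import Mathlib
import Cfsg.Agent.Helper18.DicksonFin

set_option autoImplicit false

namespace Cfsg.Agent.Helper18.Dickson

open Matrix Cfsg.Agent.Helper12 Cfsg.Agent.Helper18.OutPSL2

local notation "SL2" => Matrix.SpecialLinearGroup (Fin 2)
local notation "M2" => Matrix (Fin 2) (Fin 2)

theorem numA2 (a r z j κ kU Rr : ℕ) (ha : 3 ≤ a) (hr : 1 ≤ r) (hz : 1 ≤ z) (hj : j = 1 ∨ j = 2)
    (hkU : kU + (1 + r * a) * z = (1 + r * a) * z * a)
    (hκ : κ * (j * (z * (1 + 1))) = a * z * (1 + r * a) * (z * 1))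
    (hcount : Rr + κ + kU + z = a * z * (1 + r * a))
    (hR : Rr ≠ 0 → a * z * (1 + r * a) ≤ 4 * Rr) : a = 3 ∧ r = 1 := by
  have hz0 : 0 < z := by omega
  have h1 : Rr + κ = r * a * z := by nlinarith [hkU, hcount]
  have h2 : 2 * j * κ = a * z * (1 + r * a) := by
    apply Nat.eq_of_mul_eq_mul_right hz0
    calc 2 * j * κ * z = κ * (j * (z * (1 + 1))) := by ring
      _ = a * z * (1 + r * a) * (z * 1) := hκ
      _ = a * z * (1 + r * a) * z := by ring
  have haz : 0 < a * z := Nat.mul_pos (by omega) hz0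
  have h3r : r * 3 ≤ r * a := Nat.mul_le_mul_left r ha
  have hno : ¬ (a * z * (1 + r * a) ≤ 2 * (r * a * z)) := by
    intro h
    have h4 : (a * z) * (1 + r * a) ≤ (a * z) * (2 * r) := by
      calc (a * z) * (1 + r * a) ≤ 2 * (r * a * z) := h
        _ = (a * z) * (2 * r) := by ring
    have h5 := Nat.le_of_mul_le_mul_left h4 haz
    omega
  rcases hj with rfl | rfl
  · exfalso
    apply hno
    have h6 : κ ≤ r * a * z := by omega
    omega
  · have h7 : Rr = 0 := by
      by_contra hne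
      have h8 := hR hne
      apply hno
      omega
    rw [h7, zero_add] at h1
    have h9 : (a * z) * (4 * r) = (a * z) * (1 + r * a) := by
      calc (a * z) * (4 * r) = 2 * 2 * (r * a * z) := by ring
        _ = 2 * 2 * κ := by rw [h1]
        _ = a * z * (1 + r * a) := h2
    have h10 := Nat.eq_of_mul_eq_mul_left haz h9
    have ha3 : a = 3 := by
      by_contra hne
      have h4a : 4 ≤ a := by omega
      have h11 := Nat.mul_le_mul_left r h4a
      omega
    subst ha3
    exact ⟨rfl, by omega⟩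

variable {K : Type*} [Field K]
variable {L : Subgroup (SL2 K)} {s t : K}

/-- the structure of a finite subgroup of `SL₂` containing `sl2U s` and `lo t` -/
theorem struct_cases [Finite K] (p : ℕ) [Fact p.Prime] [CharP K p] (hp2 : p ≠ 2)
    (S : Setup L s t) :
    (Nat.card (PU L) = 3 ∧ Nat.card L = 12 * Nat.card (Subgroup.center L)) ∨
    (∀ g : L, g ∉ BU L → ∃ u ∈ PU L, ∃ n ∈ BU L, g = u * S.Y * n) ∨
    (Nat.card (PU L) = 3 ∧ Nat.card L = 60 * Nat.card (Subgroup.center L) ∧ (3 : K) = 0 ∧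
      ∃ g : L, ((g : SL2 K) : M2 K).trace ^ 4 - 3 * ((g : SL2 K) : M2 K).trace ^ 2 + 1 = 0) := by
  have h2 : (2 : K) ≠ 0 := two_ne_zero_of_char p hp2
  have hct := ct_L S
  obtain ⟨a, z, B, G, kU, hh, r, ha, hz, hBd, hGd, hkUd, ha3, hpa, hz1, hh1, hr1, hB, hcompl,
    hG, hnd, hkU⟩ := base_counts p hp2 S
  have hUc : S.U ∉ Subgroup.center L := by
    intro h
    have h1 := ((center_iff S _).mp h).1
    rw [U01 S] at h1
    exact S.hs h1
  have hYB : S.Y ∉ BU L := by
    intro h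
    have h1 := mem_BU.mp h
    rw [S.hY, lo_val] at h1
    exact S.ht h1
  have hsemi : ∀ g : L, ((g : SL2 K) : M2 K).trace ^ 2 ≠ 4 → g ∉ cls S.U :=
    fun g hss h => hss (clsU_tr S g h)
  have hunip : ∀ k : L, k ∉ Subgroup.center L → k ∉ cls S.U →
      ((k : SL2 K) : M2 K).trace ^ 2 ≠ 4 :=
    fun k hk hk' htr => hk' (unip_in_clsU p h2 S hnd k hk htr)
  by_cases hBc : ∀ g ∈ BU L, g ∈ cz S.U
  · left
    have hBeq : B = z * a := by
      have h5 : BU L = cz S.U := le_antisymm hBc (by rw [← nzU_eq S]; exact cz_le_nz _)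
      rw [← hBd, h5, card_czU p hp2 S, hz, ha]
    have hG' : G = a * z * (1 + r * a) := by rw [hG, hBeq]; ring
    have hnc := nc_count (G := L)
    rw [hz, hGd] at hnc
    have hex : ∃ g : L, g ∉ Subgroup.center L ∧ g ∉ cls S.U := by
      by_contra hcon
      have hsub : {k : L | k ∉ Subgroup.center L} ⊆ cls S.U := by
        intro k hk
        by_contra hk'
        exact hcon ⟨k, hk, hk'⟩
      have h5 := Set.ncard_le_ncard hsub
      rw [hkUd] at h5
      have h6 : 0 < r * a * z := Nat.mul_pos (Nat.mul_pos (by omega) (by omega)) (by omega)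
      nlinarith [hkU, hnc, h5, hG', h6]
    obtain ⟨g, hgc, hgU⟩ := hex
    have hss := hunip g hgc hgU
    obtain ⟨-, e, j, he, hj, hcz, hκ⟩ := semis_data h2 S g hss
    have hcount := rest_count hct hUc hgc hgU
    rw [hz, hGd] at hκ
    rw [hz, hGd, hkUd] at hcount
    have he1 : e = 1 := numA a r z e (j * (z * (e + 1))) (cls g).ncard kU ha3 hr1 hz1
      he hkU (by rw [← hG']; exact hκ)
      (Nat.mul_le_mul_right _ (by rcases hj with rfl | rfl <;> omega))
      (by rw [← hG']; omega)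
    subst he1
    have hRr : (rest S.U g).ncard ≠ 0 → a * z * (1 + r * a) ≤ 4 * (rest S.U g).ncard := by
      intro hne
      obtain ⟨g₁, hg₁⟩ := Set.nonempty_of_ncard_ne_zero hne
      obtain ⟨hg₁c, e₁, j₁, he₁, hj₁, hcz₁, hκ₁⟩ := semis_data h2 S g₁ (hunip g₁ hg₁.1 hg₁.2.1)
      rw [hz, hGd] at hκ₁
      have hle₁ := one_cls_le hct hUc hgc hg₁
      have q1 := numQ G z _ j₁ e₁ hz1 he₁ hj₁ hκ₁
      rw [hG'] at q1
      omega
    obtain ⟨ha3', hr1'⟩ := numA2 a r z j (cls g).ncard kU (rest S.U g).ncard ha3 hr1 hz1 hj hkU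
      (by rw [← hG']; exact hκ) (by rw [← hG']; exact hcount) hRr
    refine ⟨by rw [ha, ha3'], ?_⟩
    rw [hGd, hz, hG', ha3', hr1']
    ring
  · obtain ⟨g₀, hg₀⟩ := not_forall.mp hBc
    obtain ⟨hg₀B, hg₀c⟩ := Classical.not_imp.mp hg₀
    have hg10 := mem_BU.mp hg₀B
    have hne : ((g₀ : SL2 K) : M2 K) 0 0 ≠ ((g₀ : SL2 K) : M2 K) 1 1 :=
      fun h => hg₀c ((czU_iff S g₀).mpr ⟨hg10, h⟩)
    have hss₀ := upper_ss (g₀ : SL2 K) hg10 hne
    obtain ⟨hC1, hC2⟩ := card_cz_upper S g₀ hg₀B hne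
    obtain ⟨hg₀c', f, j₀, hf, hj₀, hcz₀, hκ₀⟩ := semis_data h2 S g₀ hss₀
    have hcz₀z : Nat.card (cz g₀) = z * (f + 1) := by rw [hcz₀, hz]
    rw [hz, hGd] at hκ₀
    have hB' : B = z * (f + 1) * a := by rw [← hBd, ← hC1, hcz₀z, ha]
    have hG' : G = a * (z * (f + 1)) * (1 + r * a) := by rw [hG, hB']; ring
    have hfa : f + 1 ≤ a - 1 := by
      have h5 := hC2
      rw [hcz₀z, hz, ha] at h5
      exact Nat.le_of_mul_le_mul_left h5 hz1
    have hcount := rest_count hct hUc hg₀c' (hsemi g₀ hss₀)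
    rw [hz, hGd, hkUd] at hcount
    have hRss : ∀ g₁ ∈ rest S.U g₀, ((g₁ : SL2 K) : M2 K).trace ^ 2 ≠ 4 :=
      fun g₁ hg₁ => hunip g₁ hg₁.1 hg₁.2.1
    rcases hj₀ with rfl | rfl
    · exfalso
      have hRc : (rest S.U g₀).ncard = r * a * z :=
        numB1 a r z f (cls g₀).ncard kU (rest S.U g₀).ncard hz1 hkU
          (by rw [← hG', ← hκ₀, one_mul]) (by rw [← hG']; exact hcount)
      have hRne : (rest S.U g₀).Nonempty := by
        apply Set.nonempty_of_ncard_ne_zero
        rw [hRc]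
        exact Nat.mul_ne_zero (Nat.mul_ne_zero (by omega) (by omega)) (by omega)
      obtain ⟨g₁, hg₁⟩ := hRne
      obtain ⟨hg₁c, e₁, j₁, he₁, hj₁, hcz₁, hκ₁⟩ := semis_data h2 S g₁ (hRss g₁ hg₁)
      rw [hz, hGd] at hκ₁
      have hle₁ := one_cls_le hct hUc hg₀c' hg₁
      have q1 := numQ G z _ j₁ e₁ hz1 he₁ hj₁ hκ₁
      rw [hG'] at q1
      exact numB1F a r z f _ _ ha3 hr1 hz1 hf hRc q1 hle₁
    · have h2R := numC_R a r z f (cls g₀).ncard kU (rest S.U g₀).ncard hz1 hkU
        (by rw [← hG']; exact hκ₀) (by rw [← hG']; exact hcount)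
      have hRne : (rest S.U g₀).Nonempty := by
        apply Set.nonempty_of_ncard_ne_zero
        intro h0
        rw [h0] at h2R
        have h5 : 0 < 2 * r * a * z :=
          Nat.mul_pos (Nat.mul_pos (Nat.mul_pos (by omega) (by omega)) (by omega)) (by omega)
        omega
      obtain ⟨g₁, hg₁⟩ := hRne
      obtain ⟨hg₁c, e₁, j₁, he₁, hj₁, hcz₁, hκ₁⟩ := semis_data h2 S g₁ (hRss g₁ hg₁)
      rw [hz, hGd] at hκ₁
      have hle₁ := one_cls_le hct hUc hg₀c' hg₁
      rcases hj₁ with rfl | rfl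
      · exact (numC_1 a r z f e₁ (cls g₁).ncard (rest S.U g₀).ncard ha3 hr1 hz1 he₁ h2R
          (by rw [← hG', ← hκ₁, one_mul]) hle₁).elim
      · by_cases hex : ∃ g₂ ∈ rest S.U g₀, g₂ ∉ cls g₁
        · obtain ⟨g₂, hg₂, hg₂n⟩ := hex
          obtain ⟨hg₂c, e₂, j₂, he₂, hj₂, hcz₂, hκ₂⟩ := semis_data h2 S g₂ (hRss g₂ hg₂)
          rw [hz, hGd] at hκ₂
          have hle₂ := two_cls_le hct hUc hg₀c' hg₁ hg₂ hg₂n
          have q1 := numQ G z _ 2 e₁ hz1 he₁ (Or.inr rfl) hκ₁
          have q2 := numQ G z _ j₂ e₂ hz1 he₂ hj₂ hκ₂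
          rw [hG'] at q1 q2
          exact (numC_2 a r z f _ _ (rest S.U g₀).ncard ha3 hr1 hz1 h2R q1 q2 hle₂).elim
        · have hRsub : rest S.U g₀ ⊆ cls g₁ := by
            intro k hk
            by_contra hkn
            exact hex ⟨k, hk, hkn⟩
          have hRc : (rest S.U g₀).ncard = (cls g₁).ncard :=
            le_antisymm (Set.ncard_le_ncard hRsub) hle₁
          rw [hRc] at h2R
          obtain ⟨b, rfl⟩ : ∃ b, a = b + 2 := ⟨a - 2, by omega⟩
          have hfb : f ≤ b := by omega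
          have hb1 : 1 ≤ b := by omega
          rcases numC_3 b r z f e₁ (cls g₁).ncard hb1 hr1 hz1 hf hfb h2R
            (by rw [← hG']; exact hκ₁) with hr | ⟨hr, hb, hf1, he4⟩
          · right; left
            subst hr
            let fB : ↥(PU L) × ↥(BU L) → {g : L // g ∉ BU L} := fun q =>
              ⟨q.1.1 * S.Y * q.2.1, fun hmem => hYB (by
                have h1 : (q.1.1)⁻¹ * (q.1.1 * S.Y * q.2.1) * (q.2.1)⁻¹ ∈ BU L :=
                  (BU L).mul_mem ((BU L).mul_mem ((BU L).inv_mem (PU_le_BU L q.1.2)) hmem)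
                    ((BU L).inv_mem q.2.2)
                have e : (q.1.1)⁻¹ * (q.1.1 * S.Y * q.2.1) * (q.2.1)⁻¹ = S.Y := by group
                rw [e] at h1; exact h1)⟩
            have hinj : Function.Injective fB := by
              rintro ⟨⟨u, hu⟩, ⟨n, hn⟩⟩ ⟨⟨u', hu'⟩, ⟨n', hn'⟩⟩ h
              have h1 : u * S.Y * n = u' * S.Y * n' := congrArg Subtype.val h
              have h3 : S.Y⁻¹ * (u'⁻¹ * u) * S.Y = n' * n⁻¹ := by
                calc S.Y⁻¹ * (u'⁻¹ * u) * S.Y = S.Y⁻¹ * u'⁻¹ * (u * S.Y * n) * n⁻¹ := by group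
                  _ = S.Y⁻¹ * u'⁻¹ * (u' * S.Y * n') * n⁻¹ := by rw [h1]
                  _ = n' * n⁻¹ := by group
              have h4 : u'⁻¹ * u = 1 := conj_BU_eq_one S.Y (u'⁻¹ * u) hYB
                ((PU L).mul_mem ((PU L).inv_mem hu') hu)
                (by rw [h3]; exact (BU L).mul_mem hn' ((BU L).inv_mem hn))
              have huu : u' = u := inv_mul_eq_one.mp h4
              subst huu
              have hnn : n = n' := mul_left_cancel h1
              subst hnn
              rfl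
            have hbij : Function.Bijective fB := hinj.bijective_of_nat_card_le
              (le_of_eq (by rw [Nat.card_prod, hcompl, ha, hBd, one_mul]))
            intro g hg
            obtain ⟨⟨⟨u, hu⟩, ⟨n, hn⟩⟩, hun⟩ := hbij.2 ⟨g, hg⟩
            exact ⟨u, hu, n, hn, (congrArg Subtype.val hun).symm⟩
          · right; right
            have hp3 : p ∣ 3 := by rw [hb] at hpa; exact hpa
            have h3 : (3 : K) = 0 := by
              have h5 : ((3 : ℕ) : K) = 0 := (CharP.cast_eq_zero_iff K p 3).mpr hp3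
              exact_mod_cast h5
            have hpow : g₁ ^ 5 ∈ Subgroup.center L := by
              have h5 := pow_mem_center g₁ (e₁ + 1) hcz₁
              rw [he4] at h5
              exact h5
            have hsc := (center_iff S _).mp hpow
            rw [Subgroup.coe_pow] at hsc
            have hns : ¬ Sl2Scalar (g₁ : SL2 K) := fun h => hg₁c ((center_iff S g₁).mpr h)
            refine ⟨by rw [ha]; omega, ?_, h3, g₁, sc_pow5 _ hns hsc⟩
            rw [hGd, hz, hG', hr, hb, hf1]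
            ring

end Cfsg.Agent.Helper18.Dickson
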