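import Mathlib
import Cfsg.Agent.Helper18.DicksonStruct
import Cfsg.Agent.S0805

set_option autoImplicit false

namespace Cfsg.Agent.Helper18.Dickson

open Matrix Cfsg.Agent.Helper12 Cfsg.Agent.Helper18.OutPSL2

local notation "SL2" => Matrix.SpecialLinearGroup (Fin 2)
local notation "M2" => Matrix (Fin 2) (Fin 2)

section entries

variable {K : Type*} [Field K]

theorem sl2U_00 (α : K) : ((sl2U α : SL2 K) : M2 K) 0 0 = 1 := by rw [sl2U_val]; rfl
theorem sl2U_01 (α : K) : ((sl2U α : SL2 K) : M2 K) 0 1 = α := by rw [sl2U_val]; rfl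
theorem sl2U_10 (α : K) : ((sl2U α : SL2 K) : M2 K) 1 0 = 0 := by rw [sl2U_val]; rfl
theorem sl2U_11 (α : K) : ((sl2U α : SL2 K) : M2 K) 1 1 = 1 := by rw [sl2U_val]; rfl
theorem lo_00 (b : K) : ((lo b : SL2 K) : M2 K) 0 0 = 1 := by rw [lo_val]; rfl
theorem lo_01 (b : K) : ((lo b : SL2 K) : M2 K) 0 1 = 0 := by rw [lo_val]; rfl
theorem lo_10 (b : K) : ((lo b : SL2 K) : M2 K) 1 0 = b := by rw [lo_val]; rfl
theorem lo_11 (b : K) : ((lo b : SL2 K) : M2 K) 1 1 = 1 := by rw [lo_val]; rfl

theorem conj_U_upper (n : SL2 K) (hn : (n : M2 K) 1 0 = 0) (x : K) :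
    n * sl2U x * n⁻¹ = sl2U ((n : M2 K) 0 0 ^ 2 * x) := by
  obtain ⟨d, b, c, e, hnm, hdet⟩ := sl2_eta n
  have h00 : (n : M2 K) 0 0 = d := by rw [hnm]; rfl
  have hc : c = 0 := by rw [hnm] at hn; exact hn
  subst hc
  rw [h00, mul_inv_eq_iff_eq_mul, sl2_mul_eq_iff, hnm, sl2U_val, sl2U_val, Matrix.mul_fin_two,
    Matrix.mul_fin_two]
  refine mat2_ext ?_ ?_ ?_ ?_
  · ring
  · linear_combination (-(d * x)) * hdet
  · ring
  · ring

variable {L : Subgroup (SL2 K)} {s t : K}

theorem bruhat_ratio (S : Setup L s t)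
    (hBr : ∀ g : L, g ∉ BU L → ∃ u ∈ PU L, ∃ n ∈ BU L, g = u * S.Y * n)
    (g : SL2 K) (hg : g ∈ L) (hc : (g : M2 K) 1 0 ≠ 0) :
    ∃ α : K, sl2U α ∈ L ∧ (g : M2 K) 0 0 * t = (1 + α * t) * (g : M2 K) 1 0 := by
  obtain ⟨u, hu, n, hn, hgun⟩ := hBr ⟨g, hg⟩ (fun h => hc (mem_BU.mp h))
  obtain ⟨α, hα⟩ : ∃ α, (u : SL2 K) = sl2U α := ⟨_, PU_eq_sl2U hu⟩
  refine ⟨α, by rw [← hα]; exact u.2, ?_⟩
  have hg' : g = (u : SL2 K) * lo t * (n : SL2 K) := by
    have h5 := congrArg Subtype.val hgun
    rw [← S.hY]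
    exact h5
  have hn10 := mem_BU.mp hn
  rw [hg', mul00, mul10, mul00, mul10, hn10, hα, sl2U_00, sl2U_01, sl2U_10, sl2U_11, lo_00, lo_10]
  ring

theorem card_center_le_two [Finite K] (h2 : (2 : K) ≠ 0) (S : Setup L s t) :
    Nat.card (Subgroup.center L) ≤ 2 := by
  classical
  have hinj : Function.Injective (fun g : Subgroup.center L =>
      decide ((((g : L) : SL2 K) : M2 K) 0 0 = 1)) := by
    intro g g' hgg
    have hs := (center_iff S g.1).mp g.2
    have hs' := (center_iff S g'.1).mp g'.2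
    have h1 := upper_sq _ hs.2.1 hs.2.2
    have h1' := upper_sq _ hs'.2.1 hs'.2.2
    have hiff : ((((g : L) : SL2 K) : M2 K) 0 0 = 1) ↔ ((((g' : L) : SL2 K) : M2 K) 0 0 = 1) := by
      simpa using hgg
    have hne : (-1 : K) ≠ 1 := by
      intro h
      apply h2
      linear_combination (-1 : K) * h
    have h00 : (((g : L) : SL2 K) : M2 K) 0 0 = (((g' : L) : SL2 K) : M2 K) 0 0 := by
      rcases h1 with h | h
      · rw [h, hiff.mp h]
      · rcases h1' with h' | h'
        · exact absurd (hiff.mpr h') (by rw [h]; exact hne)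
        · rw [h, h']
    apply Subtype.ext
    apply Subtype.ext
    apply Subtype.ext
    ext i j
    fin_cases i <;> fin_cases j
    · exact h00
    · exact hs.1.trans hs'.1.symm
    · exact hs.2.1.trans hs'.2.1.symm
    · exact hs.2.2.symm.trans (h00.trans hs'.2.2)
  have h5 := Nat.card_le_card_of_injective _ hinj
  rw [Nat.card_eq_fintype_card (α := Bool), Fintype.card_bool] at h5
  exact h5

end entries

section field

theorem hua_mul {F : Type*} [Field F] (p : ℕ) [Fact p.Prime] [CharP F p] (hp2 : p ≠ 2)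
    (A : AddSubgroup F) (h1 : (1 : F) ∈ A) (hinv : ∀ x ∈ A, x ≠ 0 → x⁻¹ ∈ A) :
    ∀ x ∈ A, ∀ y ∈ A, x * y ∈ A := by
  have hsq : ∀ x ∈ A, x * x ∈ A := by
    intro x hx
    by_cases hx0 : x = 0
    · rw [hx0, mul_zero]; exact A.zero_mem
    by_cases hx1 : 1 - x = 0
    · have e : x = 1 := by linear_combination (-1 : F) * hx1
      rw [e, mul_one]; exact h1
    have hxi := hinv x hx hx0
    have h1x : 1 - x ∈ A := A.sub_mem h1 hx
    have h1xi := hinv _ h1x hx1
    have hsum : x⁻¹ + (1 - x)⁻¹ ∈ A := A.add_mem hxi h1xi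
    have hsum_eq : x⁻¹ + (1 - x)⁻¹ = (x * (1 - x))⁻¹ := by
      apply eq_inv_of_mul_eq_one_left
      have e1 : (x⁻¹ + (1 - x)⁻¹) * (x * (1 - x)) =
          (x⁻¹ * x) * (1 - x) + ((1 - x)⁻¹ * (1 - x)) * x := by ring
      rw [e1, inv_mul_cancel₀ hx0, inv_mul_cancel₀ hx1]
      ring
    have hne : x⁻¹ + (1 - x)⁻¹ ≠ 0 := by
      rw [hsum_eq]; exact inv_ne_zero (mul_ne_zero hx0 hx1)
    have h5 := hinv _ hsum hne
    rw [hsum_eq, inv_inv] at h5
    have h6 : x * x = x - x * (1 - x) := by ring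
    rw [h6]; exact A.sub_mem hx h5
  intro x hx y hy
  have h7 : (x + y) * (x + y) - x * x - y * y ∈ A :=
    A.sub_mem (A.sub_mem (hsq _ (A.add_mem hx hy)) (hsq x hx)) (hsq y hy)
  obtain ⟨m, hm⟩ := (Fact.out : p.Prime).eq_two_or_odd'.resolve_left hp2
  have hmem : (m + 1) • ((x + y) * (x + y) - x * x - y * y) ∈ A := A.nsmul_mem h7 (m + 1)
  have hpK : ((p : ℕ) : F) = 0 := CharP.cast_eq_zero F p
  have e : (m + 1) • ((x + y) * (x + y) - x * x - y * y) = x * y := by
    rw [nsmul_eq_mul]
    rw [hm] at hpK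
    push_cast at hpK ⊢
    linear_combination (x * y) * hpK
  rw [e] at hmem; exact hmem

variable {F K : Type*} [Field F] [Fintype F] [Field K] [Fintype K]

theorem sub_dichotomy (f : K →+* F) (r : ℕ) (hr : r.Prime)
    (hF : Fintype.card F = Fintype.card K ^ r) (A : Set F) (h1 : (1 : F) ∈ A)
    (hadd : ∀ x ∈ A, ∀ y ∈ A, x + y ∈ A) (hmul : ∀ x ∈ A, ∀ y ∈ A, x * y ∈ A)
    (h0 : (0 : F) ∈ A) (hinv : ∀ x ∈ A, x⁻¹ ∈ A) (hf : ∀ k, f k ∈ A) :
    (∀ x ∈ A, ∃ k, f k = x) ∨ (∀ x, x ∈ A) := by
  letI : Algebra K F := f.toAlgebra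
  have hfin : Module.finrank K F = r := by
    have h5 := Module.card_eq_pow_finrank (K := K) (V := F)
    rw [hF] at h5
    exact (Nat.pow_right_injective Fintype.one_lt_card h5).symm
  haveI : IsSimpleOrder (IntermediateField K F) :=
    IntermediateField.isSimpleOrder_of_finrank_prime K F (by rw [hfin]; exact hr)
  let E : IntermediateField K F :=
    { carrier := A
      mul_mem' := fun {a b} ha hb => hmul a ha b hb
      one_mem' := h1
      add_mem' := fun {a b} ha hb => hadd a ha b hb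
      zero_mem' := h0
      algebraMap_mem' := fun k => hf k
      inv_mem' := fun x hx => hinv x hx }
  rcases eq_bot_or_eq_top E with h | h
  · left
    intro x hx
    have hxE : x ∈ E := hx
    rw [h] at hxE
    exact IntermediateField.mem_bot.mp hxE
  · right
    intro x
    have hxE : x ∈ E := by rw [h]; exact IntermediateField.mem_top
    exact hxE

theorem fixed_range (f : K →+* F) (d : F) (hd : d ^ Fintype.card K = d) : ∃ k, f k = d := by
  classical
  have hq1 : 1 < Fintype.card K := Fintype.one_lt_card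
  have hS : (Finset.univ.image f).card = Fintype.card K := by
    rw [Finset.card_image_of_injective _ f.injective, Finset.card_univ]
  have hne := FiniteField.X_pow_card_sub_X_ne_zero F hq1
  have hsub : Finset.univ.image f ⊆
      (Polynomial.X ^ Fintype.card K - Polynomial.X : Polynomial F).roots.toFinset := by
    intro x hx
    rw [Finset.mem_image] at hx
    obtain ⟨k, -, rfl⟩ := hx
    rw [Multiset.mem_toFinset, Polynomial.mem_roots hne, Polynomial.IsRoot.def,
      Polynomial.eval_sub, Polynomial.eval_pow, Polynomial.eval_X, ← map_pow,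
      FiniteField.pow_card, sub_self]
  have hcard : (Polynomial.X ^ Fintype.card K - Polynomial.X : Polynomial F).roots.toFinset.card ≤
      Fintype.card K := by
    calc _ ≤ Multiset.card (Polynomial.X ^ Fintype.card K - Polynomial.X : Polynomial F).roots :=
          Multiset.toFinset_card_le _
      _ ≤ (Polynomial.X ^ Fintype.card K - Polynomial.X : Polynomial F).natDegree :=
          Polynomial.card_roots' _
      _ = Fintype.card K := FiniteField.X_pow_card_sub_X_natDegree_eq F hq1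
  have heq := Finset.eq_of_subset_of_card_le hsub (by rw [hS]; exact hcard)
  have hdmem : d ∈ (Polynomial.X ^ Fintype.card K - Polynomial.X : Polynomial F).roots.toFinset := by
    rw [Multiset.mem_toFinset, Polynomial.mem_roots hne, Polynomial.IsRoot.def,
      Polynomial.eval_sub, Polynomial.eval_pow, Polynomial.eval_X, hd, sub_self]
  rw [← heq, Finset.mem_image] at hdmem
  obtain ⟨k, -, hk⟩ := hdmem
  exact ⟨k, hk⟩

theorem pow_card_pm (f : K →+* F) (hodd : Odd (Fintype.card K)) (d : F) (k : K) (hd0 : d ≠ 0)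
    (hdk : d * d = f k) : d ^ Fintype.card K = d ∨ d ^ Fintype.card K = -d := by
  obtain ⟨m, hm⟩ := hodd
  have hk0 : k ≠ 0 := by
    rintro rfl
    rw [map_zero] at hdk
    exact hd0 (mul_self_eq_zero.mp hdk)
  have h1 : (k ^ m) * (k ^ m) = 1 := by
    rw [← pow_add]
    have h5 := FiniteField.pow_card_sub_one_eq_one k hk0
    rw [hm] at h5
    have e : 2 * m + 1 - 1 = m + m := by omega
    rw [e] at h5; exact h5
  have h2 : k ^ m = 1 ∨ k ^ m = -1 := by
    have h3 : (k ^ m - 1) * (k ^ m + 1) = 0 := by linear_combination h1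
    rcases mul_eq_zero.mp h3 with h | h
    · left; linear_combination h
    · right; linear_combination h
  have h4 : d ^ Fintype.card K = d * f (k ^ m) := by
    rw [hm, pow_succ, pow_mul, pow_two, hdk, ← map_pow, mul_comm]
  rcases h2 with h | h
  · left; rw [h4, h, map_one, mul_one]
  · right; rw [h4, h, map_neg, map_one, mul_neg, mul_one]

omit [Fintype F] in
theorem pow_card_iter (q : ℕ) (hq : Odd q) (d : F) (h : d ^ q = -d) (n : ℕ) :
    d ^ (q ^ n) = (-1) ^ n * d := by
  induction n with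
  | zero => simp
  | succ n ih =>
    have e1 : ((-1 : F) ^ n) ^ q = (-1) ^ n := by
      rw [← pow_mul, mul_comm, pow_mul, hq.neg_one_pow]
    calc d ^ q ^ (n + 1) = (d ^ q ^ n) ^ q := by rw [pow_succ, pow_mul]
      _ = ((-1) ^ n * d) ^ q := by rw [ih]
      _ = (-1) ^ n * (-d) := by rw [mul_pow, e1, h]
      _ = (-1) ^ (n + 1) * d := by ring

theorem sq_mem_range (f : K →+* F) (r : ℕ) (hr : Odd r) (hodd : Odd (Fintype.card K))
    (hF : Fintype.card F = Fintype.card K ^ r) (h2 : (2 : F) ≠ 0) (d : F) (k : K) (hd0 : d ≠ 0)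
    (hdk : d * d = f k) : ∃ k', f k' = d := by
  rcases pow_card_pm f hodd d k hd0 hdk with h | h
  · exact fixed_range f d h
  · exfalso
    have h5 := pow_card_iter (Fintype.card K) hodd d h r
    rw [← hF, FiniteField.pow_card, hr.neg_one_pow] at h5
    apply hd0
    have h6 : (2 : F) * d = 0 := by linear_combination h5
    exact (mul_eq_zero.mp h6).resolve_left h2

theorem no_fourth_root (r : ℕ) (hr : Odd r) (hF : Fintype.card F = 3 ^ r) (h2 : (2 : F) ≠ 0)
    (τ : F) (hτ : τ ^ 4 = -1) : False := by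
  have hτ0 : τ ≠ 0 := by
    rintro rfl
    rw [zero_pow (by norm_num)] at hτ
    exact one_ne_zero (neg_eq_zero.mp hτ.symm)
  have h1 := FiniteField.pow_card_sub_one_eq_one τ hτ0
  rw [hF] at h1
  obtain ⟨m, hm⟩ := hr
  obtain ⟨k, hk⟩ : ∃ k, 3 ^ r - 1 = 8 * k + 2 := by
    rw [hm]
    have h5 : ∀ m : ℕ, ∃ k, 3 ^ (2 * m + 1) = 8 * k + 3 := by
      intro m
      induction m with
      | zero => exact ⟨0, by norm_num⟩
      | succ n ih =>
        obtain ⟨k, hk⟩ := ih
        refine ⟨9 * k + 3, ?_⟩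
        have e : 2 * (n + 1) + 1 = (2 * n + 1) + 2 := by ring
        rw [e, pow_add, hk]; ring
    obtain ⟨k, hk⟩ := h5 m
    exact ⟨k, by rw [hk]; omega⟩
  rw [hk, pow_add, pow_mul] at h1
  have h8 : τ ^ 8 = 1 := by
    have e : τ ^ 8 = (τ ^ 4) ^ 2 := by ring
    rw [e, hτ]; ring
  rw [h8, one_pow, one_mul] at h1
  have h4 : τ ^ 4 = 1 := by
    have e : τ ^ 4 = (τ ^ 2) ^ 2 := by ring
    rw [e, h1]; ring
  rw [h4] at hτ
  apply h2
  linear_combination hτ

end field

section overgp

variable {F K : Type*} [Field F] [Field K]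

theorem map_sl2U (f : K →+* F) (k : K) :
    Matrix.SpecialLinearGroup.map f (sl2U k) = sl2U (f k) := by
  apply Subtype.ext
  ext i j
  rw [Cfsg.Agent.S0805.map_entry, sl2U_val, sl2U_val]
  fin_cases i <;> fin_cases j <;> simp

theorem map_lo (f : K →+* F) (k : K) :
    Matrix.SpecialLinearGroup.map f (lo k) = lo (f k) := by
  apply Subtype.ext
  ext i j
  rw [Cfsg.Agent.S0805.map_entry, lo_val, lo_val]
  fin_cases i <;> fin_cases j <;> simp

theorem map_wE (f : K →+* F) :
    Matrix.SpecialLinearGroup.map f (wE : SL2 K) = wE := by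
  apply Subtype.ext
  ext i j
  rw [Cfsg.Agent.S0805.map_entry, wE_val, wE_val]
  fin_cases i <;> fin_cases j <;> simp

theorem map_inj (f : K →+* F) :
    Function.Injective (Matrix.SpecialLinearGroup.map f : SL2 K →* SL2 F) := by
  intro x y h
  apply Subtype.ext
  ext i j
  apply f.injective
  rw [← Cfsg.Agent.S0805.map_entry, ← Cfsg.Agent.S0805.map_entry, h]

theorem mem_range_map (f : K →+* F) (g : SL2 F) (a b c d : K) (h00 : f a = (g : M2 F) 0 0)
    (h01 : f b = (g : M2 F) 0 1) (h10 : f c = (g : M2 F) 1 0) (h11 : f d = (g : M2 F) 1 1) :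
    g ∈ (Matrix.SpecialLinearGroup.map f : SL2 K →* SL2 F).range := by
  have hdet : a * d - b * c = 1 := by
    apply f.injective
    rw [map_sub, map_mul, map_mul, map_one, h00, h01, h10, h11]
    have h5 := g.det_coe
    rw [Matrix.det_fin_two] at h5
    exact h5
  refine ⟨sl2mk a b c d hdet, ?_⟩
  apply Subtype.ext
  ext i j
  rw [Cfsg.Agent.S0805.map_entry, sl2mk_val]
  fin_cases i <;> fin_cases j
  · exact h00
  · exact h01
  · exact h10
  · exact h11

theorem card_le_PU [Fintype K] [Finite F] (f : K →+* F) (L : Subgroup (SL2 F))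
    (hL : (Matrix.SpecialLinearGroup.map f : SL2 K →* SL2 F).range ≤ L) :
    Fintype.card K ≤ Nat.card (PU L) := by
  have hmem : ∀ k : K, sl2U (f k) ∈ L := fun k => by
    rw [← map_sl2U]; exact hL ⟨_, rfl⟩
  rw [← Nat.card_eq_fintype_card]
  apply Nat.card_le_card_of_injective
    (fun k : K => (⟨⟨sl2U (f k), hmem k⟩, ⟨sl2U_10 _, sl2U_00 _⟩⟩ : PU L))
  intro k k' h
  have h5 := congrArg (fun u : PU L => ((u : L) : SL2 F)) h
  exact f.injective (sl2U_injective h5)

/-- overgroups of the subfield subgroup `SL₂(K)` in `SL₂(F)`, `[F : K]` an odd prime -/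
theorem overgroup_odd [Fintype F] [Fintype K] (f : K →+* F) (r : ℕ) (hr : r.Prime) (hr2 : r ≠ 2)
    (hodd : Odd (Fintype.card K)) (hF : Fintype.card F = Fintype.card K ^ r)
    (L : Subgroup (SL2 F))
    (hL : (Matrix.SpecialLinearGroup.map f : SL2 K →* SL2 F).range ≤ L) :
    L = (Matrix.SpecialLinearGroup.map f : SL2 K →* SL2 F).range ∨ L = ⊤ := by
  classical
  obtain ⟨p, hpF⟩ := CharP.exists F
  haveI := hpF
  have hpp : p.Prime := CharP.char_is_prime F p
  haveI : Fact p.Prime := ⟨hpp⟩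
  have hFodd : Odd (Fintype.card F) := by rw [hF]; exact hodd.pow
  have h2 : (2 : F) ≠ 0 := two_ne_zero_of_odd hFodd
  have hp2 : p ≠ 2 := by
    intro hp
    have h5 : ((p : ℕ) : F) = 0 := CharP.cast_eq_zero F p
    rw [hp] at h5
    exact h2 (by exact_mod_cast h5)
  have hrange : ∀ x : SL2 K, Matrix.SpecialLinearGroup.map f x ∈ L := fun x => hL ⟨x, rfl⟩
  have hfA : ∀ k, sl2U (f k) ∈ L := fun k => by
    have h5 := hrange (sl2U k)
    rw [map_sl2U] at h5
    exact h5
  have hU : sl2U (1 : F) ∈ L := by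
    have h5 := hfA 1
    rw [map_one] at h5
    exact h5
  have hY : lo (1 : F) ∈ L := by
    have h5 := hrange (lo 1)
    rw [map_lo, map_one] at h5
    exact h5
  have hw : (wE : SL2 F) ∈ L := by
    have h5 := hrange wE
    rw [map_wE] at h5
    exact h5
  obtain ⟨S⟩ : Nonempty (Setup L (1 : F) 1) :=
    ⟨⟨one_ne_zero, one_ne_zero, ⟨sl2U 1, hU⟩, ⟨lo 1, hY⟩, rfl, rfl⟩⟩
  have hloA : ∀ x, sl2U x ∈ L → lo x ∈ L := by
    intro x hx
    have h5 := wE_conj (-x)
    rw [neg_neg] at h5
    rw [← h5]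
    exact L.mul_mem (L.mul_mem hw (by rw [sl2U_neg_eq_inv]; exact L.inv_mem hx)) (L.inv_mem hw)
  have hcardSf : Nat.card (Matrix.SpecialLinearGroup.map f : SL2 K →* SL2 F).range =
      Fintype.card K * (Fintype.card K ^ 2 - 1) := by
    rw [← sl2_card]
    exact (Nat.card_congr (MonoidHom.ofInjective (map_inj f)).toEquiv).symm
  have hq3 : 3 ≤ Fintype.card K := by
    have h1 := Fintype.one_lt_card (α := K)
    obtain ⟨m, hm⟩ := hodd
    omega
  have hrodd : Odd r := hr.odd_of_ne_two hr2
  rcases struct_cases p hp2 S with ⟨ha, hG⟩ | hBr | ⟨ha, hG, h3, g, hg⟩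
  · left
    symm
    apply Subgroup.eq_of_le_of_card_ge hL
    have hz := card_center_le_two h2 S
    rw [hG, hcardSf]
    have h8 : 8 ≤ Fintype.card K ^ 2 - 1 := by
      have h9 : 9 ≤ Fintype.card K ^ 2 := by nlinarith
      omega
    calc 12 * Nat.card (Subgroup.center L) ≤ 12 * 2 := Nat.mul_le_mul_left _ hz
      _ = 3 * 8 := by norm_num
      _ ≤ Fintype.card K * (Fintype.card K ^ 2 - 1) := Nat.mul_le_mul hq3 h8
  · have hinvA : ∀ x : F, sl2U x ∈ L → x ≠ 0 → sl2U x⁻¹ ∈ L := by
      intro x hx hx0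
      obtain ⟨α, hα, hrel⟩ := bruhat_ratio S hBr (lo x) (hloA x hx) (by rw [lo_10]; exact hx0)
      rw [lo_00, lo_10, mul_one, mul_one] at hrel
      have e : 1 + α = x⁻¹ := eq_inv_of_mul_eq_one_left hrel.symm
      rw [← e, ← sl2U_mul]
      exact L.mul_mem hU hα
    let A : AddSubgroup F :=
      { carrier := {x | sl2U x ∈ L}
        zero_mem' := by
          show sl2U (0 : F) ∈ L
          rw [sl2U_zero]; exact L.one_mem
        add_mem' := by
          intro a b ha hb
          show sl2U (a + b) ∈ L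
          rw [← sl2U_mul]; exact L.mul_mem ha hb
        neg_mem' := by
          intro a ha
          show sl2U (-a) ∈ L
          rw [sl2U_neg_eq_inv]; exact L.inv_mem ha }
    have hmulA : ∀ x ∈ A, ∀ y ∈ A, x * y ∈ A :=
      hua_mul p hp2 A hU (fun x hx hx0 => hinvA x hx hx0)
    rcases sub_dichotomy f r hr hF {x | sl2U x ∈ L} hU
      (fun x hx y hy => A.add_mem hx hy) hmulA A.zero_mem
      (fun x hx => by
        by_cases hx0 : x = 0
        · rw [hx0, _root_.inv_zero]; exact A.zero_mem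
        · exact hinvA x hx hx0) hfA with hbot | htop
    · left
      have hB : ∀ g : SL2 F, g ∈ L → (g : M2 F) 1 0 = 0 →
          g ∈ (Matrix.SpecialLinearGroup.map f : SL2 K →* SL2 F).range := by
        intro g hg hg10
        have hdet := det_upper g hg10
        have hd0 : (g : M2 F) 0 0 ≠ 0 := left_ne_zero_of_mul_eq_one hdet
        have h11ne : (g : M2 F) 1 1 ≠ 0 := right_ne_zero_of_mul_eq_one hdet
        have hconj : sl2U ((g : M2 F) 0 0 ^ 2 * 1) ∈ L := by
          rw [← conj_U_upper g hg10 1]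
          exact L.mul_mem (L.mul_mem hg hU) (L.inv_mem hg)
        obtain ⟨k, hk⟩ := hbot _ hconj
        obtain ⟨k', hk'⟩ := sq_mem_range f r hrodd hodd hF h2 ((g : M2 F) 0 0) k hd0
          (by rw [hk]; ring)
        have h11 : (g : M2 F) 1 1 = ((g : M2 F) 0 0)⁻¹ := eq_inv_of_mul_eq_one_right hdet
        have hgl : g * lo 1 ∈ L := L.mul_mem hg hY
        have hgl10 : ((g * lo 1 : SL2 F) : M2 F) 1 0 = (g : M2 F) 1 1 := by
          rw [mul10, hg10, lo_00, lo_10]; ring
        have hgl00 : ((g * lo 1 : SL2 F) : M2 F) 0 0 = (g : M2 F) 0 0 + (g : M2 F) 0 1 := by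
          rw [mul00, lo_00, lo_10]; ring
        obtain ⟨α, hα, hrel⟩ := bruhat_ratio S hBr (g * lo 1) hgl (by rw [hgl10]; exact h11ne)
        obtain ⟨kα, hkα⟩ := hbot α hα
        rw [hgl00, hgl10, mul_one, mul_one] at hrel
        refine mem_range_map f g k' ((1 + kα) * k'⁻¹ - k') 0 k'⁻¹ hk' ?_
          (by rw [map_zero, hg10]) (by rw [map_inv₀, hk', h11])
        rw [map_sub, map_mul, map_add, map_one, map_inv₀, hkα, hk', ← h11]
        linear_combination (-1 : F) * hrel
      apply le_antisymm _ hL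
      intro g hg
      by_cases hg10 : (g : M2 F) 1 0 = 0
      · exact hB g hg hg10
      · obtain ⟨u, hu, n, hn, hgun⟩ := hBr ⟨g, hg⟩ (fun h => hg10 (mem_BU.mp h))
        have hg' : g = (u : SL2 F) * lo 1 * (n : SL2 F) := by
          have h5 := congrArg Subtype.val hgun
          rw [← S.hY]
          exact h5
        have hu' : (u : SL2 F) ∈ (Matrix.SpecialLinearGroup.map f : SL2 K →* SL2 F).range := by
          have hx : sl2U (((u : SL2 F) : M2 F) 0 1) ∈ L := by
            rw [← PU_eq_sl2U hu]; exact u.2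
          obtain ⟨k, hk⟩ := hbot _ hx
          rw [PU_eq_sl2U hu, ← hk, ← map_sl2U]
          exact ⟨_, rfl⟩
        have hn' : (n : SL2 F) ∈ (Matrix.SpecialLinearGroup.map f : SL2 K →* SL2 F).range :=
          hB _ n.2 (mem_BU.mp hn)
        have hY' : lo (1 : F) ∈ (Matrix.SpecialLinearGroup.map f : SL2 K →* SL2 F).range :=
          ⟨lo 1, by rw [map_lo, map_one]⟩
        rw [hg']
        exact Subgroup.mul_mem _ (Subgroup.mul_mem _ hu' hY') hn'
    · right
      exact sl2_generate (lo 1) (by rw [lo_10]; exact one_ne_zero) L htop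
        (fun y => L.mul_mem (L.mul_mem hY (htop y)) (L.inv_mem hY))
  · exfalso
    have hqa : Fintype.card K ≤ 3 := by rw [← ha]; exact card_le_PU f L hL
    have hq : Fintype.card K = 3 := le_antisymm hqa hq3
    generalize ((g : SL2 F) : M2 F).trace = τ at hg
    have hτ : τ ^ 4 = -1 := by linear_combination hg + τ ^ 2 * h3
    exact no_fourth_root r hrodd (by rw [hF, hq]) h2 τ hτ

/-- `PSL₂(K)` is a maximal subgroup of `PSL₂(F)` when `[F : K]` is an odd prime (odd characteristic) -/
theorem psl_coatom [Fintype F] [Fintype K] (f : K →+* F) (r : ℕ) (hr : r.Prime) (hr2 : r ≠ 2)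
    (hodd : Odd (Fintype.card K)) (hF : Fintype.card F = Fintype.card K ^ r) :
    ∃ H : Subgroup (Matrix.ProjectiveSpecialLinearGroup (Fin 2) F), IsCoatom H ∧
      Nonempty (H ≃* Matrix.ProjectiveSpecialLinearGroup (Fin 2) K) := by
  refine ⟨(Cfsg.Agent.S0805.pslMap f).range, ⟨?_, ?_⟩,
    ⟨((QuotientGroup.quotientMulEquivOfEq (Cfsg.Agent.S0805.pslMap_ker f)).symm.trans
      (QuotientGroup.quotientKerEquivRange (Cfsg.Agent.S0805.pslMap f))).symm⟩⟩
  · intro htop
    have hex : ∃ x : F, ∀ k, f k ≠ x := by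
      by_contra hcon
      have hsurj : Function.Surjective f := by
        intro x
        by_contra hx
        exact hcon ⟨x, fun k hk => hx ⟨k, hk⟩⟩
      have h5 := Fintype.card_le_of_surjective f hsurj
      rw [hF] at h5
      have h6 : Fintype.card K ^ 1 < Fintype.card K ^ r :=
        Nat.pow_lt_pow_right Fintype.one_lt_card hr.one_lt
      rw [pow_one] at h6
      omega
    obtain ⟨x, hx⟩ := hex
    have hmem : pr (sl2U x) ∈ (Cfsg.Agent.S0805.pslMap f).range := by
      rw [htop]; exact Subgroup.mem_top _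
    obtain ⟨y, hy⟩ := hmem
    have hy' : pr (Matrix.SpecialLinearGroup.map f y) = pr (sl2U x) := hy
    rcases pr_eq_mat hy' with h | h
    · have h01 := congrFun (congrFun h 0) 1
      rw [Cfsg.Agent.S0805.map_entry, sl2U_01] at h01
      exact hx _ h01
    · have h01 := congrFun (congrFun h 0) 1
      rw [Cfsg.Agent.S0805.map_entry, Matrix.neg_apply, sl2U_01] at h01
      exact hx (-(y : M2 K) 0 1) (by rw [map_neg, h01, neg_neg])
  · intro M hM
    have hL : (Matrix.SpecialLinearGroup.map f : SL2 K →* SL2 F).range ≤ M.comap pr := by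
      rintro _ ⟨y, rfl⟩
      rw [Subgroup.mem_comap]
      exact hM.le ⟨y, rfl⟩
    rcases overgroup_odd f r hr hr2 hodd hF (M.comap pr) hL with h | h
    · exfalso
      have hle : M ≤ (Cfsg.Agent.S0805.pslMap f).range := by
        intro m hm
        obtain ⟨g, rfl⟩ := pr_surj m
        have hg : g ∈ M.comap pr := hm
        rw [h] at hg
        obtain ⟨y, rfl⟩ := hg
        exact ⟨y, rfl⟩
      exact lt_irrefl _ (lt_of_lt_of_le hM hle)
    · rw [eq_top_iff]
      intro m _
      obtain ⟨g, rfl⟩ := pr_surj m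
      have hg : g ∈ M.comap pr := by rw [h]; exact Subgroup.mem_top _
      exact hg

end overgp

/-! ### The quadratic case: `PGL₂(K)` inside `PSL₂(F)`, `[F : K] = 2` -/

section quad

variable {F K : Type*} [Field F] [Field K]

theorem card_range_map [Fintype K] (f : K →+* F) :
    Nat.card (Matrix.SpecialLinearGroup.map f : SL2 K →* SL2 F).range =
      Fintype.card K * (Fintype.card K ^ 2 - 1) := by
  rw [← sl2_card]
  exact (Nat.card_congr (MonoidHom.ofInjective (map_inj f)).toEquiv).symm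

theorem frob_add [Fintype K] (f : K →+* F) (x y : F) :
    (x + y) ^ Fintype.card K = x ^ Fintype.card K + y ^ Fintype.card K := by
  letI : Algebra K F := f.toAlgebra
  exact map_add (FiniteField.frobeniusAlgHom K F) x y

theorem frob_sub [Fintype K] (f : K →+* F) (x y : F) :
    (x - y) ^ Fintype.card K = x ^ Fintype.card K - y ^ Fintype.card K := by
  letI : Algebra K F := f.toAlgebra
  exact map_sub (FiniteField.frobeniusAlgHom K F) x y

/-- all entries of `g` are fixed, or all are negated, by the `q`-th power map -/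
def Tw (q : ℕ) (g : SL2 F) : Prop :=
  (∀ i j, (g : M2 F) i j ^ q = (g : M2 F) i j) ∨ (∀ i j, (g : M2 F) i j ^ q = -(g : M2 F) i j)

theorem Tw_map [Fintype K] (f : K →+* F) (y : SL2 K) :
    Tw (Fintype.card K) (Matrix.SpecialLinearGroup.map f y) := by
  left
  intro i j
  rw [Cfsg.Agent.S0805.map_entry, ← map_pow, FiniteField.pow_card]

theorem Tw_map_mul [Fintype K] (f : K →+* F) (y : SL2 K) (n : SL2 F)
    (hn : Tw (Fintype.card K) n) :
    Tw (Fintype.card K) (Matrix.SpecialLinearGroup.map f y * n) := by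
  have hy : ∀ i j, ((Matrix.SpecialLinearGroup.map f y : SL2 F) : M2 F) i j ^ Fintype.card K =
      ((Matrix.SpecialLinearGroup.map f y : SL2 F) : M2 F) i j := by
    intro i j
    rw [Cfsg.Agent.S0805.map_entry, ← map_pow, FiniteField.pow_card]
  rcases hn with hn | hn
  · left
    intro i j
    rw [Matrix.SpecialLinearGroup.coe_mul, Matrix.mul_apply, Fin.sum_univ_two, frob_add f, mul_pow,
      mul_pow, hy, hy, hn, hn]
  · right
    intro i j
    rw [Matrix.SpecialLinearGroup.coe_mul, Matrix.mul_apply, Fin.sum_univ_two, frob_add f, mul_pow,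
      mul_pow, hy, hy, hn, hn]
    ring

theorem pr_mem_psi [Fintype F] [Fintype K] (f : K →+* F) (hsq : ∀ x : K, ∃ s : F, s * s = f x)
    (g : SL2 F) (hg : Tw (Fintype.card K) g) :
    pr g ∈ (Cfsg.Agent.S0805.psi f hsq).range := by
  have key : ∀ (c : F) (A : GL (Fin 2) K), f.mapMatrix (A : M2 K) = c • (g : M2 F) →
      pr g ∈ (Cfsg.Agent.S0805.psi f hsq).range := by
    intro c A hA
    refine ⟨A, ?_⟩
    rw [Cfsg.Agent.S0805.psi_apply]
    show (QuotientGroup.mk (Cfsg.Agent.S0805.Psi f hsq A) :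
      Matrix.ProjectiveSpecialLinearGroup (Fin 2) F) = QuotientGroup.mk g
    apply Cfsg.Agent.S0805.psl2_mk_eq_of_smul _ _ ((Cfsg.Agent.S0805.sq f hsq A)⁻¹ * c)
    rw [Cfsg.Agent.S0805.Psi_val, hA, smul_smul]
  rcases hg with hg | hg
  · obtain ⟨a, ha⟩ := fixed_range f _ (hg 0 0)
    obtain ⟨b, hb⟩ := fixed_range f _ (hg 0 1)
    obtain ⟨c, hc⟩ := fixed_range f _ (hg 1 0)
    obtain ⟨d, hd⟩ := fixed_range f _ (hg 1 1)
    obtain ⟨y, hy⟩ := mem_range_map f g a b c d ha hb hc hd
    refine key 1 (Matrix.SpecialLinearGroup.toGL y) ?_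
    rw [one_smul, ← hy, Matrix.SpecialLinearGroup.map_apply_coe]
    rfl
  · have hdet := g.det_coe
    rw [Matrix.det_fin_two] at hdet
    obtain ⟨δ, hδ0, hδ⟩ : ∃ δ : F, δ ≠ 0 ∧ δ ^ Fintype.card K = -δ := by
      by_cases h00 : (g : M2 F) 0 0 = 0
      · refine ⟨(g : M2 F) 1 0, ?_, hg 1 0⟩
        intro h10
        rw [h00, h10] at hdet
        simp at hdet
      · exact ⟨_, h00, hg 0 0⟩
    have hfix : ∀ i j, ∃ k, f k = δ⁻¹ * (g : M2 F) i j := by
      intro i j
      apply fixed_range
      rw [mul_pow, inv_pow, hδ, hg i j, inv_neg]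
      ring
    obtain ⟨a, ha⟩ := hfix 0 0
    obtain ⟨b, hb⟩ := hfix 0 1
    obtain ⟨c, hc⟩ := hfix 1 0
    obtain ⟨d, hd⟩ := hfix 1 1
    have hdetA : (!![a, b; c, d] : M2 K).det ≠ 0 := by
      rw [Matrix.det_fin_two_of]
      intro h0
      have h5 := congrArg f h0
      rw [map_sub, map_mul, map_mul, map_zero, ha, hb, hc, hd] at h5
      have h6 : δ⁻¹ * δ⁻¹ = 0 := by linear_combination h5 - (δ⁻¹ * δ⁻¹) * hdet
      exact inv_ne_zero hδ0 (mul_self_eq_zero.mp h6)
    refine key δ⁻¹ (Matrix.GeneralLinearGroup.mkOfDetNeZero !![a, b; c, d] hdetA) ?_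
    ext i j
    fin_cases i <;> fin_cases j
    · show f (!![a, b; c, d] 0 0) = δ⁻¹ * (g : M2 F) 0 0
      exact ha
    · show f (!![a, b; c, d] 0 1) = δ⁻¹ * (g : M2 F) 0 1
      exact hb
    · show f (!![a, b; c, d] 1 0) = δ⁻¹ * (g : M2 F) 1 0
      exact hc
    · show f (!![a, b; c, d] 1 1) = δ⁻¹ * (g : M2 F) 1 1
      exact hd

/-- overgroups of the subfield subgroup `SL₂(K)` in `SL₂(F)`, `[F : K] = 2` -/
theorem overgroup_two [Fintype F] [Fintype K] (f : K →+* F)
    (hodd : Odd (Fintype.card K)) (hF : Fintype.card F = Fintype.card K ^ 2)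
    (L : Subgroup (SL2 F))
    (hL : (Matrix.SpecialLinearGroup.map f : SL2 K →* SL2 F).range ≤ L) :
    (∀ g ∈ L, Tw (Fintype.card K) g) ∨ L = ⊤ ∨
      (Fintype.card K = 3 ∧ Nat.card L = 60 * Nat.card (Subgroup.center L) ∧
        Nat.card (Subgroup.center L) ≤ 2) := by
  classical
  obtain ⟨p, hpF⟩ := CharP.exists F
  haveI := hpF
  have hpp : p.Prime := CharP.char_is_prime F p
  haveI : Fact p.Prime := ⟨hpp⟩
  have hFodd : Odd (Fintype.card F) := by rw [hF]; exact hodd.pow
  have h2 : (2 : F) ≠ 0 := two_ne_zero_of_odd hFodd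
  have hp2 : p ≠ 2 := by
    intro hp
    have h5 : ((p : ℕ) : F) = 0 := CharP.cast_eq_zero F p
    rw [hp] at h5
    exact h2 (by exact_mod_cast h5)
  have hrange : ∀ x : SL2 K, Matrix.SpecialLinearGroup.map f x ∈ L := fun x => hL ⟨x, rfl⟩
  have hfA : ∀ k, sl2U (f k) ∈ L := fun k => by
    have h5 := hrange (sl2U k)
    rw [map_sl2U] at h5
    exact h5
  have hU : sl2U (1 : F) ∈ L := by
    have h5 := hfA 1
    rw [map_one] at h5
    exact h5
  have hY : lo (1 : F) ∈ L := by
    have h5 := hrange (lo 1)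
    rw [map_lo, map_one] at h5
    exact h5
  have hw : (wE : SL2 F) ∈ L := by
    have h5 := hrange wE
    rw [map_wE] at h5
    exact h5
  obtain ⟨S⟩ : Nonempty (Setup L (1 : F) 1) :=
    ⟨⟨one_ne_zero, one_ne_zero, ⟨sl2U 1, hU⟩, ⟨lo 1, hY⟩, rfl, rfl⟩⟩
  have hloA : ∀ x, sl2U x ∈ L → lo x ∈ L := by
    intro x hx
    have h5 := wE_conj (-x)
    rw [neg_neg] at h5
    rw [← h5]
    exact L.mul_mem (L.mul_mem hw (by rw [sl2U_neg_eq_inv]; exact L.inv_mem hx)) (L.inv_mem hw)
  have hq3 : 3 ≤ Fintype.card K := by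
    have h1 := Fintype.one_lt_card (α := K)
    obtain ⟨m, hm⟩ := hodd
    omega
  have hq0 : Fintype.card K ≠ 0 := Fintype.card_ne_zero
  rcases struct_cases p hp2 S with ⟨ha, hG⟩ | hBr | ⟨ha, hG, h3, g, hg⟩
  · left
    have hLeq : (Matrix.SpecialLinearGroup.map f : SL2 K →* SL2 F).range = L := by
      apply Subgroup.eq_of_le_of_card_ge hL
      have hz := card_center_le_two h2 S
      rw [hG, card_range_map]
      have h8 : 8 ≤ Fintype.card K ^ 2 - 1 := by
        have h9 : 9 ≤ Fintype.card K ^ 2 := by nlinarith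
        omega
      calc 12 * Nat.card (Subgroup.center L) ≤ 12 * 2 := Nat.mul_le_mul_left _ hz
        _ = 3 * 8 := by norm_num
        _ ≤ Fintype.card K * (Fintype.card K ^ 2 - 1) := Nat.mul_le_mul hq3 h8
    intro g hg
    rw [← hLeq] at hg
    obtain ⟨y, rfl⟩ := hg
    exact Tw_map f y
  · have hinvA : ∀ x : F, sl2U x ∈ L → x ≠ 0 → sl2U x⁻¹ ∈ L := by
      intro x hx hx0
      obtain ⟨α, hα, hrel⟩ := bruhat_ratio S hBr (lo x) (hloA x hx) (by rw [lo_10]; exact hx0)
      rw [lo_00, lo_10, mul_one, mul_one] at hrel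
      have e : 1 + α = x⁻¹ := eq_inv_of_mul_eq_one_left hrel.symm
      rw [← e, ← sl2U_mul]
      exact L.mul_mem hU hα
    let A : AddSubgroup F :=
      { carrier := {x | sl2U x ∈ L}
        zero_mem' := by
          show sl2U (0 : F) ∈ L
          rw [sl2U_zero]; exact L.one_mem
        add_mem' := by
          intro a b ha hb
          show sl2U (a + b) ∈ L
          rw [← sl2U_mul]; exact L.mul_mem ha hb
        neg_mem' := by
          intro a ha
          show sl2U (-a) ∈ L
          rw [sl2U_neg_eq_inv]; exact L.inv_mem ha }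
    have hmulA : ∀ x ∈ A, ∀ y ∈ A, x * y ∈ A :=
      hua_mul p hp2 A hU (fun x hx hx0 => hinvA x hx hx0)
    rcases sub_dichotomy f 2 Nat.prime_two hF {x | sl2U x ∈ L} hU
      (fun x hx y hy => A.add_mem hx hy) hmulA A.zero_mem
      (fun x hx => by
        by_cases hx0 : x = 0
        · rw [hx0, _root_.inv_zero]; exact A.zero_mem
        · exact hinvA x hx hx0) hfA with hbot | htop
    · left
      have hB : ∀ g : SL2 F, g ∈ L → (g : M2 F) 1 0 = 0 → Tw (Fintype.card K) g := by
        intro g hg hg10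
        have hdet := det_upper g hg10
        have hd0 : (g : M2 F) 0 0 ≠ 0 := left_ne_zero_of_mul_eq_one hdet
        have h11ne : (g : M2 F) 1 1 ≠ 0 := right_ne_zero_of_mul_eq_one hdet
        have hconj : sl2U ((g : M2 F) 0 0 ^ 2 * 1) ∈ L := by
          rw [← conj_U_upper g hg10 1]
          exact L.mul_mem (L.mul_mem hg hU) (L.inv_mem hg)
        obtain ⟨k, hk⟩ := hbot _ hconj
        have h11 : (g : M2 F) 1 1 = ((g : M2 F) 0 0)⁻¹ := eq_inv_of_mul_eq_one_right hdet
        have hgl : g * lo 1 ∈ L := L.mul_mem hg hY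
        have hgl10 : ((g * lo 1 : SL2 F) : M2 F) 1 0 = (g : M2 F) 1 1 := by
          rw [mul10, hg10, lo_00, lo_10]; ring
        have hgl00 : ((g * lo 1 : SL2 F) : M2 F) 0 0 = (g : M2 F) 0 0 + (g : M2 F) 0 1 := by
          rw [mul00, lo_00, lo_10]; ring
        obtain ⟨α, hα, hrel⟩ := bruhat_ratio S hBr (g * lo 1) hgl (by rw [hgl10]; exact h11ne)
        obtain ⟨kα, hkα⟩ := hbot α hα
        rw [hgl00, hgl10, mul_one, mul_one] at hrel
        have h01 : (g : M2 F) 0 1 = (1 + f kα) * (g : M2 F) 1 1 - (g : M2 F) 0 0 := by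
          rw [hkα]; linear_combination hrel
        have hfix : (1 + f kα) ^ Fintype.card K = 1 + f kα := by
          rw [← map_one f, ← map_add, ← map_pow, FiniteField.pow_card]
        rcases pow_card_pm f hodd ((g : M2 F) 0 0) k hd0 (by rw [hk]; ring) with hd | hd
        · left
          have he : (g : M2 F) 1 1 ^ Fintype.card K = (g : M2 F) 1 1 := by
            rw [h11, inv_pow, hd]
          have hb : (g : M2 F) 0 1 ^ Fintype.card K = (g : M2 F) 0 1 := by
            rw [h01, frob_sub f, mul_pow, hfix, he, hd]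
          intro i j
          fin_cases i <;> fin_cases j
          · exact hd
          · exact hb
          · show (g : M2 F) 1 0 ^ Fintype.card K = (g : M2 F) 1 0
            rw [hg10, zero_pow hq0]
          · exact he
        · right
          have he : (g : M2 F) 1 1 ^ Fintype.card K = -(g : M2 F) 1 1 := by
            rw [h11, inv_pow, hd, inv_neg]
          have hb : (g : M2 F) 0 1 ^ Fintype.card K = -(g : M2 F) 0 1 := by
            rw [h01, frob_sub f, mul_pow, hfix, he, hd]; ring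
          intro i j
          fin_cases i <;> fin_cases j
          · exact hd
          · exact hb
          · show (g : M2 F) 1 0 ^ Fintype.card K = -(g : M2 F) 1 0
            rw [hg10, zero_pow hq0, neg_zero]
          · exact he
      intro g hg
      by_cases hg10 : (g : M2 F) 1 0 = 0
      · exact hB g hg hg10
      · obtain ⟨u, hu, n, hn, hgun⟩ := hBr ⟨g, hg⟩ (fun h => hg10 (mem_BU.mp h))
        have hg' : g = (u : SL2 F) * lo 1 * (n : SL2 F) := by
          have h5 := congrArg Subtype.val hgun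
          rw [← S.hY]
          exact h5
        have hx : sl2U (((u : SL2 F) : M2 F) 0 1) ∈ L := by
          rw [← PU_eq_sl2U hu]; exact u.2
        obtain ⟨k, hk⟩ := hbot _ hx
        have e : g = Matrix.SpecialLinearGroup.map f (sl2U k * lo 1) * (n : SL2 F) := by
          rw [hg', map_mul, map_sl2U, map_lo, map_one, hk, ← PU_eq_sl2U hu]
        rw [e]
        exact Tw_map_mul f _ _ (hB _ n.2 (mem_BU.mp hn))
    · right; left
      exact sl2_generate (lo 1) (by rw [lo_10]; exact one_ne_zero) L htop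
        (fun y => L.mul_mem (L.mul_mem hY (htop y)) (L.inv_mem hY))
  · right; right
    exact ⟨le_antisymm (by rw [← ha]; exact card_le_PU f L hL) hq3, hG, card_center_le_two h2 S⟩

/-- `PGL₂(K)` is a maximal subgroup of `PSL₂(F)` when `[F : K] = 2` (odd characteristic) -/
theorem pgl_coatom [Fintype F] [Fintype K] (f : K →+* F) (hodd : Odd (Fintype.card K))
    (hF : Fintype.card F = Fintype.card K ^ 2) (hsq : ∀ x : K, ∃ s : F, s * s = f x) :
    IsCoatom (Cfsg.Agent.S0805.psi f hsq).range := by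
  have hTw := pr_mem_psi f hsq
  refine ⟨?_, ?_⟩
  · intro htop
    have hex : ∃ x : F, ∀ k, f k ≠ x := by
      by_contra hcon
      have hsurj : Function.Surjective f := by
        intro x
        by_contra hx
        exact hcon ⟨x, fun k hk => hx ⟨k, hk⟩⟩
      have h5 := Fintype.card_le_of_surjective f hsurj
      rw [hF] at h5
      have h6 : Fintype.card K ^ 1 < Fintype.card K ^ 2 :=
        Nat.pow_lt_pow_right Fintype.one_lt_card (by norm_num)
      rw [pow_one] at h6
      omega
    obtain ⟨x, hx⟩ := hex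
    have hmem : pr (sl2U x) ∈ (Cfsg.Agent.S0805.psi f hsq).range := by
      rw [htop]; exact Subgroup.mem_top _
    obtain ⟨A, hA⟩ := hmem
    have hA' : pr (Cfsg.Agent.S0805.Psi f hsq A) = pr (sl2U x) := hA
    have hent : ∀ i j, ((Cfsg.Agent.S0805.Psi f hsq A : SL2 F) : M2 F) i j =
        (Cfsg.Agent.S0805.sq f hsq A)⁻¹ * f ((A : M2 K) i j) := by
      intro i j
      rw [Cfsg.Agent.S0805.Psi_val, Matrix.smul_apply, RingHom.mapMatrix_apply, Matrix.map_apply,
        smul_eq_mul]
    rcases pr_eq_mat hA' with h | h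
    · have e00 := congrFun (congrFun h 0) 0
      have e01 := congrFun (congrFun h 0) 1
      rw [hent, sl2U_00] at e00
      rw [hent, sl2U_01] at e01
      have ha : f ((A : M2 K) 0 0) ≠ 0 := by
        intro h0
        rw [h0, mul_zero] at e00
        exact zero_ne_one e00
      have e : f ((A : M2 K) 0 1) = x * f ((A : M2 K) 0 0) := by
        calc f ((A : M2 K) 0 1)
            = f ((A : M2 K) 0 1) * ((Cfsg.Agent.S0805.sq f hsq A)⁻¹ * f ((A : M2 K) 0 0)) := by
              rw [e00, mul_one]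
          _ = ((Cfsg.Agent.S0805.sq f hsq A)⁻¹ * f ((A : M2 K) 0 1)) * f ((A : M2 K) 0 0) := by
              ring
          _ = x * f ((A : M2 K) 0 0) := by rw [e01]
      exact hx ((A : M2 K) 0 1 / (A : M2 K) 0 0)
        (by rw [map_div₀, e, mul_div_assoc, div_self ha, mul_one])
    · have e00 := congrFun (congrFun h 0) 0
      have e01 := congrFun (congrFun h 0) 1
      rw [hent, Matrix.neg_apply, sl2U_00] at e00
      rw [hent, Matrix.neg_apply, sl2U_01] at e01
      have ha : f ((A : M2 K) 0 0) ≠ 0 := by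
        intro h0
        rw [h0, mul_zero] at e00
        exact one_ne_zero (neg_eq_zero.mp e00.symm)
      have e : f ((A : M2 K) 0 1) = x * f ((A : M2 K) 0 0) := by
        calc f ((A : M2 K) 0 1)
            = -(f ((A : M2 K) 0 1) * ((Cfsg.Agent.S0805.sq f hsq A)⁻¹ * f ((A : M2 K) 0 0))) := by
              rw [e00]; ring
          _ = -(((Cfsg.Agent.S0805.sq f hsq A)⁻¹ * f ((A : M2 K) 0 1)) * f ((A : M2 K) 0 0)) := by
              ring
          _ = x * f ((A : M2 K) 0 0) := by rw [e01]; ring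
      exact hx ((A : M2 K) 0 1 / (A : M2 K) 0 0)
        (by rw [map_div₀, e, mul_div_assoc, div_self ha, mul_one])
  · intro M hM
    have hL : (Matrix.SpecialLinearGroup.map f : SL2 K →* SL2 F).range ≤ M.comap pr := by
      rintro _ ⟨y, rfl⟩
      rw [Subgroup.mem_comap]
      exact hM.le (hTw _ (Tw_map f y))
    have hMH : ¬ M ≤ (Cfsg.Agent.S0805.psi f hsq).range :=
      fun hle => lt_irrefl _ (lt_of_lt_of_le hM hle)
    rcases overgroup_two f hodd hF (M.comap pr) hL with h | h | ⟨hq3, hG, hz⟩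
    · exfalso
      apply hMH
      intro m hm
      obtain ⟨g, rfl⟩ := pr_surj m
      exact hTw g (h g hm)
    · rw [eq_top_iff]
      intro m _
      obtain ⟨g, rfl⟩ := pr_surj m
      have hg : g ∈ M.comap pr := by rw [h]; exact Subgroup.mem_top _
      exact hg
    · exfalso
      have hSfN : (Matrix.SpecialLinearGroup.map f : SL2 K →* SL2 F).range ≤
          (Cfsg.Agent.S0805.psi f hsq).range.comap pr := by
        rintro _ ⟨y, rfl⟩
        exact hTw _ (Tw_map f y)
      have hNL : (Cfsg.Agent.S0805.psi f hsq).range.comap pr ≤ M.comap pr :=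
        Subgroup.comap_mono hM.le
      have hne1 : (Matrix.SpecialLinearGroup.map f : SL2 K →* SL2 F).range ≠
          (Cfsg.Agent.S0805.psi f hsq).range.comap pr := by
        intro heq
        obtain ⟨ν, hν⟩ := FiniteField.exists_nonsquare (F := K) (ringChar_ne_two_of_odd hodd)
        have hν0 : ν ≠ 0 := by
          rintro rfl
          exact hν ⟨0, by rw [mul_zero]⟩
        have hdetA : (!![ν, 0; 0, 1] : M2 K).det ≠ 0 := by
          rw [Matrix.det_fin_two_of, mul_one, mul_zero, sub_zero]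
          exact hν0
        obtain ⟨A, hA⟩ : ∃ A : GL (Fin 2) K, (A : M2 K) = !![ν, 0; 0, 1] :=
          ⟨Matrix.GeneralLinearGroup.mkOfDetNeZero _ hdetA, rfl⟩
        have hmem : Cfsg.Agent.S0805.Psi f hsq A ∈
            (Cfsg.Agent.S0805.psi f hsq).range.comap pr := ⟨A, rfl⟩
        rw [← heq] at hmem
        obtain ⟨y, hy⟩ := hmem
        have hs := Cfsg.Agent.S0805.sq_spec f hsq A
        have hdet' : (A : M2 K).det = ν := by
          rw [hA, Matrix.det_fin_two_of]; ring
        rw [hdet'] at hs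
        have h11 : f ((y : M2 K) 1 1) = (Cfsg.Agent.S0805.sq f hsq A)⁻¹ := by
          have h5 : ((Matrix.SpecialLinearGroup.map f y : SL2 F) : M2 F) 1 1 =
              ((Cfsg.Agent.S0805.Psi f hsq A : SL2 F) : M2 F) 1 1 := by rw [hy]
          rw [Cfsg.Agent.S0805.map_entry, Cfsg.Agent.S0805.Psi_val, Matrix.smul_apply,
            RingHom.mapMatrix_apply, Matrix.map_apply, smul_eq_mul] at h5
          have h6 : (A : M2 K) 1 1 = 1 := by rw [hA]; rfl
          rw [h6, map_one, mul_one] at h5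
          exact h5
        apply hν
        refine ⟨((y : M2 K) 1 1)⁻¹, ?_⟩
        apply f.injective
        rw [map_mul, map_inv₀, h11, inv_inv, hs]
      have hne2 : (Cfsg.Agent.S0805.psi f hsq).range.comap pr ≠ M.comap pr := by
        intro heq
        apply hMH
        intro m hm
        obtain ⟨g, rfl⟩ := pr_surj m
        have hg : g ∈ M.comap pr := hm
        rw [← heq] at hg
        exact hg
      have hcSf : Nat.card (Matrix.SpecialLinearGroup.map f : SL2 K →* SL2 F).range = 24 := by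
        have h5 := card_range_map f
        rw [hq3] at h5
        have e : 3 * (3 ^ 2 - 1) = 24 := by norm_num
        rw [e] at h5
        exact h5
      obtain ⟨k, hk⟩ := Subgroup.card_dvd_of_le hSfN
      obtain ⟨l, hl⟩ := Subgroup.card_dvd_of_le hNL
      have hk2 : 2 ≤ k := by
        by_contra hlt
        apply hne1
        apply Subgroup.eq_of_le_of_card_ge hSfN
        rw [hk]
        have hk1 : k ≤ 1 := by omega
        calc Nat.card (Matrix.SpecialLinearGroup.map f : SL2 K →* SL2 F).range * k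
            ≤ Nat.card (Matrix.SpecialLinearGroup.map f : SL2 K →* SL2 F).range * 1 :=
              Nat.mul_le_mul_left _ hk1
          _ = _ := mul_one _
      have hl2 : 2 ≤ l := by
        by_contra hlt
        apply hne2
        apply Subgroup.eq_of_le_of_card_ge hNL
        rw [hl]
        have hl1 : l ≤ 1 := by omega
        calc Nat.card ((Cfsg.Agent.S0805.psi f hsq).range.comap pr) * l
            ≤ Nat.card ((Cfsg.Agent.S0805.psi f hsq).range.comap pr) * 1 :=
              Nat.mul_le_mul_left _ hl1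
          _ = _ := mul_one _
      rw [hk, hcSf, hG] at hl
      have hzpos : 0 < Nat.card (Subgroup.center (M.comap pr)) := Nat.card_pos
      have hk' : k ≤ 2 := by
        by_contra hgt
        have h3k : 3 ≤ k := by omega
        have h7 : 24 * 3 * 2 ≤ 24 * k * l := Nat.mul_le_mul (Nat.mul_le_mul_left 24 h3k) hl2
        omega
      have hk2' : k = 2 := by omega
      subst hk2'
      omega

end quad

end Cfsg.Agent.Helper18.Dickson
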