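import Mathlib
import Cfsg.Agent.Helper18.DicksonOver

set_option autoImplicit false

namespace Cfsg.Agent.Helper18.Dickson

open Matrix Cfsg.Agent.Helper12 Cfsg.Agent.Helper18.OutPSL2

local notation "SL2" => Matrix.SpecialLinearGroup (Fin 2)
local notation "M2" => Matrix (Fin 2) (Fin 2)

section chartwo

variable {K : Type*} [Field K]

theorem semis_conj2 (h2 : (2 : K) = 0) (g x : SL2 K)
    (hss : (g : M2 K).trace ^ 2 ≠ 4) (hc : g * x = x * g)
    (ht : (x : M2 K).trace = (g : M2 K).trace) : x = g ∨ x = g⁻¹ := by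
  have hns : ¬ Sl2Scalar g := fun h => hss (sl2Scalar_trace_sq g h)
  obtain ⟨α, β, hx⟩ := sl2_commutant g x hns hc
  obtain ⟨a, b, c, d, hg, hdet⟩ := sl2_eta g
  have hdx := x.det_coe
  rw [hx, hg] at hdx
  rw [hx, hg] at ht
  rw [hg] at hss
  have hdx' : (α + β * a) * (α + β * d) - (β * b) * (β * c) = 1 := by
    rw [← hdx, Matrix.det_fin_two]
    simp
  have ht' : (α + β * a) + (α + β * d) = a + d := by
    rw [Matrix.trace_fin_two, Matrix.trace_fin_two_of] at ht
    simpa using ht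
  have hss' : (a + d) ^ 2 ≠ 4 := by
    rw [Matrix.trace_fin_two_of] at hss; exact hss
  have hτ : a + d ≠ 0 := by
    intro h
    apply hss'
    rw [h]
    linear_combination (-2 : K) * h2
  have hβ : β = 1 := by
    have h3 : (β - 1) * (a + d) = 0 := by linear_combination ht' - α * h2
    rcases mul_eq_zero.mp h3 with h | h
    · linear_combination h
    · exact absurd h hτ
  have hα : α * (α + (a + d)) = 0 := by
    rw [hβ] at hdx'
    linear_combination hdx' - hdet
  rcases mul_eq_zero.mp hα with h | h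
  · left
    apply Subtype.ext
    rw [hx, h, hβ]
    simp
  · right
    have hα' : α = a + d := by linear_combination h - (a + d) * h2
    apply Subtype.ext
    rw [hx, Matrix.SpecialLinearGroup.coe_inv, hg, Matrix.adjugate_fin_two_of, hα', hβ]
    have e : (a + d) • (1 : M2 K) + (1 : K) • !![a, b; c, d] = !![a + d + a, b; c, a + d + d] := by
      ext i j
      fin_cases i <;> fin_cases j <;> simp
    rw [e]
    refine mat2_ext ?_ ?_ ?_ ?_
    · linear_combination a * h2
    · linear_combination b * h2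
    · linear_combination c * h2
    · linear_combination d * h2

theorem upper_one2 (h2 : (2 : K) = 0) (g : SL2 K) (h10 : (g : M2 K) 1 0 = 0)
    (h00 : (g : M2 K) 0 0 = (g : M2 K) 1 1) : (g : M2 K) 0 0 = 1 := by
  have hdet := det_upper g h10
  rw [← h00] at hdet
  have h1 : ((g : M2 K) 0 0 - 1) ^ 2 = 0 := by
    linear_combination hdet + (1 - (g : M2 K) 0 0) * h2
  have h3 := (pow_eq_zero_iff (two_ne_zero)).mp h1
  linear_combination h3

theorem sq_one2 (h2 : (2 : K) = 0) (g : SL2 K) (htr : (g : M2 K).trace = 0) : g * g = 1 := by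
  obtain ⟨a, b, c, d, hg, hdet⟩ := sl2_eta g
  rw [hg, Matrix.trace_fin_two_of] at htr
  apply Subtype.ext
  rw [Matrix.SpecialLinearGroup.coe_mul, hg, Matrix.SpecialLinearGroup.coe_one,
    Matrix.mul_fin_two, Matrix.one_fin_two]
  refine mat2_ext ?_ ?_ ?_ ?_
  · linear_combination a * htr - hdet - h2
  · linear_combination b * htr
  · linear_combination c * htr
  · linear_combination d * htr - hdet - h2

variable {L : Subgroup (SL2 K)} {s t : K}

theorem semis_norm2 [Finite K] (h2 : (2 : K) = 0) (g : L)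
    (hss : ((g : SL2 K) : M2 K).trace ^ 2 ≠ 4) : Nat.card (nz g) ≤ 2 * Nat.card (cz g) := by
  apply card_normalizer_le
  have key : ∀ n : L, n ∈ nz g → n ∉ cz g → n * g * n⁻¹ = g⁻¹ := by
    intro n hn hnc
    have h1 : n * g * n⁻¹ ∈ cz g := (mem_nz.mp hn g).mp (mem_cz.mpr (Commute.refl g))
    rw [mem_cz, comm_sub] at h1
    have h3 := semis_conj2 h2 (g : SL2 K) ((n * g * n⁻¹ : L) : SL2 K) hss h1.symm
      (sl2_trace_conj (n : SL2 K) (g : SL2 K))
    rcases h3 with h3 | h3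
    · exfalso
      apply hnc
      rw [mem_cz]
      have h4 : n * g * n⁻¹ = g := Subtype.ext h3
      show n * g = g * n
      calc n * g = n * g * n⁻¹ * n := by group
        _ = g * n := by rw [h4]
    · exact Subtype.ext h3
  intro n₁ n₂ hn₁ hn₂ hc₁ hc₂
  have k1 := key n₁ hn₁ hc₁
  have k2 := key n₂ hn₂ hc₂
  rw [mem_cz]
  show n₂⁻¹ * n₁ * g = g * (n₂⁻¹ * n₁)
  have a1 : n₁ * g = g⁻¹ * n₁ := by
    calc n₁ * g = n₁ * g * n₁⁻¹ * n₁ := by group
      _ = g⁻¹ * n₁ := by rw [k1]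
  have a2 : n₂⁻¹ * g⁻¹ = g * n₂⁻¹ := by
    calc n₂⁻¹ * g⁻¹ = n₂⁻¹ * (n₂ * g * n₂⁻¹) := by rw [k2]
      _ = g * n₂⁻¹ := by group
  calc n₂⁻¹ * n₁ * g = n₂⁻¹ * (n₁ * g) := by group
    _ = n₂⁻¹ * g⁻¹ * n₁ := by rw [a1]; group
    _ = g * n₂⁻¹ * n₁ := by rw [a2]
    _ = g * (n₂⁻¹ * n₁) := by group

theorem center_eq_one2 (h2 : (2 : K) = 0) (S : Setup L s t) (g : L)
    (hg : g ∈ Subgroup.center L) : g = 1 := by
  obtain ⟨h01, h10, h00⟩ := (center_iff S g).mp hg
  exact PU_eq_one ⟨h10, upper_one2 h2 _ h10 h00⟩ h01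

theorem card_center2 (h2 : (2 : K) = 0) (S : Setup L s t) :
    Nat.card (Subgroup.center L) = 1 := by
  have h : Subgroup.center L = ⊥ := by
    rw [Subgroup.eq_bot_iff_forall]
    exact fun g hg => center_eq_one2 h2 S g hg
  rw [h, Subgroup.card_bot]

theorem card_czU2 (h2 : (2 : K) = 0) (S : Setup L s t) :
    Nat.card (cz S.U) = Nat.card (Subgroup.center L) * Nat.card (PU L) := by
  have h : cz S.U = PU L := by
    ext g
    rw [czU_iff S, mem_PU]
    constructor
    · rintro ⟨h10, h00⟩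
      exact ⟨h10, upper_one2 h2 _ h10 h00⟩
    · intro hg
      exact ⟨hg.1, by rw [hg.2, PU_11 hg]⟩
  rw [h, card_center2 h2 S, one_mul]

theorem unip_in_clsU2 [Finite K] (h2 : (2 : K) = 0)
    (S : Setup L s t) (hidx : ¬ 2 ∣ (BU L).index) (k : L) (hk : k ∉ Subgroup.center L)
    (htr : ((k : SL2 K) : M2 K).trace ^ 2 = 4) : k ∈ cls S.U := by
  have h4 : (4 : K) = 0 := by linear_combination (2 : K) * h2
  have htr0 : ((k : SL2 K) : M2 K).trace = 0 := by
    rw [h4] at htr
    exact (pow_eq_zero_iff (two_ne_zero)).mp htr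
  have hk2 : k ^ 2 = 1 := by
    apply Subtype.ext
    rw [Subgroup.coe_pow, pow_two]
    exact sq_one2 h2 _ htr0
  have hk1 : k ≠ 1 := fun h => hk (by rw [h]; exact Subgroup.one_mem _)
  haveI : Fact (Nat.Prime 2) := ⟨Nat.prime_two⟩
  have hord : orderOf k = 2 := orderOf_eq_prime hk2 hk1
  have hΓ : IsPGroup 2 (Subgroup.zpowers k) := by
    apply IsPGroup.of_card (n := 1)
    rw [Nat.card_zpowers, hord, pow_one]
  obtain ⟨q, hq⟩ := hΓ.nonempty_fixed_point_of_prime_not_dvd_card (L ⧸ BU L)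
    (show ¬ 2 ∣ Nat.card (L ⧸ BU L) from hidx)
  obtain ⟨x, rfl⟩ := QuotientGroup.mk_surjective q
  have hfix := MulAction.mem_fixedPoints.mp hq ⟨k, Subgroup.mem_zpowers _⟩
  have hfix' : ((k * x : L) : L ⧸ BU L) = (x : L ⧸ BU L) := hfix
  rw [QuotientGroup.eq] at hfix'
  have hv : x⁻¹ * k * x ∈ BU L := by
    have h5 := (BU L).inv_mem hfix'
    have e : ((k * x)⁻¹ * x)⁻¹ = x⁻¹ * k * x := by group
    rw [e] at h5; exact h5
  have hvtr : (((x⁻¹ * k * x : L) : SL2 K) : M2 K).trace = 0 := by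
    have h := sl2_trace_conj ((x : SL2 K)⁻¹) (k : SL2 K)
    rw [inv_inv] at h
    exact h.trans htr0
  have hvU : Commute (x⁻¹ * k * x) S.U := by
    rw [← mem_cz, czU_iff S]
    refine ⟨mem_BU.mp hv, ?_⟩
    rw [Matrix.trace_fin_two] at hvtr
    linear_combination hvtr - (((x⁻¹ * k * x : L) : SL2 K) : M2 K) 1 1 * h2
  have hkU : Commute k (x * S.U * x⁻¹) := by
    have h := comm_conj hvU x
    have e : x * (x⁻¹ * k * x) * x⁻¹ = k := by group
    rw [e] at h; exact h
  exact ⟨hk, x, hkU⟩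

theorem semis_data2 [Finite K] (h2 : (2 : K) = 0) (S : Setup L s t) (g : L)
    (hss : ((g : SL2 K) : M2 K).trace ^ 2 ≠ 4) :
    g ∉ Subgroup.center L ∧ ∃ e j : ℕ, 1 ≤ e ∧ (j = 1 ∨ j = 2) ∧
      Nat.card (cz g) = Nat.card (Subgroup.center L) * (e + 1) ∧
      (cls g).ncard * (j * (Nat.card (Subgroup.center L) * (e + 1))) =
        Nat.card L * (Nat.card (Subgroup.center L) * e) := by
  have hgc : g ∉ Subgroup.center L := fun h =>
    hss (sl2Scalar_trace_sq _ ((center_iff S g).mp h))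
  refine ⟨hgc, ?_⟩
  have hle : Subgroup.center L ≤ cz g := Subgroup.center_le_centralizer _
  obtain ⟨m, hm⟩ := Subgroup.card_dvd_of_le hle
  have hzpos : 0 < Nat.card (Subgroup.center L) := Nat.card_pos
  have hcpos : 0 < Nat.card (cz g) := Nat.card_pos
  have hm2 : 2 ≤ m := by
    by_contra hlt
    have hm1 : m ≤ 1 := by omega
    have hcard : Nat.card (cz g) ≤ Nat.card (Subgroup.center L) := by
      rw [hm]
      calc Nat.card (Subgroup.center L) * m ≤ Nat.card (Subgroup.center L) * 1 :=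
            Nat.mul_le_mul_left _ hm1
        _ = _ := mul_one _
    have heq := Subgroup.eq_of_le_of_card_ge hle hcard
    exact hgc (by rw [heq]; exact mem_cz.mpr (Commute.refl g))
  obtain ⟨e, rfl⟩ : ∃ e, m = e + 1 := ⟨m - 1, by omega⟩
  obtain ⟨j, hj⟩ := Subgroup.card_dvd_of_le (cz_le_nz g)
  have hnle := semis_norm2 h2 g hss
  have hnpos : 0 < Nat.card (nz g) := Nat.card_pos
  have hj12 : j = 1 ∨ j = 2 := by
    have hj0 : j ≠ 0 := by
      rintro rfl
      rw [mul_zero] at hj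
      omega
    have hj2 : j ≤ 2 := by
      by_contra hgt
      have h3 : 3 ≤ j := by omega
      have h4 := Nat.mul_le_mul_left (Nat.card (cz g)) h3
      rw [← hj] at h4
      omega
    omega
  have hcls := cls_card (ct_L S) hgc
  refine ⟨e, j, by omega, hj12, hm, ?_⟩
  rw [hj, hm] at hcls
  have e2 : Nat.card (Subgroup.center L) * (e + 1) - Nat.card (Subgroup.center L) =
      Nat.card (Subgroup.center L) * e := by
    rw [mul_add, mul_one, Nat.add_sub_cancel]
  rw [e2] at hcls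
  rw [← hcls]
  ring

theorem base_counts2 [Finite K] [CharP K 2] (S : Setup L s t) (ha4 : 4 ≤ Nat.card (PU L)) :
    ∃ a z B G kU hh r : ℕ, Nat.card (PU L) = a ∧ Nat.card (Subgroup.center L) = z ∧
      Nat.card (BU L) = B ∧ Nat.card L = G ∧ (cls S.U).ncard = kU ∧ 4 ≤ a ∧ 2 ∣ a ∧ 1 ≤ z ∧
      1 ≤ hh ∧ 1 ≤ r ∧ B = z * a * hh ∧ Nat.card {g : L // g ∉ BU L} = r * (a * B) ∧
      G = B * (1 + r * a) ∧ ¬ 2 ∣ (BU L).index ∧
      kU + (1 + r * a) * z = (1 + r * a) * z * a := by
  have h2 : (2 : K) = 0 := char2_two_eq_zero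
  haveI : Fact (Nat.Prime 2) := ⟨Nat.prime_two⟩
  have hUP : S.U ∈ PU L := ⟨U10 S, U00 S⟩
  have hord : orderOf S.U = 2 := by
    rw [← Subgroup.orderOf_coe, S.hU]
    exact orderOf_sl2U 2 S.hs
  have hpa : 2 ∣ Nat.card (PU L) := by
    have h5 := Subgroup.orderOf_dvd_natCard (PU L) hUP
    rw [hord] at h5
    exact h5
  have hapos : 0 < Nat.card (PU L) := Nat.card_pos
  have hzpos : 0 < Nat.card (Subgroup.center L) := Nat.card_pos
  have hBpos : 0 < Nat.card (BU L) := Nat.card_pos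
  have hczle : cz S.U ≤ BU L := by rw [← nzU_eq S]; exact cz_le_nz _
  obtain ⟨hh, hhh⟩ := Subgroup.card_dvd_of_le hczle
  rw [card_czU2 h2 S] at hhh
  have hh1 : 1 ≤ hh := by
    rcases Nat.eq_zero_or_pos hh with h0 | h0
    · rw [h0, mul_zero] at hhh; omega
    · exact h0
  obtain ⟨r, hr⟩ := card_free L
  have hcomp := card_compl_add (BU L)
  have hYB : S.Y ∉ BU L := by
    intro h
    have h1 := mem_BU.mp h
    rw [S.hY, lo_val] at h1
    exact S.ht h1
  have hr1 : 1 ≤ r := by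
    rcases Nat.eq_zero_or_pos r with h0 | h0
    · rw [h0, mul_zero] at hr
      have hne : Nonempty {g : L // g ∉ BU L} := ⟨⟨S.Y, hYB⟩⟩
      have h5 := Nat.card_pos (α := {g : L // g ∉ BU L})
      omega
    · exact h0
  have hG : Nat.card L = Nat.card (BU L) * (1 + r * Nat.card (PU L)) := by
    rw [← hcomp, hr]; ring
  have hidx : (BU L).index = 1 + r * Nat.card (PU L) := by
    have h1 := (BU L).index_mul_card
    rw [hG] at h1
    apply Nat.eq_of_mul_eq_mul_right hBpos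
    rw [h1]; ring
  have hnd : ¬ 2 ∣ (BU L).index := by
    rw [hidx]
    intro hd
    have h1 : 2 ∣ r * Nat.card (PU L) := dvd_mul_of_dvd_right hpa r
    have h2' : 2 ∣ 1 := (Nat.dvd_add_left h1).mp hd
    omega
  have hUc : S.U ∉ Subgroup.center L := by
    intro h
    have h1 := ((center_iff S _).mp h).1
    rw [U01 S] at h1
    exact S.hs h1
  have hcls := cls_card (ct_L S) hUc
  rw [nzU_eq S, card_czU2 h2 S, hG] at hcls
  have hkU : (cls S.U).ncard = (1 + r * Nat.card (PU L)) *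
      (Nat.card (Subgroup.center L) * Nat.card (PU L) - Nat.card (Subgroup.center L)) := by
    apply Nat.eq_of_mul_eq_mul_right hBpos
    rw [hcls]; ring
  refine ⟨_, _, _, _, _, hh, r, rfl, rfl, rfl, rfl, rfl, ha4, hpa, hzpos, hh1, hr1, hhh, ?_, hG,
    hnd, ?_⟩
  · rw [hr]; ring
  · rw [hkU]
    have hle : Nat.card (Subgroup.center L) ≤ Nat.card (Subgroup.center L) * Nat.card (PU L) :=
      Nat.le_mul_of_pos_right _ hapos
    have e := Nat.sub_add_cancel hle
    obtain ⟨w, hw⟩ : ∃ w, Nat.card (Subgroup.center L) * Nat.card (PU L) -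
        Nat.card (Subgroup.center L) = w := ⟨_, rfl⟩
    rw [hw] at e ⊢
    calc (1 + r * Nat.card (PU L)) * w + (1 + r * Nat.card (PU L)) * Nat.card (Subgroup.center L)
        = (1 + r * Nat.card (PU L)) * (w + Nat.card (Subgroup.center L)) := by ring
      _ = (1 + r * Nat.card (PU L)) * (Nat.card (Subgroup.center L) * Nat.card (PU L)) := by
          rw [e]
      _ = _ := by ring

/-- Bruhat structure in characteristic two -/
theorem struct2 [Finite K] [CharP K 2] (S : Setup L s t) (ha4 : 4 ≤ Nat.card (PU L)) :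
    ∀ g : L, g ∉ BU L → ∃ u ∈ PU L, ∃ n ∈ BU L, g = u * S.Y * n := by
  have h2 : (2 : K) = 0 := char2_two_eq_zero
  have hct := ct_L S
  obtain ⟨a, z, B, G, kU, hh, r, ha, hz, hBd, hGd, hkUd, ha4a, hpa, hz1, hh1, hr1, hB, hcompl,
    hG, hnd, hkU⟩ := base_counts2 S ha4
  have ha3 : 3 ≤ a := by omega
  have hUc : S.U ∉ Subgroup.center L := by
    intro h
    have h1 := ((center_iff S _).mp h).1
    rw [U01 S] at h1
    exact S.hs h1
  have hYB : S.Y ∉ BU L := by
    intro h
    have h1 := mem_BU.mp h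
    rw [S.hY, lo_val] at h1
    exact S.ht h1
  have hsemi : ∀ g : L, ((g : SL2 K) : M2 K).trace ^ 2 ≠ 4 → g ∉ cls S.U :=
    fun g hss h => hss (clsU_tr S g h)
  have hunip : ∀ k : L, k ∉ Subgroup.center L → k ∉ cls S.U →
      ((k : SL2 K) : M2 K).trace ^ 2 ≠ 4 :=
    fun k hk hk' htr => hk' (unip_in_clsU2 h2 S hnd k hk htr)
  by_cases hBc : ∀ g ∈ BU L, g ∈ cz S.U
  · exfalso
    have hBeq : B = z * a := by
      have h5 : BU L = cz S.U := le_antisymm hBc (by rw [← nzU_eq S]; exact cz_le_nz _)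
      rw [← hBd, h5, card_czU2 h2 S, hz, ha]
    have hG' : G = a * z * (1 + r * a) := by rw [hG, hBeq]; ring
    have hnc := nc_count (G := L)
    rw [hz, hGd] at hnc
    have hex : ∃ g : L, g ∉ Subgroup.center L ∧ g ∉ cls S.U := by
      by_contra hcon
      have hsub : {k : L | k ∉ Subgroup.center L} ⊆ cls S.U := by
        intro k hk
        by_contra hk'
        exact hcon ⟨k, hk, hk'⟩
      have h5 := Set.ncard_le_ncard hsub
      rw [hkUd] at h5
      have h6 : 0 < r * a * z := Nat.mul_pos (Nat.mul_pos (by omega) (by omega)) (by omega)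
      nlinarith [hkU, hnc, h5, hG', h6]
    obtain ⟨g, hgc, hgU⟩ := hex
    have hss := hunip g hgc hgU
    obtain ⟨-, e, j, he, hj, hcz, hκ⟩ := semis_data2 h2 S g hss
    have hcount := rest_count hct hUc hgc hgU
    rw [hz, hGd] at hκ
    rw [hz, hGd, hkUd] at hcount
    have he1 : e = 1 := numA a r z e (j * (z * (e + 1))) (cls g).ncard kU ha3 hr1 hz1
      he hkU (by rw [← hG']; exact hκ)
      (Nat.mul_le_mul_right _ (by rcases hj with rfl | rfl <;> omega))
      (by rw [← hG']; omega)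
    subst he1
    have hRr : (rest S.U g).ncard ≠ 0 → a * z * (1 + r * a) ≤ 4 * (rest S.U g).ncard := by
      intro hne
      obtain ⟨g₁, hg₁⟩ := Set.nonempty_of_ncard_ne_zero hne
      obtain ⟨hg₁c, e₁, j₁, he₁, hj₁, hcz₁, hκ₁⟩ := semis_data2 h2 S g₁ (hunip g₁ hg₁.1 hg₁.2.1)
      rw [hz, hGd] at hκ₁
      have hle₁ := one_cls_le hct hUc hgc hg₁
      have q1 := numQ G z _ j₁ e₁ hz1 he₁ hj₁ hκ₁
      rw [hG'] at q1
      omega
    obtain ⟨ha3', hr1'⟩ := numA2 a r z j (cls g).ncard kU (rest S.U g).ncard ha3 hr1 hz1 hj hkU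
      (by rw [← hG']; exact hκ) (by rw [← hG']; exact hcount) hRr
    omega
  · obtain ⟨g₀, hg₀⟩ := not_forall.mp hBc
    obtain ⟨hg₀B, hg₀c⟩ := Classical.not_imp.mp hg₀
    have hg10 := mem_BU.mp hg₀B
    have hne : ((g₀ : SL2 K) : M2 K) 0 0 ≠ ((g₀ : SL2 K) : M2 K) 1 1 :=
      fun h => hg₀c ((czU_iff S g₀).mpr ⟨hg10, h⟩)
    have hss₀ := upper_ss (g₀ : SL2 K) hg10 hne
    obtain ⟨hC1, hC2⟩ := card_cz_upper S g₀ hg₀B hne
    obtain ⟨hg₀c', f, j₀, hf, hj₀, hcz₀, hκ₀⟩ := semis_data2 h2 S g₀ hss₀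
    have hcz₀z : Nat.card (cz g₀) = z * (f + 1) := by rw [hcz₀, hz]
    rw [hz, hGd] at hκ₀
    have hB' : B = z * (f + 1) * a := by rw [← hBd, ← hC1, hcz₀z, ha]
    have hG' : G = a * (z * (f + 1)) * (1 + r * a) := by rw [hG, hB']; ring
    have hfa : f + 1 ≤ a - 1 := by
      have h5 := hC2
      rw [hcz₀z, hz, ha] at h5
      exact Nat.le_of_mul_le_mul_left h5 hz1
    have hcount := rest_count hct hUc hg₀c' (hsemi g₀ hss₀)
    rw [hz, hGd, hkUd] at hcount
    have hRss : ∀ g₁ ∈ rest S.U g₀, ((g₁ : SL2 K) : M2 K).trace ^ 2 ≠ 4 :=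
      fun g₁ hg₁ => hunip g₁ hg₁.1 hg₁.2.1
    rcases hj₀ with rfl | rfl
    · exfalso
      have hRc : (rest S.U g₀).ncard = r * a * z :=
        numB1 a r z f (cls g₀).ncard kU (rest S.U g₀).ncard hz1 hkU
          (by rw [← hG', ← hκ₀, one_mul]) (by rw [← hG']; exact hcount)
      have hRne : (rest S.U g₀).Nonempty := by
        apply Set.nonempty_of_ncard_ne_zero
        rw [hRc]
        exact Nat.mul_ne_zero (Nat.mul_ne_zero (by omega) (by omega)) (by omega)
      obtain ⟨g₁, hg₁⟩ := hRne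
      obtain ⟨hg₁c, e₁, j₁, he₁, hj₁, hcz₁, hκ₁⟩ := semis_data2 h2 S g₁ (hRss g₁ hg₁)
      rw [hz, hGd] at hκ₁
      have hle₁ := one_cls_le hct hUc hg₀c' hg₁
      have q1 := numQ G z _ j₁ e₁ hz1 he₁ hj₁ hκ₁
      rw [hG'] at q1
      exact numB1F a r z f _ _ ha3 hr1 hz1 hf hRc q1 hle₁
    · have h2R := numC_R a r z f (cls g₀).ncard kU (rest S.U g₀).ncard hz1 hkU
        (by rw [← hG']; exact hκ₀) (by rw [← hG']; exact hcount)
      have hRne : (rest S.U g₀).Nonempty := by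
        apply Set.nonempty_of_ncard_ne_zero
        intro h0
        rw [h0] at h2R
        have h5 : 0 < 2 * r * a * z :=
          Nat.mul_pos (Nat.mul_pos (Nat.mul_pos (by omega) (by omega)) (by omega)) (by omega)
        omega
      obtain ⟨g₁, hg₁⟩ := hRne
      obtain ⟨hg₁c, e₁, j₁, he₁, hj₁, hcz₁, hκ₁⟩ := semis_data2 h2 S g₁ (hRss g₁ hg₁)
      rw [hz, hGd] at hκ₁
      have hle₁ := one_cls_le hct hUc hg₀c' hg₁
      rcases hj₁ with rfl | rfl
      · exact (numC_1 a r z f e₁ (cls g₁).ncard (rest S.U g₀).ncard ha3 hr1 hz1 he₁ h2R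
          (by rw [← hG', ← hκ₁, one_mul]) hle₁).elim
      · by_cases hex : ∃ g₂ ∈ rest S.U g₀, g₂ ∉ cls g₁
        · obtain ⟨g₂, hg₂, hg₂n⟩ := hex
          obtain ⟨hg₂c, e₂, j₂, he₂, hj₂, hcz₂, hκ₂⟩ := semis_data2 h2 S g₂ (hRss g₂ hg₂)
          rw [hz, hGd] at hκ₂
          have hle₂ := two_cls_le hct hUc hg₀c' hg₁ hg₂ hg₂n
          have q1 := numQ G z _ 2 e₁ hz1 he₁ (Or.inr rfl) hκ₁
          have q2 := numQ G z _ j₂ e₂ hz1 he₂ hj₂ hκ₂
          rw [hG'] at q1 q2
          exact (numC_2 a r z f _ _ (rest S.U g₀).ncard ha3 hr1 hz1 h2R q1 q2 hle₂).elim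
        · have hRsub : rest S.U g₀ ⊆ cls g₁ := by
            intro k hk
            by_contra hkn
            exact hex ⟨k, hk, hkn⟩
          have hRc : (rest S.U g₀).ncard = (cls g₁).ncard :=
            le_antisymm (Set.ncard_le_ncard hRsub) hle₁
          rw [hRc] at h2R
          obtain ⟨b, rfl⟩ : ∃ b, a = b + 2 := ⟨a - 2, by omega⟩
          have hfb : f ≤ b := by omega
          have hb1 : 1 ≤ b := by omega
          rcases numC_3 b r z f e₁ (cls g₁).ncard hb1 hr1 hz1 hf hfb h2R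
            (by rw [← hG']; exact hκ₁) with hr | ⟨hr, hb, hf1, he4⟩
          · subst hr
            let fB : ↥(PU L) × ↥(BU L) → {g : L // g ∉ BU L} := fun q =>
              ⟨q.1.1 * S.Y * q.2.1, fun hmem => hYB (by
                have h1 : (q.1.1)⁻¹ * (q.1.1 * S.Y * q.2.1) * (q.2.1)⁻¹ ∈ BU L :=
                  (BU L).mul_mem ((BU L).mul_mem ((BU L).inv_mem (PU_le_BU L q.1.2)) hmem)
                    ((BU L).inv_mem q.2.2)
                have e : (q.1.1)⁻¹ * (q.1.1 * S.Y * q.2.1) * (q.2.1)⁻¹ = S.Y := by group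
                rw [e] at h1; exact h1)⟩
            have hinj : Function.Injective fB := by
              rintro ⟨⟨u, hu⟩, ⟨n, hn⟩⟩ ⟨⟨u', hu'⟩, ⟨n', hn'⟩⟩ h
              have h1 : u * S.Y * n = u' * S.Y * n' := congrArg Subtype.val h
              have h3 : S.Y⁻¹ * (u'⁻¹ * u) * S.Y = n' * n⁻¹ := by
                calc S.Y⁻¹ * (u'⁻¹ * u) * S.Y = S.Y⁻¹ * u'⁻¹ * (u * S.Y * n) * n⁻¹ := by group
                  _ = S.Y⁻¹ * u'⁻¹ * (u' * S.Y * n') * n⁻¹ := by rw [h1]
                  _ = n' * n⁻¹ := by group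
              have h4 : u'⁻¹ * u = 1 := conj_BU_eq_one S.Y (u'⁻¹ * u) hYB
                ((PU L).mul_mem ((PU L).inv_mem hu') hu)
                (by rw [h3]; exact (BU L).mul_mem hn' ((BU L).inv_mem hn))
              have huu : u' = u := inv_mul_eq_one.mp h4
              subst huu
              have hnn : n = n' := mul_left_cancel h1
              subst hnn
              rfl
            have hbij : Function.Bijective fB := hinj.bijective_of_nat_card_le
              (le_of_eq (by rw [Nat.card_prod, hcompl, ha, hBd, one_mul]))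
            intro g hg
            obtain ⟨⟨⟨u, hu⟩, ⟨n, hn⟩⟩, hun⟩ := hbij.2 ⟨g, hg⟩
            exact ⟨u, hu, n, hn, (congrArg Subtype.val hun).symm⟩
          · exfalso
            omega

end chartwo

section fieldtwo

theorem hua_mul2 {F : Type*} [Field F] [Finite F] (h2 : (2 : F) = 0)
    (A : AddSubgroup F) (h1 : (1 : F) ∈ A) (hinv : ∀ x ∈ A, x ≠ 0 → x⁻¹ ∈ A) :
    ∀ x ∈ A, ∀ y ∈ A, x * y ∈ A := by
  have hkey : ∀ a ∈ A, ∀ b ∈ A, a * a * b ∈ A := by
    intro a ha b hb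
    by_cases ha0 : a = 0
    · rw [ha0, zero_mul, zero_mul]; exact A.zero_mem
    by_cases hb0 : b = 0
    · rw [hb0, mul_zero]; exact A.zero_mem
    by_cases hab : 1 - a * b = 0
    · have e : a * a * b = a := by linear_combination (-a) * hab
      rw [e]; exact ha
    have hbi := hinv b hb hb0
    have hB : b⁻¹ * b = 1 := inv_mul_cancel₀ hb0
    have hA : a⁻¹ * a = 1 := inv_mul_cancel₀ ha0
    have h3 : b⁻¹ - a ∈ A := A.sub_mem hbi ha
    have h3ne : b⁻¹ - a ≠ 0 := by
      intro h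
      apply hab
      linear_combination b * h - hB
    have h4 := hinv _ h3 h3ne
    have hU : (b⁻¹ - a) * (b⁻¹ - a)⁻¹ = 1 := mul_inv_cancel₀ h3ne
    have hai := hinv a ha ha0
    have h5 : a⁻¹ + (b⁻¹ - a)⁻¹ ∈ A := A.add_mem hai h4
    have hprod : (a⁻¹ + (b⁻¹ - a)⁻¹) * (a * (1 - a * b)) = 1 := by
      linear_combination (1 - a * b) * hA + (a * b) * hU - ((b⁻¹ - a)⁻¹ * a) * hB
    have h5ne : a⁻¹ + (b⁻¹ - a)⁻¹ ≠ 0 := left_ne_zero_of_mul_eq_one hprod
    have h6 := hinv _ h5 h5ne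
    rw [inv_eq_of_mul_eq_one_right hprod] at h6
    have e : a * a * b = a - a * (1 - a * b) := by ring
    rw [e]; exact A.sub_mem ha h6
  intro x hx y hy
  let φ : A → A := fun a => ⟨(a : F) * a * 1, hkey a a.2 1 h1⟩
  have hφ : Function.Injective φ := by
    intro a b h
    have h5 : (a : F) * a * 1 = b * b * 1 := congrArg Subtype.val h
    have h6 : ((a : F) - b) ^ 2 = 0 := by linear_combination h5 + ((b : F) * b - a * b) * h2
    exact Subtype.ext (sub_eq_zero.mp ((pow_eq_zero_iff (two_ne_zero)).mp h6))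
  obtain ⟨a, ha⟩ := (Finite.injective_iff_surjective.mp hφ) ⟨x, hx⟩
  have h7 : (a : F) * a * 1 = x := congrArg Subtype.val ha
  have h8 := hkey a a.2 y hy
  have e : x * y = (a : F) * a * y := by rw [← h7]; ring
  rw [e]; exact h8

theorem sq_mem_range2 {F K : Type*} [Field F] [Field K] [Finite K] (h2 : (2 : F) = 0)
    (f : K →+* F) (d : F) (k : K) (h : f k = d ^ 2) : ∃ k', f k' = d := by
  have h2K : (2 : K) = 0 := by
    apply f.injective
    rw [map_ofNat, map_zero]; exact h2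
  have hinj : Function.Injective (fun x : K => x * x) := by
    intro a b hab
    have hab' : a * a = b * b := hab
    have h6 : (a - b) ^ 2 = 0 := by linear_combination hab' + (b * b - a * b) * h2K
    exact sub_eq_zero.mp ((pow_eq_zero_iff (two_ne_zero)).mp h6)
  obtain ⟨k', hk'⟩ := (Finite.injective_iff_surjective.mp hinj) k
  have hk'' : k' * k' = k := hk'
  refine ⟨k', ?_⟩
  have h7 : (f k' - d) ^ 2 = 0 := by
    have h8 : f k' * f k' = d ^ 2 := by rw [← map_mul, hk'', h]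
    linear_combination h8 + (d ^ 2 - d * f k') * h2
  exact sub_eq_zero.mp ((pow_eq_zero_iff (two_ne_zero)).mp h7)

end fieldtwo

section overtwo

variable {F K : Type*} [Field F] [Field K]

/-- overgroups of the subfield subgroup `SL₂(K)` in `SL₂(F)`, characteristic two -/
theorem overgroup_even [Fintype F] [Fintype K] (f : K →+* F) (r : ℕ) (hr : r.Prime)
    (h2 : (2 : F) = 0) (hq4 : 4 ≤ Fintype.card K) (hF : Fintype.card F = Fintype.card K ^ r)
    (L : Subgroup (SL2 F))
    (hL : (Matrix.SpecialLinearGroup.map f : SL2 K →* SL2 F).range ≤ L) :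
    L = (Matrix.SpecialLinearGroup.map f : SL2 K →* SL2 F).range ∨ L = ⊤ := by
  classical
  obtain ⟨p, hpF⟩ := CharP.exists F
  haveI := hpF
  have hpp : p.Prime := CharP.char_is_prime F p
  have hp2 : p = 2 := by
    have h5 : ((2 : ℕ) : F) = 0 := by exact_mod_cast h2
    rw [CharP.cast_eq_zero_iff F p 2] at h5
    exact (Nat.prime_dvd_prime_iff_eq hpp Nat.prime_two).mp h5
  subst hp2
  have hrange : ∀ x : SL2 K, Matrix.SpecialLinearGroup.map f x ∈ L := fun x => hL ⟨x, rfl⟩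
  have hfA : ∀ k, sl2U (f k) ∈ L := fun k => by
    have h5 := hrange (sl2U k)
    rw [map_sl2U] at h5
    exact h5
  have hU : sl2U (1 : F) ∈ L := by
    have h5 := hfA 1
    rw [map_one] at h5
    exact h5
  have hY : lo (1 : F) ∈ L := by
    have h5 := hrange (lo 1)
    rw [map_lo, map_one] at h5
    exact h5
  have hw : (wE : SL2 F) ∈ L := by
    have h5 := hrange wE
    rw [map_wE] at h5
    exact h5
  obtain ⟨S⟩ : Nonempty (Setup L (1 : F) 1) :=
    ⟨⟨one_ne_zero, one_ne_zero, ⟨sl2U 1, hU⟩, ⟨lo 1, hY⟩, rfl, rfl⟩⟩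
  have hloA : ∀ x, sl2U x ∈ L → lo x ∈ L := by
    intro x hx
    have h5 := wE_conj (-x)
    rw [neg_neg] at h5
    rw [← h5]
    exact L.mul_mem (L.mul_mem hw (by rw [sl2U_neg_eq_inv]; exact L.inv_mem hx)) (L.inv_mem hw)
  have ha4 : 4 ≤ Nat.card (PU L) := hq4.trans (card_le_PU f L hL)
  have hBr := struct2 S ha4
  have hinvA : ∀ x : F, sl2U x ∈ L → x ≠ 0 → sl2U x⁻¹ ∈ L := by
    intro x hx hx0
    obtain ⟨α, hα, hrel⟩ := bruhat_ratio S hBr (lo x) (hloA x hx) (by rw [lo_10]; exact hx0)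
    rw [lo_00, lo_10, mul_one, mul_one] at hrel
    have e : 1 + α = x⁻¹ := eq_inv_of_mul_eq_one_left hrel.symm
    rw [← e, ← sl2U_mul]
    exact L.mul_mem hU hα
  let A : AddSubgroup F :=
    { carrier := {x | sl2U x ∈ L}
      zero_mem' := by
        show sl2U (0 : F) ∈ L
        rw [sl2U_zero]; exact L.one_mem
      add_mem' := by
        intro a b ha hb
        show sl2U (a + b) ∈ L
        rw [← sl2U_mul]; exact L.mul_mem ha hb
      neg_mem' := by
        intro a ha
        show sl2U (-a) ∈ L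
        rw [sl2U_neg_eq_inv]; exact L.inv_mem ha }
  have hmulA : ∀ x ∈ A, ∀ y ∈ A, x * y ∈ A :=
    hua_mul2 h2 A hU (fun x hx hx0 => hinvA x hx hx0)
  rcases sub_dichotomy f r hr hF {x | sl2U x ∈ L} hU
    (fun x hx y hy => A.add_mem hx hy) hmulA A.zero_mem
    (fun x hx => by
      by_cases hx0 : x = 0
      · rw [hx0, _root_.inv_zero]; exact A.zero_mem
      · exact hinvA x hx hx0) hfA with hbot | htop
  · left
    have hB : ∀ g : SL2 F, g ∈ L → (g : M2 F) 1 0 = 0 →
        g ∈ (Matrix.SpecialLinearGroup.map f : SL2 K →* SL2 F).range := by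
      intro g hg hg10
      have hdet := det_upper g hg10
      have hd0 : (g : M2 F) 0 0 ≠ 0 := left_ne_zero_of_mul_eq_one hdet
      have h11ne : (g : M2 F) 1 1 ≠ 0 := right_ne_zero_of_mul_eq_one hdet
      have hconj : sl2U ((g : M2 F) 0 0 ^ 2 * 1) ∈ L := by
        rw [← conj_U_upper g hg10 1]
        exact L.mul_mem (L.mul_mem hg hU) (L.inv_mem hg)
      obtain ⟨k, hk⟩ := hbot _ hconj
      obtain ⟨k', hk'⟩ := sq_mem_range2 h2 f ((g : M2 F) 0 0) k
        (by rw [hk]; ring)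
      have h11 : (g : M2 F) 1 1 = ((g : M2 F) 0 0)⁻¹ := eq_inv_of_mul_eq_one_right hdet
      have hgl : g * lo 1 ∈ L := L.mul_mem hg hY
      have hgl10 : ((g * lo 1 : SL2 F) : M2 F) 1 0 = (g : M2 F) 1 1 := by
        rw [mul10, hg10, lo_00, lo_10]; ring
      have hgl00 : ((g * lo 1 : SL2 F) : M2 F) 0 0 = (g : M2 F) 0 0 + (g : M2 F) 0 1 := by
        rw [mul00, lo_00, lo_10]; ring
      obtain ⟨α, hα, hrel⟩ := bruhat_ratio S hBr (g * lo 1) hgl (by rw [hgl10]; exact h11ne)
      obtain ⟨kα, hkα⟩ := hbot α hα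
      rw [hgl00, hgl10, mul_one, mul_one] at hrel
      refine mem_range_map f g k' ((1 + kα) * k'⁻¹ - k') 0 k'⁻¹ hk' ?_
        (by rw [map_zero, hg10]) (by rw [map_inv₀, hk', h11])
      rw [map_sub, map_mul, map_add, map_one, map_inv₀, hkα, hk', ← h11]
      linear_combination (-1 : F) * hrel
    apply le_antisymm _ hL
    intro g hg
    by_cases hg10 : (g : M2 F) 1 0 = 0
    · exact hB g hg hg10
    · obtain ⟨u, hu, n, hn, hgun⟩ := hBr ⟨g, hg⟩ (fun h => hg10 (mem_BU.mp h))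
      have hg' : g = (u : SL2 F) * lo 1 * (n : SL2 F) := by
        have h5 := congrArg Subtype.val hgun
        rw [← S.hY]
        exact h5
      have hu' : (u : SL2 F) ∈ (Matrix.SpecialLinearGroup.map f : SL2 K →* SL2 F).range := by
        have hx : sl2U (((u : SL2 F) : M2 F) 0 1) ∈ L := by
          rw [← PU_eq_sl2U hu]; exact u.2
        obtain ⟨k, hk⟩ := hbot _ hx
        rw [PU_eq_sl2U hu, ← hk, ← map_sl2U]
        exact ⟨_, rfl⟩
      have hn' : (n : SL2 F) ∈ (Matrix.SpecialLinearGroup.map f : SL2 K →* SL2 F).range :=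
        hB _ n.2 (mem_BU.mp hn)
      have hY' : lo (1 : F) ∈ (Matrix.SpecialLinearGroup.map f : SL2 K →* SL2 F).range :=
        ⟨lo 1, by rw [map_lo, map_one]⟩
      rw [hg']
      exact Subgroup.mul_mem _ (Subgroup.mul_mem _ hu' hY') hn'
  · right
    exact sl2_generate (lo 1) (by rw [lo_10]; exact one_ne_zero) L htop
      (fun y => L.mul_mem (L.mul_mem hY (htop y)) (L.inv_mem hY))

/-- `PSL₂(K)` is maximal in `PSL₂(F)`, characteristic two, `[F : K]` prime, `|K| ≥ 4` -/
theorem psl_coatom2 [Fintype F] [Fintype K] (f : K →+* F) (r : ℕ) (hr : r.Prime)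
    (h2 : (2 : F) = 0) (hq4 : 4 ≤ Fintype.card K) (hF : Fintype.card F = Fintype.card K ^ r) :
    ∃ H : Subgroup (Matrix.ProjectiveSpecialLinearGroup (Fin 2) F), IsCoatom H ∧
      Nonempty (H ≃* Matrix.ProjectiveSpecialLinearGroup (Fin 2) K) := by
  refine ⟨(Cfsg.Agent.S0805.pslMap f).range, ⟨?_, ?_⟩,
    ⟨((QuotientGroup.quotientMulEquivOfEq (Cfsg.Agent.S0805.pslMap_ker f)).symm.trans
      (QuotientGroup.quotientKerEquivRange (Cfsg.Agent.S0805.pslMap f))).symm⟩⟩
  · intro htop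
    have hex : ∃ x : F, ∀ k, f k ≠ x := by
      by_contra hcon
      have hsurj : Function.Surjective f := by
        intro x
        by_contra hx
        exact hcon ⟨x, fun k hk => hx ⟨k, hk⟩⟩
      have h5 := Fintype.card_le_of_surjective f hsurj
      rw [hF] at h5
      have h6 : Fintype.card K ^ 1 < Fintype.card K ^ r :=
        Nat.pow_lt_pow_right Fintype.one_lt_card hr.one_lt
      rw [pow_one] at h6
      omega
    obtain ⟨x, hx⟩ := hex
    have hmem : pr (sl2U x) ∈ (Cfsg.Agent.S0805.pslMap f).range := by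
      rw [htop]; exact Subgroup.mem_top _
    obtain ⟨y, hy⟩ := hmem
    have hy' : pr (Matrix.SpecialLinearGroup.map f y) = pr (sl2U x) := hy
    rcases pr_eq_mat hy' with h | h
    · have h01 := congrFun (congrFun h 0) 1
      rw [Cfsg.Agent.S0805.map_entry, sl2U_01] at h01
      exact hx _ h01
    · have h01 := congrFun (congrFun h 0) 1
      rw [Cfsg.Agent.S0805.map_entry, Matrix.neg_apply, sl2U_01] at h01
      exact hx (-(y : M2 K) 0 1) (by rw [map_neg, h01, neg_neg])
  · intro M hM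
    have hL : (Matrix.SpecialLinearGroup.map f : SL2 K →* SL2 F).range ≤ M.comap pr := by
      rintro _ ⟨y, rfl⟩
      rw [Subgroup.mem_comap]
      exact hM.le ⟨y, rfl⟩
    rcases overgroup_even f r hr h2 hq4 hF (M.comap pr) hL with h | h
    · exfalso
      have hle : M ≤ (Cfsg.Agent.S0805.pslMap f).range := by
        intro m hm
        obtain ⟨g, rfl⟩ := pr_surj m
        have hg : g ∈ M.comap pr := hm
        rw [h] at hg
        obtain ⟨y, rfl⟩ := hg
        exact ⟨y, rfl⟩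
      exact lt_irrefl _ (lt_of_lt_of_le hM hle)
    · rw [eq_top_iff]
      intro m _
      obtain ⟨g, rfl⟩ := pr_surj m
      have hg : g ∈ M.comap pr := by rw [h]; exact Subgroup.mem_top _
      exact hg

end overtwo

end Cfsg.Agent.Helper18.Dickson
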