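import Mathlib
import Cfsg.Agent.Helper18.Dickson2

set_option autoImplicit false

namespace Cfsg.Agent.Helper18.Dickson

section numbers

theorem numP1 (z G k y j : ℕ) (hz : 0 < z)
    (hJ : (j = 1 ∧ k + y = G ∧ z ≤ y) ∨ (j = 2 ∧ 2 * k + y = G ∧ 2 * z ≤ y))
    (hc : k + z = G) : y = j * z := by
  rcases hJ with ⟨rfl, h1, h2⟩ | ⟨rfl, h1, h2⟩ <;> omega

theorem numQ4 (z G k y j : ℕ)
    (hJ : (j = 1 ∧ k + y = G ∧ z ≤ y) ∨ (j = 2 ∧ 2 * k + y = G ∧ 2 * z ≤ y))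
    (hD : 2 * y = G ∨ 3 * y = G ∨ 4 * y = G ∨ 5 * y = G ∨ 6 * y ≤ G) : G ≤ 4 * k := by
  rcases hJ with ⟨rfl, a1, b1⟩ | ⟨rfl, a1, b1⟩ <;>
    rcases hD with d1 | d1 | d1 | d1 | d1 <;> omega

theorem numP2 (z G k₁ y₁ j₁ k₂ y₂ j₂ : ℕ) (hz : 0 < z)
    (hJ₁ : (j₁ = 1 ∧ k₁ + y₁ = G ∧ z ≤ y₁) ∨ (j₁ = 2 ∧ 2 * k₁ + y₁ = G ∧ 2 * z ≤ y₁))
    (hD₁ : 2 * y₁ = G ∨ 3 * y₁ = G ∨ 4 * y₁ = G ∨ 5 * y₁ = G ∨ 6 * y₁ ≤ G)
    (hJ₂ : (j₂ = 1 ∧ k₂ + y₂ = G ∧ z ≤ y₂) ∨ (j₂ = 2 ∧ 2 * k₂ + y₂ = G ∧ 2 * z ≤ y₂))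
    (hD₂ : 2 * y₂ = G ∨ 3 * y₂ = G ∨ 4 * y₂ = G ∨ 5 * y₂ = G ∨ 6 * y₂ ≤ G)
    (hc : k₂ + k₁ + z = G) :
    y₁ = j₁ * z ∨ y₂ = j₂ * z ∨ G = 12 * z := by
  have e₁ : 2 * y₁ ≤ G := by rcases hD₁ with d | d | d | d | d <;> omega
  have e₂ : 2 * y₂ ≤ G := by rcases hD₂ with d | d | d | d | d <;> omega
  rcases hJ₁ with ⟨rfl, a1, b1⟩ | ⟨rfl, a1, b1⟩
  · rcases hJ₂ with ⟨rfl, a2, b2⟩ | ⟨rfl, a2, b2⟩
    · exfalso
      clear hD₁ hD₂
      omega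
    · have S : 2 * y₁ + y₂ = G + 2 * z := by omega
      clear a1 a2 hc e₁ e₂
      rcases hD₁ with d1 | d1 | d1 | d1 | d1 <;>
        rcases hD₂ with d2 | d2 | d2 | d2 | d2 <;> omega
  · rcases hJ₂ with ⟨rfl, a2, b2⟩ | ⟨rfl, a2, b2⟩
    · have S : 2 * y₂ + y₁ = G + 2 * z := by omega
      clear a1 a2 hc e₁ e₂
      rcases hD₁ with d1 | d1 | d1 | d1 | d1 <;>
        rcases hD₂ with d2 | d2 | d2 | d2 | d2 <;> omega
    · exfalso
      clear hD₁ hD₂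
      omega

theorem numT (z G y₂ y₃ : ℕ) (hz : 0 < z) (S : 2 * y₂ + 2 * y₃ = G + 4 * z)
    (hD₂ : 2 * y₂ = G ∨ 3 * y₂ = G ∨ 4 * y₂ = G ∨ 5 * y₂ = G ∨ 6 * y₂ ≤ G)
    (hD₃ : 2 * y₃ = G ∨ 3 * y₃ = G ∨ 4 * y₃ = G ∨ 5 * y₃ = G ∨ 6 * y₃ ≤ G) :
    y₂ = 2 * z ∨ y₃ = 2 * z ∨ G = 12 * z ∨ G = 24 * z ∨ G = 60 * z := by
  rcases hD₂ with d2 | d2 | d2 | d2 | d2 <;>
    rcases hD₃ with d3 | d3 | d3 | d3 | d3 <;> omega

theorem numP3 (z G k₁ y₁ j₁ k₂ y₂ j₂ k₃ y₃ j₃ : ℕ) (hz : 0 < z)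
    (hJ₁ : (j₁ = 1 ∧ k₁ + y₁ = G ∧ z ≤ y₁) ∨ (j₁ = 2 ∧ 2 * k₁ + y₁ = G ∧ 2 * z ≤ y₁))
    (hD₁ : 2 * y₁ = G ∨ 3 * y₁ = G ∨ 4 * y₁ = G ∨ 5 * y₁ = G ∨ 6 * y₁ ≤ G)
    (hJ₂ : (j₂ = 1 ∧ k₂ + y₂ = G ∧ z ≤ y₂) ∨ (j₂ = 2 ∧ 2 * k₂ + y₂ = G ∧ 2 * z ≤ y₂))
    (hD₂ : 2 * y₂ = G ∨ 3 * y₂ = G ∨ 4 * y₂ = G ∨ 5 * y₂ = G ∨ 6 * y₂ ≤ G)
    (hJ₃ : (j₃ = 1 ∧ k₃ + y₃ = G ∧ z ≤ y₃) ∨ (j₃ = 2 ∧ 2 * k₃ + y₃ = G ∧ 2 * z ≤ y₃))
    (hD₃ : 2 * y₃ = G ∨ 3 * y₃ = G ∨ 4 * y₃ = G ∨ 5 * y₃ = G ∨ 6 * y₃ ≤ G)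
    (hc : k₃ + k₂ + k₁ + z = G) :
    y₁ = j₁ * z ∨ y₂ = j₂ * z ∨ y₃ = j₃ * z ∨ G = 12 * z ∨ G = 24 * z ∨ G = 60 * z := by
  have q1 := numQ4 z G k₁ y₁ j₁ hJ₁ hD₁
  have q2 := numQ4 z G k₂ y₂ j₂ hJ₂ hD₂
  have q3 := numQ4 z G k₃ y₃ j₃ hJ₃ hD₃
  have e₁ : 2 * y₁ ≤ G := by rcases hD₁ with d | d | d | d | d <;> omega
  have e₂ : 2 * y₂ ≤ G := by rcases hD₂ with d | d | d | d | d <;> omega
  have e₃ : 2 * y₃ ≤ G := by rcases hD₃ with d | d | d | d | d <;> omega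
  have t₁ : 2 * y₁ = G ∨ 3 * y₁ ≤ G := by rcases hD₁ with d | d | d | d | d <;> omega
  have t₂ : 2 * y₂ = G ∨ 3 * y₂ ≤ G := by rcases hD₂ with d | d | d | d | d <;> omega
  have t₃ : 2 * y₃ = G ∨ 3 * y₃ ≤ G := by rcases hD₃ with d | d | d | d | d <;> omega
  rcases hJ₁ with ⟨rfl, a1, b1⟩ | ⟨rfl, a1, b1⟩
  · exfalso
    clear hD₁ hD₂ hD₃ hJ₂ hJ₃ t₁ t₂ t₃
    omega
  · rcases hJ₂ with ⟨rfl, a2, b2⟩ | ⟨rfl, a2, b2⟩
    · exfalso
      clear hD₁ hD₂ hD₃ hJ₃ t₁ t₂ t₃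
      omega
    · rcases hJ₃ with ⟨rfl, a3, b3⟩ | ⟨rfl, a3, b3⟩
      · exfalso
        clear hD₁ hD₂ hD₃ t₁ t₂ t₃
        omega
      · have S : y₁ + y₂ + y₃ = G + 2 * z := by omega
        clear a1 a2 a3 hc q1 q2 q3
        rcases t₁ with t₁ | t₁
        · have S' : 2 * y₂ + 2 * y₃ = G + 4 * z := by omega
          rcases numT z G y₂ y₃ hz S' hD₂ hD₃ with h | h | h | h | h
          · right; left; exact h
          · right; right; left; exact h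
          · right; right; right; left; exact h
          · right; right; right; right; left; exact h
          · right; right; right; right; right; exact h
        · rcases t₂ with t₂ | t₂
          · have S' : 2 * y₁ + 2 * y₃ = G + 4 * z := by omega
            rcases numT z G y₁ y₃ hz S' hD₁ hD₃ with h | h | h | h | h
            · left; exact h
            · right; right; left; exact h
            · right; right; right; left; exact h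
            · right; right; right; right; left; exact h
            · right; right; right; right; right; exact h
          · rcases t₃ with t₃ | t₃
            · have S' : 2 * y₁ + 2 * y₂ = G + 4 * z := by omega
              rcases numT z G y₁ y₂ hz S' hD₁ hD₂ with h | h | h | h | h
              · left; exact h
              · right; left; exact h
              · right; right; right; left; exact h
              · right; right; right; right; left; exact h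
              · right; right; right; right; right; exact h
            · exfalso
              omega

end numbers

section absclass

variable {G : Type*} [Group G]

/-- numerical data of one class -/
theorem cls_pack [Finite G] (hct : CT G) (g : G) (hg : g ∉ Subgroup.center G)
    (hn : Nat.card (nz g) ≤ 2 * Nat.card (cz g)) :
    ∃ k y j : ℕ, (cls g).ncard = k ∧
      ((j = 1 ∧ k + y = Nat.card G ∧ Nat.card (Subgroup.center G) ≤ y) ∨
       (j = 2 ∧ 2 * k + y = Nat.card G ∧ 2 * Nat.card (Subgroup.center G) ≤ y)) ∧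
      (2 * y = Nat.card G ∨ 3 * y = Nat.card G ∨ 4 * y = Nat.card G ∨ 5 * y = Nat.card G ∨
        6 * y ≤ Nat.card G) ∧
      (y = j * Nat.card (Subgroup.center G) → Nat.card G ≤ 2 * Nat.card (cz g)) := by
  have hle : Subgroup.center G ≤ cz g := Subgroup.center_le_centralizer _
  obtain ⟨m, hm⟩ := Subgroup.card_dvd_of_le hle
  have hzpos : 0 < Nat.card (Subgroup.center G) := Nat.card_pos
  have hcpos : 0 < Nat.card (cz g) := Nat.card_pos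
  have hm2 : 2 ≤ m := by
    by_contra hlt
    have hm1 : m ≤ 1 := by omega
    have hcard : Nat.card (cz g) ≤ Nat.card (Subgroup.center G) := by
      rw [hm]
      calc Nat.card (Subgroup.center G) * m ≤ Nat.card (Subgroup.center G) * 1 :=
            Nat.mul_le_mul_left _ hm1
        _ = _ := mul_one _
    have heq := Subgroup.eq_of_le_of_card_ge hle hcard
    exact hg (by rw [heq]; exact mem_cz.mpr (Commute.refl g))
  obtain ⟨e, rfl⟩ : ∃ e, m = e + 1 := ⟨m - 1, by omega⟩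
  obtain ⟨j, hj⟩ := Subgroup.card_dvd_of_le (cz_le_nz g)
  have hnpos : 0 < Nat.card (nz g) := Nat.card_pos
  have hj12 : j = 1 ∨ j = 2 := by
    have hj0 : j ≠ 0 := by
      rintro rfl
      rw [mul_zero] at hj
      omega
    have hj2 : j ≤ 2 := by
      by_contra hgt
      have h3 : 3 ≤ j := by omega
      have h4 := Nat.mul_le_mul_left (Nat.card (cz g)) h3
      rw [← hj] at h4
      omega
    omega
  obtain ⟨D, hD⟩ := Subgroup.card_subgroup_dvd_card (nz g)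
  have hGpos : 0 < Nat.card G := Nat.card_pos
  have hD1 : 1 ≤ D := by
    rcases Nat.eq_zero_or_pos D with h0 | h0
    · rw [h0, mul_zero] at hD; omega
    · exact h0
  have hcls := cls_card hct hg
  obtain ⟨z, hz⟩ : ∃ z, Nat.card (Subgroup.center G) = z := ⟨_, rfl⟩
  obtain ⟨Gc, hGc⟩ : ∃ Gc, Nat.card G = Gc := ⟨_, rfl⟩
  obtain ⟨κ, hκ⟩ : ∃ κ, Nat.card (cz g) = κ := ⟨_, rfl⟩
  obtain ⟨N, hN⟩ : ∃ N, Nat.card (nz g) = N := ⟨_, rfl⟩
  obtain ⟨k, hk⟩ : ∃ k, (cls g).ncard = k := ⟨_, rfl⟩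
  rw [hz, hκ] at hm
  rw [hκ, hN] at hj
  rw [hN, hGc] at hD
  rw [hk, hN, hGc, hκ, hz] at hcls
  rw [hz] at hzpos
  rw [hN] at hnpos
  rw [hz, hGc, hκ, hk]
  have e2 : κ - z = z * e := by rw [hm, mul_add, mul_one, Nat.add_sub_cancel]
  rw [e2] at hcls
  have hkD : k = D * (z * e) := by
    apply Nat.eq_of_mul_eq_mul_right hnpos
    rw [hcls, hD]; ring
  have hG' : Gc = (j * z * D) * (e + 1) := by rw [hD, hj, hm]; ring
  refine ⟨k, j * z * D, j, rfl, ?_, ?_, ?_⟩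
  · rcases hj12 with rfl | rfl
    · left
      refine ⟨rfl, ?_, ?_⟩
      · rw [hG', hkD]; ring
      · calc z = 1 * z * 1 := by ring
          _ ≤ 1 * z * D := Nat.mul_le_mul_left _ hD1
    · right
      refine ⟨rfl, ?_, ?_⟩
      · rw [hG', hkD]; ring
      · calc 2 * z = 2 * z * 1 := by ring
          _ ≤ 2 * z * D := Nat.mul_le_mul_left _ hD1
  · obtain ⟨y, hy⟩ : ∃ y, j * z * D = y := ⟨_, rfl⟩
    rw [hy] at hG' ⊢
    have h5 : e = 1 ∨ e = 2 ∨ e = 3 ∨ e = 4 ∨ 5 ≤ e := by omega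
    rcases h5 with rfl | rfl | rfl | rfl | h5
    · left; rw [hG']; ring
    · right; left; rw [hG']; ring
    · right; right; left; rw [hG']; ring
    · right; right; right; left; rw [hG']; ring
    · right; right; right; right
      rw [hG']
      calc 6 * y = y * 6 := by ring
        _ ≤ y * (e + 1) := Nat.mul_le_mul_left _ (by omega)
  · intro hy
    have hjz : 0 < j * z := by rcases hj12 with rfl | rfl <;> omega
    have hD' : D = 1 := by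
      have h6 : j * z * D = j * z * 1 := by rw [mul_one]; exact hy
      exact Nat.eq_of_mul_eq_mul_left hjz h6
    rw [hD, hj, hD', mul_one]
    rcases hj12 with rfl | rfl <;> omega

/-- the class equation of a group in which centralisers of non-central elements are abelian
and of index at most two in their normalisers -/
theorem pprime_abs [Finite G] (hct : CT G)
    (hn : ∀ g : G, g ∉ Subgroup.center G → Nat.card (nz g) ≤ 2 * Nat.card (cz g))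
    (g₁ : G) (h₁ : g₁ ∉ Subgroup.center G) :
    (∃ g : G, g ∉ Subgroup.center G ∧ Nat.card G ≤ 2 * Nat.card (cz g)) ∨
      Nat.card G = 12 * Nat.card (Subgroup.center G) ∨
      Nat.card G = 24 * Nat.card (Subgroup.center G) ∨
      Nat.card G = 60 * Nat.card (Subgroup.center G) := by
  obtain ⟨k₁, y₁, j₁, hk₁, hJ₁, hD₁, hc₁⟩ := cls_pack hct g₁ h₁ (hn g₁ h₁)
  have hzpos : 0 < Nat.card (Subgroup.center G) := Nat.card_pos
  have hnc := nc_count (G := G)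
  by_cases hall : ∀ g : G, g ∉ Subgroup.center G → g ∈ cls g₁
  · have hs : {k : G | k ∉ Subgroup.center G} = cls g₁ := by
      ext k; exact ⟨fun hk => hall k hk, fun hk => hk.1⟩
    rw [hs, hk₁] at hnc
    left
    exact ⟨g₁, h₁, hc₁ (numP1 _ _ _ _ _ hzpos hJ₁ hnc)⟩
  · obtain ⟨g₂, hg₂⟩ := not_forall.mp hall
    obtain ⟨h₂, h₂'⟩ := Classical.not_imp.mp hg₂
    obtain ⟨k₂, y₂, j₂, hk₂, hJ₂, hD₂, hc₂⟩ := cls_pack hct g₂ h₂ (hn g₂ h₂)
    have hrc := rest_count hct h₁ h₂ h₂'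
    rw [hk₁, hk₂] at hrc
    by_cases hr0 : (rest g₁ g₂).ncard = 0
    · rw [hr0, zero_add] at hrc
      rcases numP2 _ _ _ _ _ _ _ _ hzpos hJ₁ hD₁ hJ₂ hD₂ hrc with h | h | h
      · left; exact ⟨g₁, h₁, hc₁ h⟩
      · left; exact ⟨g₂, h₂, hc₂ h⟩
      · right; left; exact h
    · obtain ⟨g₃, hg₃⟩ := Set.nonempty_of_ncard_ne_zero hr0
      obtain ⟨k₃, y₃, j₃, hk₃, hJ₃, hD₃, hc₃⟩ := cls_pack hct g₃ hg₃.1 (hn g₃ hg₃.1)
      have hle₃ := one_cls_le hct h₁ h₂ hg₃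
      rw [hk₃] at hle₃
      by_cases hex : ∃ g₄ ∈ rest g₁ g₂, g₄ ∉ cls g₃
      · exfalso
        obtain ⟨g₄, hg₄, hg₄n⟩ := hex
        obtain ⟨k₄, y₄, j₄, hk₄, hJ₄, hD₄, hc₄⟩ := cls_pack hct g₄ hg₄.1 (hn g₄ hg₄.1)
        have hle₄ := two_cls_le hct h₁ h₂ hg₃ hg₄ hg₄n
        rw [hk₃, hk₄] at hle₄
        have f₁ := numQ4 _ _ _ _ _ hJ₁ hD₁
        have f₂ := numQ4 _ _ _ _ _ hJ₂ hD₂
        have f₃ := numQ4 _ _ _ _ _ hJ₃ hD₃
        have f₄ := numQ4 _ _ _ _ _ hJ₄ hD₄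
        clear hJ₁ hJ₂ hJ₃ hJ₄ hD₁ hD₂ hD₃ hD₄ hc₁ hc₂ hc₃ hc₄
        omega
      · have hRsub : rest g₁ g₂ ⊆ cls g₃ := by
          intro k hk
          by_contra hkn
          exact hex ⟨k, hk, hkn⟩
        have hRc : (rest g₁ g₂).ncard = k₃ :=
          le_antisymm (by rw [← hk₃]; exact Set.ncard_le_ncard hRsub) hle₃
        rw [hRc] at hrc
        rcases numP3 _ _ _ _ _ _ _ _ _ _ _ hzpos hJ₁ hD₁ hJ₂ hD₂ hJ₃ hD₃ hrc with
          h | h | h | h | h | h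
        · left; exact ⟨g₁, h₁, hc₁ h⟩
        · left; exact ⟨g₂, h₂, hc₂ h⟩
        · left; exact ⟨g₃, hg₃.1, hc₃ h⟩
        · right; left; exact h
        · right; right; left; exact h
        · right; right; right; exact h

end absclass

end Cfsg.Agent.Helper18.Dickson
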