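import Mathlib
import Cfsg.Agent.Helper18.DicksonBound1

set_option autoImplicit false

namespace Cfsg.Agent.Helper18.Dickson

open Matrix Cfsg.Agent.Helper12 Cfsg.Agent.Helper18.OutPSL2

local notation "SL2" => Matrix.SpecialLinearGroup (Fin 2)
local notation "M2" => Matrix (Fin 2) (Fin 2)

section boundmat

variable {K : Type*} [Field K]

theorem unip_conj (x : SL2 K) (hx : (x : M2 K).trace = 2) (hx1 : x ≠ 1) :
    ∃ (D : SL2 K) (s : K), s ≠ 0 ∧ D * x * D⁻¹ = sl2U s := by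
  by_cases hc : (x : M2 K) 1 0 = 0
  · obtain ⟨h00, h11⟩ := upper_tr2 x hc hx
    have hxU : x = sl2U ((x : M2 K) 0 1) := sl2_eq_sl2U x h00 hc h11
    refine ⟨1, (x : M2 K) 0 1, ?_, ?_⟩
    · intro h0
      apply hx1
      rw [hxU, h0, sl2U_zero]
    · rw [one_mul, inv_one, mul_one]
      exact hxU
  · obtain ⟨γ, hγ⟩ := nf2 x hx hc
    refine ⟨wE⁻¹ * sl2U γ, -(x : M2 K) 1 0, neg_ne_zero.mpr hc, ?_⟩
    have e : wE⁻¹ * sl2U γ * x * (wE⁻¹ * sl2U γ)⁻¹ =
        wE⁻¹ * (sl2U γ * x * (sl2U γ)⁻¹) * wE := by group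
    rw [e, hγ]
    have h5 := wE_conj (-(x : M2 K) 1 0)
    rw [neg_neg] at h5
    rw [← h5]
    group

theorem nfG (x y : SL2 K) (hx : (x : M2 K).trace = 2)
    (hy : (y : M2 K).trace = 2) (hxy : x * y ≠ y * x) :
    ∃ (D : SL2 K) (s t : K), s ≠ 0 ∧ t ≠ 0 ∧ D * x * D⁻¹ = sl2U s ∧ D * y * D⁻¹ = lo t := by
  have hx1 : x ≠ 1 := by
    rintro rfl
    exact hxy (by rw [one_mul, mul_one])
  obtain ⟨c, b, hb, hc⟩ := unip_conj x hx hx1
  have hy' : ((c * y * c⁻¹ : SL2 K) : M2 K).trace = 2 := by rw [sl2_trace_conj, hy]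
  have h10 : ((c * y * c⁻¹ : SL2 K) : M2 K) 1 0 ≠ 0 := by
    intro h0
    apply hxy
    have hcomm : (c * y * c⁻¹) * sl2U b = sl2U b * (c * y * c⁻¹) := by
      rw [sl2U_comm_iff hb]
      obtain ⟨h00, h11⟩ := upper_tr2 _ h0 hy'
      exact ⟨h0, h00.trans h11.symm⟩
    rw [← hc] at hcomm
    have h7 : c⁻¹ * (c * y * c⁻¹ * (c * x * c⁻¹)) * c = c⁻¹ * (c * x * c⁻¹ * (c * y * c⁻¹)) * c :=
      congrArg (fun m => c⁻¹ * m * c) hcomm
    have e1 : c⁻¹ * (c * y * c⁻¹ * (c * x * c⁻¹)) * c = y * x := by group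
    have e2 : c⁻¹ * (c * x * c⁻¹ * (c * y * c⁻¹)) * c = x * y := by group
    rw [e1, e2] at h7
    exact h7.symm
  obtain ⟨γ, hγ⟩ := nf2 (c * y * c⁻¹) hy' h10
  refine ⟨sl2U γ * c, b, _, hb, h10, ?_, ?_⟩
  · have e : sl2U γ * c * x * (sl2U γ * c)⁻¹ = sl2U γ * (c * x * c⁻¹) * (sl2U γ)⁻¹ := by group
    rw [e, hc, mul_inv_eq_iff_eq_mul, sl2U_mul, sl2U_mul, add_comm]
  · have e : sl2U γ * c * y * (sl2U γ * c)⁻¹ = sl2U γ * (c * y * c⁻¹) * (sl2U γ)⁻¹ := by group
    rw [e, hγ]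

theorem conic_eq (g c : SL2 K) (x y : K)
    (h : (c : M2 K) = x • (1 : M2 K) + y • (g : M2 K)) :
    x ^ 2 + (g : M2 K).trace * x * y + y ^ 2 = 1 := by
  obtain ⟨a, b, c', d, hg, hdet⟩ := sl2_eta g
  have hc := c.det_coe
  have e00 : (c : M2 K) 0 0 = x + y * a := by rw [h, hg]; simp
  have e01 : (c : M2 K) 0 1 = y * b := by rw [h, hg]; simp
  have e10 : (c : M2 K) 1 0 = y * c' := by rw [h, hg]; simp
  have e11 : (c : M2 K) 1 1 = x + y * d := by rw [h, hg]; simp
  rw [Matrix.det_fin_two, e00, e01, e10, e11] at hc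
  rw [hg, Matrix.trace_fin_two_of]
  linear_combination hc - y ^ 2 * hdet

open Classical in
/-- stereographic projection of a conic from the point `(1, 0)` -/
noncomputable def stereo (p : K × K) : Option (Option K) :=
  if p.1 = 1 ∧ p.2 = 0 then none
  else if p.1 = 1 then some none
  else some (some (p.2 / (p.1 - 1)))

theorem stereo_inj (τ : K) (hτ : τ ^ 2 ≠ 4) (x y x' y' : K)
    (h1 : x ^ 2 + τ * x * y + y ^ 2 = 1) (h2 : x' ^ 2 + τ * x' * y' + y' ^ 2 = 1)
    (hx : x ≠ 1) (hx' : x' ≠ 1) (hm : y / (x - 1) = y' / (x' - 1)) : x = x' ∧ y = y' := by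
  have hu : x - 1 ≠ 0 := sub_ne_zero.mpr hx
  have hu' : x' - 1 ≠ 0 := sub_ne_zero.mpr hx'
  obtain ⟨m, hm1⟩ : ∃ m, m = y / (x - 1) := ⟨_, rfl⟩
  have hy : y = m * (x - 1) := by rw [hm1, div_mul_cancel₀ _ hu]
  have hy' : y' = m * (x' - 1) := by rw [hm1, hm, div_mul_cancel₀ _ hu']
  have E : 2 + τ * m + (x - 1) * (1 + τ * m + m ^ 2) = 0 := by
    apply mul_left_cancel₀ hu
    rw [mul_zero]
    rw [hy] at h1
    linear_combination h1
  have E' : 2 + τ * m + (x' - 1) * (1 + τ * m + m ^ 2) = 0 := by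
    apply mul_left_cancel₀ hu'
    rw [mul_zero]
    rw [hy'] at h2
    linear_combination h2
  have hQ : 1 + τ * m + m ^ 2 ≠ 0 := by
    intro hQ
    rw [hQ, mul_zero, add_zero] at E
    apply hτ
    have hm2 : m ^ 2 = 1 := by linear_combination hQ - E
    linear_combination (τ * m - 2) * E - τ ^ 2 * hm2
  have huu : x - 1 = x' - 1 := by
    apply mul_right_cancel₀ hQ
    linear_combination E - E'
  have hxx : x = x' := by linear_combination huu
  exact ⟨hxx, by rw [hy, hy', hxx]⟩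

theorem stereo_eq (τ : K) (hτ : τ ^ 2 ≠ 4) (p p' : K × K)
    (h1 : p.1 ^ 2 + τ * p.1 * p.2 + p.2 ^ 2 = 1)
    (h2 : p'.1 ^ 2 + τ * p'.1 * p'.2 + p'.2 ^ 2 = 1)
    (h : stereo p = stereo p') : p = p' := by
  classical
  unfold stereo at h
  by_cases ha : p.1 = 1 ∧ p.2 = 0
  · rw [if_pos ha] at h
    by_cases ha' : p'.1 = 1 ∧ p'.2 = 0
    · exact Prod.ext (ha.1.trans ha'.1.symm) (ha.2.trans ha'.2.symm)
    · rw [if_neg ha'] at h
      by_cases hb' : p'.1 = 1
      · rw [if_pos hb'] at h; exact absurd h (by simp)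
      · rw [if_neg hb'] at h; exact absurd h (by simp)
  · rw [if_neg ha] at h
    by_cases ha' : p'.1 = 1 ∧ p'.2 = 0
    · rw [if_pos ha'] at h
      by_cases hb : p.1 = 1
      · rw [if_pos hb] at h; exact absurd h (by simp)
      · rw [if_neg hb] at h; exact absurd h (by simp)
    · rw [if_neg ha'] at h
      by_cases hb : p.1 = 1
      · rw [if_pos hb] at h
        by_cases hb' : p'.1 = 1
        · have hy : p.2 ≠ 0 := fun h0 => ha ⟨hb, h0⟩
          have hy' : p'.2 ≠ 0 := fun h0 => ha' ⟨hb', h0⟩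
          rw [hb] at h1
          rw [hb'] at h2
          have e1 : p.2 = -τ := by
            apply mul_left_cancel₀ hy
            linear_combination h1
          have e2 : p'.2 = -τ := by
            apply mul_left_cancel₀ hy'
            linear_combination h2
          exact Prod.ext (hb.trans hb'.symm) (e1.trans e2.symm)
        · rw [if_neg hb'] at h; exact absurd h (by simp)
      · rw [if_neg hb] at h
        by_cases hb' : p'.1 = 1
        · rw [if_pos hb'] at h; exact absurd h (by simp)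
        · rw [if_neg hb'] at h
          have hm : p.2 / (p.1 - 1) = p'.2 / (p'.1 - 1) := by
            simpa using h
          obtain ⟨e1, e2⟩ := stereo_inj τ hτ _ _ _ _ h1 h2 hb hb' hm
          exact Prod.ext e1 e2

theorem card_cz_le [Fintype K] (L : Subgroup (SL2 K)) (g : L)
    (hss : ((g : SL2 K) : M2 K).trace ^ 2 ≠ 4) :
    Nat.card (cz g) ≤ Fintype.card K + 2 := by
  classical
  have hns : ¬ Sl2Scalar (g : SL2 K) := fun h => hss (sl2Scalar_trace_sq _ h)
  have hex : ∀ c : cz g, ∃ p : K × K, ((((c : L) : SL2 K)) : M2 K) =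
      p.1 • (1 : M2 K) + p.2 • ((g : SL2 K) : M2 K) := by
    intro c
    have hc := mem_cz.mp c.2
    rw [comm_sub] at hc
    obtain ⟨x, y, hxy⟩ := sl2_commutant (g : SL2 K) ((c : L) : SL2 K) hns hc.symm
    exact ⟨(x, y), hxy⟩
  choose P hP using hex
  have hinj : Function.Injective (fun c : cz g => stereo (P c)) := by
    intro c c' h
    have h5 := stereo_eq _ hss (P c) (P c') (conic_eq _ _ _ _ (hP c))
      (conic_eq _ _ _ _ (hP c')) h
    apply Subtype.ext
    apply Subtype.ext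
    apply Subtype.ext
    rw [hP c, hP c', h5]
  have h5 := Nat.card_le_card_of_injective _ hinj
  rw [Nat.card_eq_fintype_card (α := Option (Option K)), Fintype.card_option,
    Fintype.card_option] at h5
  exact h5

theorem card_le_of_upper [Fintype K] (L : Subgroup (SL2 K))
    (h : ∀ g ∈ L, (g : M2 K) 1 0 = 0) :
    Nat.card L ≤ Fintype.card K * (Fintype.card K - 1) := by
  classical
  have hne : ∀ g : L, ((g : SL2 K) : M2 K) 0 0 ≠ 0 := by
    intro g h0
    have h1 := det_upper (g : SL2 K) (h _ g.2)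
    rw [h0, zero_mul] at h1
    exact zero_ne_one h1
  have hinj : Function.Injective (fun g : L =>
      ((Units.mk0 _ (hne g), ((g : SL2 K) : M2 K) 0 1) : Kˣ × K)) := by
    intro g g' hgg
    have h1 : ((g : SL2 K) : M2 K) 0 0 = ((g' : SL2 K) : M2 K) 0 0 :=
      congrArg (fun p : Kˣ × K => (p.1 : K)) hgg
    have h2 : ((g : SL2 K) : M2 K) 0 1 = ((g' : SL2 K) : M2 K) 0 1 :=
      congrArg Prod.snd hgg
    have d1 := det_upper (g : SL2 K) (h _ g.2)
    have d2 := det_upper (g' : SL2 K) (h _ g'.2)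
    apply Subtype.ext
    apply Subtype.ext
    ext i j
    fin_cases i <;> fin_cases j
    · exact h1
    · exact h2
    · exact (h _ g.2).trans (h _ g'.2).symm
    · show ((g : SL2 K) : M2 K) 1 1 = ((g' : SL2 K) : M2 K) 1 1
      apply mul_left_cancel₀ (hne g)
      rw [d1, h1, d2]
  have h5 := Nat.card_le_card_of_injective _ hinj
  rw [Nat.card_prod, Nat.card_eq_fintype_card (α := Kˣ), Nat.card_eq_fintype_card (α := K),
    Fintype.card_units] at h5
  rw [mul_comm]; exact h5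

theorem borel_bound [Fintype K] (L : Subgroup (SL2 K)) (x : SL2 K) (hxL : x ∈ L)
    (hx : (x : M2 K).trace = 2) (hx1 : x ≠ 1)
    (hcomm : ∀ y ∈ L, (y : M2 K).trace = 2 → x * y = y * x) :
    Nat.card L ≤ Fintype.card K * (Fintype.card K - 1) := by
  obtain ⟨D, s, hs, hD⟩ := unip_conj x hx hx1
  have hcard : Nat.card (L.map (MulAut.conj D).toMonoidHom) = Nat.card L :=
    Subgroup.card_map_of_injective (MulAut.conj D).injective
  rw [← hcard]
  apply card_le_of_upper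
  rintro g' ⟨g, hg, rfl⟩
  show ((D * g * D⁻¹ : SL2 K) : M2 K) 1 0 = 0
  have hy : x * (g * x * g⁻¹) = (g * x * g⁻¹) * x :=
    hcomm _ (L.mul_mem (L.mul_mem hg hxL) (L.inv_mem hg)) (by rw [sl2_trace_conj, hx])
  have hc2 : (D * g * D⁻¹) * sl2U s * (D * g * D⁻¹)⁻¹ * sl2U s =
      sl2U s * ((D * g * D⁻¹) * sl2U s * (D * g * D⁻¹)⁻¹) := by
    rw [← hD]
    have e1 : D * g * D⁻¹ * (D * x * D⁻¹) * (D * g * D⁻¹)⁻¹ * (D * x * D⁻¹) =
        D * ((g * x * g⁻¹) * x) * D⁻¹ := by group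
    have e2 : D * x * D⁻¹ * (D * g * D⁻¹ * (D * x * D⁻¹) * (D * g * D⁻¹)⁻¹) =
        D * (x * (g * x * g⁻¹)) * D⁻¹ := by group
    rw [e1, e2, hy]
  have h10 := ((sl2U_comm_iff hs _).mp hc2).1
  rw [conj10 _ _ (sl2U_10 s) (sl2U_00 s) (sl2U_11 s), sl2U_01] at h10
  have h11 : s * ((D * g * D⁻¹ : SL2 K) : M2 K) 1 0 ^ 2 = 0 := neg_eq_zero.mp h10
  rcases mul_eq_zero.mp h11 with h | h
  · exact absurd h hs
  · exact (pow_eq_zero_iff two_ne_zero).mp h

/-- the parameters `y` with `sl2U (s * y) ∈ L` -/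
def Aset (L : Subgroup (SL2 K)) (s : K) : AddSubgroup K where
  carrier := {y | sl2U (s * y) ∈ L}
  zero_mem' := by
    show sl2U (s * 0) ∈ L
    rw [mul_zero, sl2U_zero]; exact L.one_mem
  add_mem' := by
    intro a b ha hb
    show sl2U (s * (a + b)) ∈ L
    rw [mul_add, ← sl2U_mul]
    exact L.mul_mem ha hb
  neg_mem' := by
    intro a ha
    show sl2U (s * -a) ∈ L
    rw [mul_neg, sl2U_neg_eq_inv]
    exact L.inv_mem ha

theorem mem_Aset {L : Subgroup (SL2 K)} {s y : K} : y ∈ Aset L s ↔ sl2U (s * y) ∈ L := Iff.rfl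

theorem bruhat_sq [Fintype K] {L : Subgroup (SL2 K)} {s t : K} (S : Setup L s t)
    (hBr : ∀ g : L, g ∉ BU L → ∃ u ∈ PU L, ∃ n ∈ BU L, g = u * S.Y * n)
    (hδ : sl2U (2 / t) ∈ L)
    (hua : ∀ A : AddSubgroup K, (1 : K) ∈ A → (∀ x ∈ A, x ≠ 0 → x⁻¹ ∈ A) →
      ∀ x ∈ A, ∀ y ∈ A, x * y ∈ A)
    (hL : L ≠ ⊤) : Nat.card (PU L) * Nat.card (PU L) ≤ Fintype.card K := by
  have hs := S.hs
  have ht := S.ht
  have hUL : sl2U s ∈ L := by rw [← S.hU]; exact S.U.2
  have hYL : lo t ∈ L := by rw [← S.hY]; exact S.Y.2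
  have h1 : (1 : K) ∈ Aset L s := by rw [mem_Aset, mul_one]; exact hUL
  have hst : s * t ≠ 0 := mul_ne_zero hs ht
  have key : ∀ x : K, sl2U x ∈ L → x ≠ 0 → sl2U ((t ^ 2 * x)⁻¹) ∈ L := by
    intro x hx hx0
    have hx' : sl2U (x - 2 / t) ∈ L := by
      rw [sub_eq_add_neg, ← sl2U_mul, sl2U_neg_eq_inv]
      exact L.mul_mem hx (L.inv_mem hδ)
    have hgL : lo t * sl2U (x - 2 / t) * lo t ∈ L := L.mul_mem (L.mul_mem hYL hx') hYL
    have hmat : ((lo t * sl2U (x - 2 / t) * lo t : SL2 K) : M2 K) =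
        !![t * x - 1, x - 2 / t; t ^ 2 * x, t * x - 1] := by
      rw [Matrix.SpecialLinearGroup.coe_mul, Matrix.SpecialLinearGroup.coe_mul, lo_val,
        sl2U_val, Matrix.mul_fin_two, Matrix.mul_fin_two]
      refine mat2_ext ?_ ?_ ?_ ?_ <;> first | (field_simp; ring) | field_simp | ring
    have e10 : ((lo t * sl2U (x - 2 / t) * lo t : SL2 K) : M2 K) 1 0 = t ^ 2 * x := by
      rw [hmat]; rfl
    have e00 : ((lo t * sl2U (x - 2 / t) * lo t : SL2 K) : M2 K) 0 0 = t * x - 1 := by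
      rw [hmat]; rfl
    have hne : t ^ 2 * x ≠ 0 := mul_ne_zero (pow_ne_zero 2 ht) hx0
    obtain ⟨α, hα, hrel⟩ := bruhat_ratio S hBr _ hgL (by rw [e10]; exact hne)
    rw [e00, e10] at hrel
    have hα' : α = -(t ^ 2 * x)⁻¹ := by
      rw [eq_neg_iff_add_eq_zero]
      have h5 : α * (t ^ 2 * x) + 1 = 0 := by
        apply mul_left_cancel₀ ht
        linear_combination -hrel
      have h6 : α + (t ^ 2 * x)⁻¹ = (α * (t ^ 2 * x) + 1) * (t ^ 2 * x)⁻¹ := by
        rw [add_mul, mul_assoc, mul_inv_cancel₀ hne, mul_one, one_mul]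
      rw [h6, h5, zero_mul]
    have h7 : sl2U (-(t ^ 2 * x)⁻¹) ∈ L := by rw [← hα']; exact hα
    have h8 := L.inv_mem h7
    rw [← sl2U_neg_eq_inv, neg_neg] at h8
    exact h8
  have hphi : ∀ y ∈ Aset L s, y ≠ 0 → ((s * t) ^ 2 * y)⁻¹ ∈ Aset L s := by
    intro y hy hy0
    have h5 := key (s * y) hy (mul_ne_zero hs hy0)
    rw [mem_Aset]
    have e : s * ((s * t) ^ 2 * y)⁻¹ = (t ^ 2 * (s * y))⁻¹ := by
      first | (field_simp; ring) | field_simp
    rw [e]; exact h5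
  have hc1 : ((s * t) ^ 2)⁻¹ ∈ Aset L s := by
    have h5 := hphi 1 h1 one_ne_zero
    rw [mul_one] at h5; exact h5
  have hst2 : (s * t) ^ 2 ≠ 0 := pow_ne_zero 2 hst
  have hinv : ∀ w ∈ Aset L s, w ≠ 0 → w⁻¹ ∈ Aset L s := by
    intro w hw hw0
    by_cases hw1 : w = 1
    · rw [hw1, inv_one]; exact h1
    have hx : w - 1 ∈ Aset L s := (Aset L s).sub_mem hw h1
    have hx0 : w - 1 ≠ 0 := sub_ne_zero.mpr hw1
    have h5 := hphi (w - 1) hx hx0
    have h6 := (Aset L s).add_mem h5 hc1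
    have e6 : ((s * t) ^ 2 * (w - 1))⁻¹ + ((s * t) ^ 2)⁻¹ = w / ((s * t) ^ 2 * (w - 1)) := by
      first | (field_simp; ring) | field_simp
    rw [e6] at h6
    have hne : w / ((s * t) ^ 2 * (w - 1)) ≠ 0 := div_ne_zero hw0 (mul_ne_zero hst2 hx0)
    have h7 := hphi _ h6 hne
    have e7 : ((s * t) ^ 2 * (w / ((s * t) ^ 2 * (w - 1))))⁻¹ = 1 - w⁻¹ := by
      first | (field_simp; ring) | field_simp
    rw [e7] at h7
    have h8 := (Aset L s).sub_mem h1 h7
    have e8 : (1 : K) - (1 - w⁻¹) = w⁻¹ := by ring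
    rw [e8] at h8; exact h8
  have hmul := hua (Aset L s) h1 hinv
  by_cases hall : ∀ y : K, y ∈ Aset L s
  · exfalso
    apply hL
    apply sl2_generate (lo t) (by rw [lo_10]; exact ht) L
    · intro y
      have h5 := mem_Aset.mp (hall (y / s))
      have e : s * (y / s) = y := by field_simp
      rw [e] at h5; exact h5
    · intro y
      have h5 := mem_Aset.mp (hall (y / s))
      have e : s * (y / s) = y := by field_simp
      rw [e] at h5
      exact L.mul_mem (L.mul_mem hYL h5) (L.inv_mem hYL)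
  · obtain ⟨θ, hθ⟩ := not_forall.mp hall
    have hinj : Function.Injective
        (fun p : Aset L s × Aset L s => (p.1 : K) + (p.2 : K) * θ) := by
      rintro ⟨⟨x, hx⟩, ⟨y, hy⟩⟩ ⟨⟨x', hx'⟩, ⟨y', hy'⟩⟩ h
      have h' : x + y * θ = x' + y' * θ := h
      have hyy : y = y' := by
        by_contra hne
        apply hθ
        have hd : y - y' ≠ 0 := sub_ne_zero.mpr hne
        have e : θ = (x' - x) * (y - y')⁻¹ := by
          rw [eq_mul_inv_iff_mul_eq₀ hd]
          linear_combination h'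
        rw [e]
        exact hmul _ ((Aset L s).sub_mem hx' hx) _ (hinv _ ((Aset L s).sub_mem hy hy') hd)
      subst hyy
      have hxx : x = x' := by linear_combination h'
      subst hxx
      rfl
    have h5 := Nat.card_le_card_of_injective _ hinj
    rw [Nat.card_prod, Nat.card_eq_fintype_card (α := K)] at h5
    have h6 : Nat.card (PU L) ≤ Nat.card (Aset L s) := by
      have hmem : ∀ u : PU L, (((u : L) : SL2 K) : M2 K) 0 1 / s ∈ Aset L s := by
        intro u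
        rw [mem_Aset]
        have e : s * ((((u : L) : SL2 K) : M2 K) 0 1 / s) = (((u : L) : SL2 K) : M2 K) 0 1 := by
          field_simp
        rw [e, ← PU_eq_sl2U u.2]
        exact (u : L).2
      apply Nat.card_le_card_of_injective (fun u : PU L => (⟨_, hmem u⟩ : Aset L s))
      intro u u' h
      have h7 : (((u : L) : SL2 K) : M2 K) 0 1 / s = (((u' : L) : SL2 K) : M2 K) 0 1 / s :=
        congrArg Subtype.val h
      have h8 : (((u : L) : SL2 K) : M2 K) 0 1 = (((u' : L) : SL2 K) : M2 K) 0 1 :=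
        (div_left_inj' hs).mp h7
      apply Subtype.ext
      apply Subtype.ext
      rw [PU_eq_sl2U u.2, PU_eq_sl2U u'.2, h8]
    calc Nat.card (PU L) * Nat.card (PU L) ≤ Nat.card (Aset L s) * Nat.card (Aset L s) :=
          Nat.mul_le_mul h6 h6
      _ ≤ Fintype.card K := h5

theorem bruhat_card [Finite K] {L : Subgroup (SL2 K)} {s t : K} (S : Setup L s t)
    (hBr : ∀ g : L, g ∉ BU L → ∃ u ∈ PU L, ∃ n ∈ BU L, g = u * S.Y * n) :
    Nat.card L ≤ Nat.card (BU L) * (1 + Nat.card (PU L)) := by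
  have hex : ∀ g : {g : L // g ∉ BU L}, ∃ p : PU L × BU L,
      (g : L) = (p.1 : L) * S.Y * (p.2 : L) := by
    intro g
    obtain ⟨u, hu, n, hn, h⟩ := hBr g.1 g.2
    exact ⟨(⟨u, hu⟩, ⟨n, hn⟩), h⟩
  choose f hf using hex
  have hinj : Function.Injective f := by
    intro g g' h
    apply Subtype.ext
    rw [hf g, hf g', h]
  have h5 := Nat.card_le_card_of_injective f hinj
  rw [Nat.card_prod] at h5
  have h6 := card_compl_add (BU L)
  calc Nat.card L = Nat.card {g : L // g ∉ BU L} + Nat.card (BU L) := h6.symm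
    _ ≤ Nat.card (PU L) * Nat.card (BU L) + Nat.card (BU L) := Nat.add_le_add_right h5 _
    _ = Nat.card (BU L) * (1 + Nat.card (PU L)) := by ring

theorem two_le_PU [Finite K] {L : Subgroup (SL2 K)} {s t : K} (S : Setup L s t) :
    2 ≤ Nat.card (PU L) := by
  have hUP : S.U ∈ PU L := ⟨U10 S, U00 S⟩
  have hne : PU L ≠ ⊥ := by
    intro h
    rw [h, Subgroup.mem_bot] at hUP
    have h1 := U01 S
    rw [hUP] at h1
    have h2 : (((1 : L) : SL2 K) : M2 K) 0 1 = 0 := by simp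
    rw [h2] at h1
    exact S.hs h1.symm
  exact (PU L).one_lt_card_iff_ne_bot.mpr hne

theorem BU_card_le [Finite K] {L : Subgroup (SL2 K)} {s t : K} (S : Setup L s t)
    (hczU : Nat.card (cz S.U) = Nat.card (Subgroup.center L) * Nat.card (PU L)) :
    Nat.card (BU L) ≤
      Nat.card (Subgroup.center L) * (Nat.card (PU L) * (Nat.card (PU L) - 1)) := by
  have ha := two_le_PU S
  by_cases hBc : ∀ g ∈ BU L, g ∈ cz S.U
  · have h5 : BU L = cz S.U := le_antisymm hBc (by rw [← nzU_eq S]; exact cz_le_nz _)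
    rw [h5, hczU]
    apply Nat.mul_le_mul_left
    calc Nat.card (PU L) = Nat.card (PU L) * 1 := (mul_one _).symm
      _ ≤ Nat.card (PU L) * (Nat.card (PU L) - 1) := Nat.mul_le_mul_left _ (by omega)
  · obtain ⟨g₀, hg₀⟩ := not_forall.mp hBc
    obtain ⟨hg₀B, hg₀c⟩ := Classical.not_imp.mp hg₀
    have hg10 := mem_BU.mp hg₀B
    have hne : ((g₀ : SL2 K) : M2 K) 0 0 ≠ ((g₀ : SL2 K) : M2 K) 1 1 :=
      fun h => hg₀c ((czU_iff S g₀).mpr ⟨hg10, h⟩)
    obtain ⟨hC1, hC2⟩ := card_cz_upper S g₀ hg₀B hne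
    rw [← hC1]
    calc Nat.card (cz g₀) * Nat.card (PU L)
        ≤ Nat.card (Subgroup.center L) * (Nat.card (PU L) - 1) * Nat.card (PU L) :=
          Nat.mul_le_mul_right _ hC2
      _ = _ := by ring

end boundmat

theorem numF (G B a z q : ℕ) (hG : G ≤ B * (1 + a)) (hB : B ≤ z * (a * (a - 1))) (hz : z ≤ 2)
    (ha : 2 ≤ a) (haq : a * a ≤ q) : G ≤ q * (q - 1) := by
  obtain ⟨b, rfl⟩ : ∃ b, a = b + 1 := ⟨a - 1, by omega⟩
  have e1 : b + 1 - 1 = b := by omega
  rw [e1] at hB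
  have h1 : z * (b + 1) ≤ q := by
    calc z * (b + 1) ≤ 2 * (b + 1) := Nat.mul_le_mul_right _ hz
      _ ≤ (b + 1) * (b + 1) := Nat.mul_le_mul_right _ ha
      _ ≤ q := haq
  have h2 : b * (b + 2) ≤ q - 1 := by
    have e : b * (b + 2) + 1 = (b + 1) * (b + 1) := by ring
    omega
  calc G ≤ B * (1 + (b + 1)) := hG
    _ ≤ z * ((b + 1) * b) * (1 + (b + 1)) := Nat.mul_le_mul_right _ hB
    _ = (z * (b + 1)) * (b * (b + 2)) := by ring
    _ ≤ q * (q - 1) := Nat.mul_le_mul h1 h2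

end Cfsg.Agent.Helper18.Dickson
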