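import Mathlib
import Cfsg.Agent.Helper18.DicksonBound2

set_option autoImplicit false

namespace Cfsg.Agent.Helper18.Dickson

open Matrix Cfsg.Agent.Helper12 Cfsg.Agent.Helper18.OutPSL2

local notation "SL2" => Matrix.SpecialLinearGroup (Fin 2)
local notation "M2" => Matrix (Fin 2) (Fin 2)

theorem numE (G r e j k kU Rr : ℕ) (hG : G = 2 * (1 + r * 2)) (he : 1 ≤ e) (hj : j = 1 ∨ j = 2)
    (hκ : k * (j * (1 * (e + 1))) = G * (1 * e))
    (hkU : kU + (1 + r * 2) * 1 = (1 + r * 2) * 1 * 2)
    (hcount : Rr + k + kU + 1 = G) (hR : Rr ≠ 0 → G ≤ 4 * Rr) : G = 2 * (e + 1) := by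
  have hq := numQ G 1 k j e (le_refl 1) he hj hκ
  have hRk : Rr + k = 2 * r := by omega
  have hR0 : Rr = 0 := by
    by_contra hne
    have := hR hne
    omega
  have hk : k = 2 * r := by omega
  have hP : r ≤ r * e := by
    calc r = r * 1 := (mul_one r).symm
      _ ≤ r * e := Nat.mul_le_mul_left r he
  rcases hj with rfl | rfl
  · exfalso
    have h5 : k * e + k = G * e := by
      calc k * e + k = k * (1 * (1 * (e + 1))) := by ring
        _ = G * (1 * e) := hκ
        _ = G * e := by ring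
    rw [hk, hG] at h5
    have e1 : 2 * r * e = 2 * (r * e) := by ring
    have e2 : 2 * (1 + r * 2) * e = 2 * e + 4 * (r * e) := by ring
    rw [e1, e2] at h5
    omega
  · have h5 : 2 * (k * e) + 2 * k = G * e := by
      calc 2 * (k * e) + 2 * k = k * (2 * (1 * (e + 1))) := by ring
        _ = G * (1 * e) := hκ
        _ = G * e := by ring
    rw [hk, hG] at h5
    have e1 : 2 * (2 * r * e) = 4 * (r * e) := by ring
    have e2 : 2 * (1 + r * 2) * e = 2 * e + 4 * (r * e) := by ring
    rw [e1, e2] at h5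
    omega

section boundfin

variable {K : Type*} [Field K]
variable {L : Subgroup (SL2 K)} {s t : K}

theorem base_counts2' [Finite K] [CharP K 2] (S : Setup L s t) :
    ∃ a z B G kU hh r : ℕ, Nat.card (PU L) = a ∧ Nat.card (Subgroup.center L) = z ∧
      Nat.card (BU L) = B ∧ Nat.card L = G ∧ (cls S.U).ncard = kU ∧ 2 ≤ a ∧ 2 ∣ a ∧ 1 ≤ z ∧
      1 ≤ hh ∧ 1 ≤ r ∧ B = z * a * hh ∧ Nat.card {g : L // g ∉ BU L} = r * (a * B) ∧
      G = B * (1 + r * a) ∧ ¬ 2 ∣ (BU L).index ∧
      kU + (1 + r * a) * z = (1 + r * a) * z * a := by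
  have h2 : (2 : K) = 0 := char2_two_eq_zero
  haveI : Fact (Nat.Prime 2) := ⟨Nat.prime_two⟩
  have hUP : S.U ∈ PU L := ⟨U10 S, U00 S⟩
  have hord : orderOf S.U = 2 := by
    rw [← Subgroup.orderOf_coe, S.hU]
    exact orderOf_sl2U 2 S.hs
  have hpa : 2 ∣ Nat.card (PU L) := by
    have h5 := Subgroup.orderOf_dvd_natCard (PU L) hUP
    rw [hord] at h5
    exact h5
  have hapos : 0 < Nat.card (PU L) := Nat.card_pos
  have hzpos : 0 < Nat.card (Subgroup.center L) := Nat.card_pos
  have hBpos : 0 < Nat.card (BU L) := Nat.card_pos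
  have hczle : cz S.U ≤ BU L := by rw [← nzU_eq S]; exact cz_le_nz _
  obtain ⟨hh, hhh⟩ := Subgroup.card_dvd_of_le hczle
  rw [card_czU2 h2 S] at hhh
  have hh1 : 1 ≤ hh := by
    rcases Nat.eq_zero_or_pos hh with h0 | h0
    · rw [h0, mul_zero] at hhh; omega
    · exact h0
  obtain ⟨r, hr⟩ := card_free L
  have hcomp := card_compl_add (BU L)
  have hYB : S.Y ∉ BU L := by
    intro h
    have h1 := mem_BU.mp h
    rw [S.hY, lo_val] at h1
    exact S.ht h1
  have hr1 : 1 ≤ r := by
    rcases Nat.eq_zero_or_pos r with h0 | h0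
    · rw [h0, mul_zero] at hr
      have hne : Nonempty {g : L // g ∉ BU L} := ⟨⟨S.Y, hYB⟩⟩
      have h5 := Nat.card_pos (α := {g : L // g ∉ BU L})
      omega
    · exact h0
  have hG : Nat.card L = Nat.card (BU L) * (1 + r * Nat.card (PU L)) := by
    rw [← hcomp, hr]; ring
  have hidx : (BU L).index = 1 + r * Nat.card (PU L) := by
    have h1 := (BU L).index_mul_card
    rw [hG] at h1
    apply Nat.eq_of_mul_eq_mul_right hBpos
    rw [h1]; ring
  have hnd : ¬ 2 ∣ (BU L).index := by
    rw [hidx]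
    intro hd
    have h1 : 2 ∣ r * Nat.card (PU L) := dvd_mul_of_dvd_right hpa r
    have h2' : 2 ∣ 1 := (Nat.dvd_add_left h1).mp hd
    omega
  have hUc : S.U ∉ Subgroup.center L := by
    intro h
    have h1 := ((center_iff S _).mp h).1
    rw [U01 S] at h1
    exact S.hs h1
  have hcls := cls_card (ct_L S) hUc
  rw [nzU_eq S, card_czU2 h2 S, hG] at hcls
  have hkU : (cls S.U).ncard = (1 + r * Nat.card (PU L)) *
      (Nat.card (Subgroup.center L) * Nat.card (PU L) - Nat.card (Subgroup.center L)) := by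
    apply Nat.eq_of_mul_eq_mul_right hBpos
    rw [hcls]; ring
  refine ⟨_, _, _, _, _, hh, r, rfl, rfl, rfl, rfl, rfl, Nat.le_of_dvd hapos hpa, hpa, hzpos, hh1, hr1, hhh, ?_, hG,
    hnd, ?_⟩
  · rw [hr]; ring
  · rw [hkU]
    have hle : Nat.card (Subgroup.center L) ≤ Nat.card (Subgroup.center L) * Nat.card (PU L) :=
      Nat.le_mul_of_pos_right _ hapos
    have e := Nat.sub_add_cancel hle
    obtain ⟨w, hw⟩ : ∃ w, Nat.card (Subgroup.center L) * Nat.card (PU L) -
        Nat.card (Subgroup.center L) = w := ⟨_, rfl⟩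
    rw [hw] at e ⊢
    calc (1 + r * Nat.card (PU L)) * w + (1 + r * Nat.card (PU L)) * Nat.card (Subgroup.center L)
        = (1 + r * Nat.card (PU L)) * (w + Nat.card (Subgroup.center L)) := by ring
      _ = (1 + r * Nat.card (PU L)) * (Nat.card (Subgroup.center L) * Nat.card (PU L)) := by
          rw [e]
      _ = _ := by ring


theorem even_a2 [Fintype K] [CharP K 2] (S : Setup L s t) (ha2 : Nat.card (PU L) = 2) :
    Nat.card L ≤ 2 * (Fintype.card K + 2) := by
  have h2 : (2 : K) = 0 := char2_two_eq_zero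
  have hct := ct_L S
  obtain ⟨a, z, B, G, kU, hh, r, ha, hz, hBd, hGd, hkUd, ha2', hpa, hz1, hh1, hr1, hB, hcompl,
    hG, hnd, hkU⟩ := base_counts2' S
  have hz1' : z = 1 := by rw [← hz]; exact card_center2 h2 S
  have haeq : a = 2 := by rw [← ha]; exact ha2
  subst hz1' haeq
  have hUc : S.U ∉ Subgroup.center L := by
    intro h
    have h1 := ((center_iff S _).mp h).1
    rw [U01 S] at h1
    exact S.hs h1
  have hBc : ∀ g ∈ BU L, g ∈ cz S.U := by
    intro g₀ hg₀B
    by_contra hg₀c
    have hg10 := mem_BU.mp hg₀B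
    have hne : ((g₀ : SL2 K) : M2 K) 0 0 ≠ ((g₀ : SL2 K) : M2 K) 1 1 :=
      fun h => hg₀c ((czU_iff S g₀).mpr ⟨hg10, h⟩)
    obtain ⟨hC1, hC2⟩ := card_cz_upper S g₀ hg₀B hne
    rw [hz, ha] at hC2
    have hbot : cz g₀ ≠ ⊥ := by
      intro hb
      have hmem : g₀ ∈ cz g₀ := mem_cz.mpr (Commute.refl g₀)
      rw [hb, Subgroup.mem_bot] at hmem
      apply hne
      rw [hmem]
      simp
    have h5 := (cz g₀).one_lt_card_iff_ne_bot.mpr hbot
    omega
  have hBeq : B = 2 := by
    have h5 : BU L = cz S.U := le_antisymm hBc (by rw [← nzU_eq S]; exact cz_le_nz _)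
    rw [← hBd, h5, card_czU2 h2 S, hz, ha]
  subst hBeq
  have hunip : ∀ k : L, k ∉ Subgroup.center L → k ∉ cls S.U →
      ((k : SL2 K) : M2 K).trace ^ 2 ≠ 4 :=
    fun k hk hk' htr => hk' (unip_in_clsU2 h2 S hnd k hk htr)
  have hnc := nc_count (G := L)
  rw [hz, hGd] at hnc
  have hex : ∃ g : L, g ∉ Subgroup.center L ∧ g ∉ cls S.U := by
    by_contra hcon
    have hsub : {k : L | k ∉ Subgroup.center L} ⊆ cls S.U := by
      intro k hk
      by_contra hk'
      exact hcon ⟨k, hk, hk'⟩
    have h5 := Set.ncard_le_ncard hsub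
    rw [hkUd] at h5
    omega
  obtain ⟨g, hgc, hgU⟩ := hex
  have hss := hunip g hgc hgU
  obtain ⟨-, e, j, he, hj, hcz, hκ⟩ := semis_data2 h2 S g hss
  have hcount := rest_count hct hUc hgc hgU
  rw [hz, hGd] at hκ
  rw [hz, hGd, hkUd] at hcount
  have hRr : (rest S.U g).ncard ≠ 0 → G ≤ 4 * (rest S.U g).ncard := by
    intro hne
    obtain ⟨g₁, hg₁⟩ := Set.nonempty_of_ncard_ne_zero hne
    obtain ⟨hg₁c, e₁, j₁, he₁, hj₁, hcz₁, hκ₁⟩ := semis_data2 h2 S g₁ (hunip g₁ hg₁.1 hg₁.2.1)
    rw [hz, hGd] at hκ₁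
    have hle₁ := one_cls_le hct hUc hgc hg₁
    have q1 := numQ G 1 _ j₁ e₁ (le_refl 1) he₁ hj₁ hκ₁
    omega
  have hGe := numE G r e j (cls g).ncard kU (rest S.U g).ncard hG he hj hκ hkU hcount hRr
  have hczle := card_cz_le L g hss
  rw [hcz, hz] at hczle
  rw [hGd, hGe]
  omega

theorem setup_bound_odd [Fintype K] (p : ℕ) [Fact p.Prime] [CharP K p] (hp2 : p ≠ 2)
    (S : Setup L s t) (hL : L ≠ ⊤) (hq : 13 ≤ Fintype.card K) :
    Nat.card L ≤ Fintype.card K * (Fintype.card K - 1) := by
  have h2 : (2 : K) ≠ 0 := two_ne_zero_of_char p hp2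
  have hz2 := card_center_le_two h2 S
  have hbig : 156 ≤ Fintype.card K * (Fintype.card K - 1) := by
    calc 156 = 13 * 12 := by norm_num
      _ ≤ Fintype.card K * (Fintype.card K - 1) := Nat.mul_le_mul hq (by omega)
  rcases struct_cases p hp2 S with ⟨ha, hG⟩ | hBr | ⟨ha, hG, h3, g, hg⟩
  · rw [hG]; omega
  · have hYL : lo t ∈ L := by rw [← S.hY]; exact S.Y.2
    have hδ : sl2U (2 / t) ∈ L := by
      have hYi : lo (-t) ∈ L := by rw [lo_neg_eq_inv]; exact L.inv_mem hYL
      obtain ⟨α, hα, hrel⟩ := bruhat_ratio S hBr (lo (-t)) hYi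
        (by rw [lo_10]; exact neg_ne_zero.mpr S.ht)
      rw [lo_00, lo_10] at hrel
      have ht := S.ht
      have hα' : α = -(2 / t) := by
        have h5 : α * t = -2 := by
          apply mul_left_cancel₀ ht
          linear_combination hrel
        rw [eq_neg_iff_add_eq_zero]
        field_simp
        linear_combination h5
      have h7 : sl2U (-(2 / t)) ∈ L := by rw [← hα']; exact hα
      have h8 := L.inv_mem h7
      rw [← sl2U_neg_eq_inv, neg_neg] at h8
      exact h8
    have hsq := bruhat_sq S hBr hδ (fun A h1 hinv => hua_mul p hp2 A h1 hinv) hL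
    have hB := BU_card_le S (card_czU p hp2 S)
    have hG := bruhat_card S hBr
    exact numF _ _ _ _ _ hG hB hz2 (two_le_PU S) hsq
  · rw [hG]; omega

theorem setup_bound_even [Fintype K] [CharP K 2] (S : Setup L s t) (hL : L ≠ ⊤)
    (hq : 4 ≤ Fintype.card K) :
    Nat.card L ≤ Fintype.card K * (Fintype.card K - 1) := by
  have h2 : (2 : K) = 0 := char2_two_eq_zero
  by_cases ha4 : 4 ≤ Nat.card (PU L)
  · have hBr := struct2 S ha4
    have hδ : sl2U (2 / t) ∈ L := by
      rw [h2, zero_div, sl2U_zero]; exact L.one_mem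
    have hsq := bruhat_sq S hBr hδ (fun A h1 hinv => hua_mul2 h2 A h1 hinv) hL
    have hB := BU_card_le S (card_czU2 h2 S)
    have hG := bruhat_card S hBr
    have hz2 : Nat.card (Subgroup.center L) ≤ 2 := by rw [card_center2 h2 S]; norm_num
    exact numF _ _ _ _ _ hG hB hz2 (two_le_PU S) hsq
  · have ha2 : Nat.card (PU L) = 2 := by
      have h5 := two_le_PU S
      have hUP : S.U ∈ PU L := ⟨U10 S, U00 S⟩
      haveI : Fact (Nat.Prime 2) := ⟨Nat.prime_two⟩
      have hord : orderOf S.U = 2 := by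
        rw [← Subgroup.orderOf_coe, S.hU]
        exact orderOf_sl2U 2 S.hs
      have hpa : 2 ∣ Nat.card (PU L) := by
        have h6 := Subgroup.orderOf_dvd_natCard (PU L) hUP
        rw [hord] at h6
        exact h6
      omega
    have h5 := even_a2 S ha2
    obtain ⟨m, hm⟩ : ∃ m, Fintype.card K = m + 4 := ⟨Fintype.card K - 4, by omega⟩
    rw [hm] at h5 ⊢
    have e : m + 4 - 1 = m + 3 := by omega
    rw [e]
    have h6 : 2 * (m + 4 + 2) ≤ (m + 4) * (m + 3) := by nlinarith
    exact h5.trans h6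

theorem sc_center (L : Subgroup (SL2 K)) (g : L) (h : Sl2Scalar (g : SL2 K)) :
    g ∈ Subgroup.center L := by
  rw [Subgroup.mem_center_iff]
  intro k
  have h1 := Subgroup.mem_center_iff.mp (sl2Scalar_mem_center _ h) (k : SL2 K)
  exact Subtype.ext h1

theorem ct_gen (L : Subgroup (SL2 K)) : CT L := by
  intro a b c hb hab hbc
  rw [comm_sub] at hab hbc ⊢
  exact ct_sl _ _ _ (fun h => hb (sc_center L b h)) hab hbc

theorem card_center_le_two_gen [Finite K] (h2 : (2 : K) ≠ 0) (L : Subgroup (SL2 K))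
    (hcen : ∀ g : L, g ∈ Subgroup.center L → Sl2Scalar (g : SL2 K)) :
    Nat.card (Subgroup.center L) ≤ 2 := by
  classical
  have hinj : Function.Injective (fun g : Subgroup.center L =>
      decide ((((g : L) : SL2 K) : M2 K) 0 0 = 1)) := by
    intro g g' hgg
    have hs := hcen g.1 g.2
    have hs' := hcen g'.1 g'.2
    have h1 := upper_sq _ hs.2.1 hs.2.2
    have h1' := upper_sq _ hs'.2.1 hs'.2.2
    have hiff : ((((g : L) : SL2 K) : M2 K) 0 0 = 1) ↔ ((((g' : L) : SL2 K) : M2 K) 0 0 = 1) := by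
      simpa using hgg
    have hne : (-1 : K) ≠ 1 := by
      intro h
      apply h2
      linear_combination (-1 : K) * h
    have h00 : (((g : L) : SL2 K) : M2 K) 0 0 = (((g' : L) : SL2 K) : M2 K) 0 0 := by
      rcases h1 with h | h
      · rw [h, hiff.mp h]
      · rcases h1' with h' | h'
        · exact absurd (hiff.mpr h') (by rw [h]; exact hne)
        · rw [h, h']
    apply Subtype.ext
    apply Subtype.ext
    apply Subtype.ext
    ext i j
    fin_cases i <;> fin_cases j
    · exact h00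
    · exact hs.1.trans hs'.1.symm
    · exact hs.2.1.trans hs'.2.1.symm
    · exact hs.2.2.symm.trans (h00.trans hs'.2.2)
  have h5 := Nat.card_le_card_of_injective _ hinj
  rw [Nat.card_eq_fintype_card (α := Bool), Fintype.card_bool] at h5
  exact h5

theorem one_scalar : Sl2Scalar (1 : SL2 K) := ⟨by simp, by simp, by simp⟩

theorem pprime_bound [Fintype K] (L : Subgroup (SL2 K))
    (hU : ∀ x ∈ L, (x : M2 K).trace = 2 → x = 1)
    (hq : (2 : K) ≠ 0 → 13 ≤ Fintype.card K) (hq' : 4 ≤ Fintype.card K) :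
    Nat.card L ≤ Fintype.card K * (Fintype.card K - 1) := by
  classical
  have hss : ∀ g ∈ L, ¬ Sl2Scalar g → (g : M2 K).trace ^ 2 ≠ 4 := by
    intro g hg hns htr
    have h5 : ((g : M2 K).trace - 2) * ((g : M2 K).trace + 2) = 0 := by linear_combination htr
    rcases mul_eq_zero.mp h5 with h | h
    · apply hns
      rw [hU g hg (by linear_combination h)]
      exact one_scalar
    · have htr2 : (g : M2 K).trace = -2 := by linear_combination h
      have h6 : ((g ^ 2 : SL2 K) : M2 K).trace = 2 := by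
        rw [sq_tr, htr2]; ring
      have h7 := hU (g ^ 2) (L.pow_mem hg 2) h6
      have h8 := sc_sq g hns (by rw [h7]; exact one_scalar)
      apply hns
      rw [hU g hg (by linear_combination 2 * h8 - htr2)]
      exact one_scalar
  by_cases hsc : ∀ g ∈ L, Sl2Scalar g
  · have hinj : Function.Injective (fun g : L => ((g : SL2 K) : M2 K) 0 0) := by
      intro g g' h
      have h1 : ((g : SL2 K) : M2 K) 0 0 = ((g' : SL2 K) : M2 K) 0 0 := h
      obtain ⟨a01, a10, a00⟩ := hsc _ g.2
      obtain ⟨b01, b10, b00⟩ := hsc _ g'.2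
      apply Subtype.ext
      apply Subtype.ext
      ext i j
      fin_cases i <;> fin_cases j
      · exact h1
      · exact a01.trans b01.symm
      · exact a10.trans b10.symm
      · exact a00.symm.trans (h1.trans b00)
    have h5 := Nat.card_le_card_of_injective _ hinj
    rw [Nat.card_eq_fintype_card (α := K)] at h5
    calc Nat.card L ≤ Fintype.card K := h5
      _ = Fintype.card K * 1 := (mul_one _).symm
      _ ≤ Fintype.card K * (Fintype.card K - 1) := Nat.mul_le_mul_left _ (by omega)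
  · obtain ⟨g₀, hg₀⟩ := not_forall.mp hsc
    obtain ⟨hg₀L, hg₀s⟩ := Classical.not_imp.mp hg₀
    have hq2 : 2 * (Fintype.card K + 2) ≤ Fintype.card K * (Fintype.card K - 1) := by
      obtain ⟨m, hm⟩ : ∃ m, Fintype.card K = m + 4 := ⟨Fintype.card K - 4, by omega⟩
      rw [hm]
      have e : m + 4 - 1 = m + 3 := by omega
      rw [e]
      nlinarith
    by_cases hab : ∀ a b : L, a * b = b * a
    · have htop : cz (⟨g₀, hg₀L⟩ : L) = ⊤ := by
        rw [eq_top_iff]
        intro c _
        exact mem_cz.mpr (hab c _)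
      have h5 := card_cz_le L ⟨g₀, hg₀L⟩ (hss g₀ hg₀L hg₀s)
      rw [htop, Subgroup.card_top] at h5
      omega
    · have hcen : ∀ g : L, g ∈ Subgroup.center L → Sl2Scalar (g : SL2 K) := by
        intro g hg
        by_contra hns
        apply hab
        intro a b
        have h1 : (a : SL2 K) * (g : SL2 K) = (g : SL2 K) * (a : SL2 K) :=
          congrArg Subtype.val (Subgroup.mem_center_iff.mp hg a)
        have h2 : (g : SL2 K) * (b : SL2 K) = (b : SL2 K) * (g : SL2 K) :=
          (congrArg Subtype.val (Subgroup.mem_center_iff.mp hg b)).symm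
        exact Subtype.ext (ct_sl _ _ _ hns h1 h2)
      have hct := ct_gen L
      have hnc : ∀ g : L, g ∉ Subgroup.center L → ((g : SL2 K) : M2 K).trace ^ 2 ≠ 4 :=
        fun g hg => hss _ g.2 (fun h => hg (sc_center L g h))
      have hn : ∀ g : L, g ∉ Subgroup.center L → Nat.card (nz g) ≤ 2 * Nat.card (cz g) := by
        intro g hg
        by_cases h2 : (2 : K) = 0
        · exact semis_norm2 h2 g (hnc g hg)
        · exact semis_norm h2 g (hnc g hg)
      obtain ⟨g₁, h₁⟩ : ∃ g₁ : L, g₁ ∉ Subgroup.center L := by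
        by_contra hcon
        apply hab
        intro a b
        have ha : a ∈ Subgroup.center L := by
          by_contra h; exact hcon ⟨a, h⟩
        exact (Subgroup.mem_center_iff.mp ha b).symm
      have fin : ∀ n : ℕ, n ≤ 60 → 2 ∣ n → Nat.card L = n * Nat.card (Subgroup.center L) →
          Nat.card L ≤ Fintype.card K * (Fintype.card K - 1) := by
        intro n hn60 hn2 hG
        by_cases h2 : (2 : K) = 0
        · exfalso
          haveI : Fact (Nat.Prime 2) := ⟨Nat.prime_two⟩
          have hdvd : 2 ∣ Nat.card L := by rw [hG]; exact Dvd.dvd.mul_right hn2 _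
          obtain ⟨x, hx⟩ := exists_prime_orderOf_dvd_card' 2 hdvd
          have hx2 : x ^ 2 = 1 := by
            have h := pow_orderOf_eq_one x
            rw [hx] at h
            exact h
          have hx1 : x ≠ 1 := by
            intro h
            rw [h, orderOf_one] at hx
            omega
          have htr : ((x : SL2 K) : M2 K).trace = 2 := by
            by_cases hsx : Sl2Scalar (x : SL2 K)
            · obtain ⟨h01, h10, h00⟩ := hsx
              have h5 := upper_one2 h2 _ h10 h00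
              rw [Matrix.trace_fin_two, ← h00, h5]
              norm_num
            · have h9 : ((x : SL2 K)) ^ 2 = 1 := by
                rw [← Subgroup.coe_pow, hx2]; rfl
              have h8 := sc_sq (x : SL2 K) hsx (by rw [h9]; exact one_scalar)
              rw [h8]; exact h2.symm
          apply hx1
          exact Subtype.ext (hU _ x.2 htr)
        · have hz2 := card_center_le_two_gen h2 L hcen
          have h13 := hq h2
          have hbig : 156 ≤ Fintype.card K * (Fintype.card K - 1) := by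
            calc 156 = 13 * 12 := by norm_num
              _ ≤ Fintype.card K * (Fintype.card K - 1) := Nat.mul_le_mul h13 (by omega)
          rw [hG]
          calc n * Nat.card (Subgroup.center L) ≤ 60 * 2 := Nat.mul_le_mul hn60 hz2
            _ ≤ _ := by omega
      rcases pprime_abs hct hn g₁ h₁ with ⟨g, hg, hle⟩ | h12 | h24 | h60
      · have h5 := card_cz_le L g (hnc g hg)
        omega
      · exact fin 12 (by norm_num) (by norm_num) h12
      · exact fin 24 (by norm_num) (by norm_num) h24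
      · exact fin 60 (by norm_num) (by norm_num) h60

/-- a proper subgroup of `SL₂(q)` has order at most `q (q - 1)` (for `q ≥ 13` odd or `q ≥ 4` even) -/
theorem proper_bound [Fintype K] (L : Subgroup (SL2 K)) (hL : L ≠ ⊤)
    (hq : (2 : K) ≠ 0 → 13 ≤ Fintype.card K) (hq' : 4 ≤ Fintype.card K) :
    Nat.card L ≤ Fintype.card K * (Fintype.card K - 1) := by
  by_cases hU : ∀ x ∈ L, (x : M2 K).trace = 2 → x = 1
  · exact pprime_bound L hU hq hq'
  · obtain ⟨x, hx⟩ := not_forall.mp hU
    obtain ⟨hxL, hx'⟩ := Classical.not_imp.mp hx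
    obtain ⟨hxtr, hx1⟩ := Classical.not_imp.mp hx'
    by_cases hcomm : ∀ y ∈ L, (y : M2 K).trace = 2 → x * y = y * x
    · exact borel_bound L x hxL hxtr hx1 hcomm
    · obtain ⟨y, hy⟩ := not_forall.mp hcomm
      obtain ⟨hyL, hy'⟩ := Classical.not_imp.mp hy
      obtain ⟨hytr, hxy⟩ := Classical.not_imp.mp hy'
      obtain ⟨D, s, t, hs, ht, hDx, hDy⟩ := nfG x y hxtr hytr hxy
      have hcard : Nat.card (L.map (MulAut.conj D).toMonoidHom) = Nat.card L :=
        Subgroup.card_map_of_injective (MulAut.conj D).injective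
      have hL' : L.map (MulAut.conj D).toMonoidHom ≠ ⊤ := by
        intro h
        apply hL
        rw [← Subgroup.card_eq_iff_eq_top, ← hcard, h, Subgroup.card_top]
      have hUm : sl2U s ∈ L.map (MulAut.conj D).toMonoidHom := ⟨x, hxL, hDx⟩
      have hYm : lo t ∈ L.map (MulAut.conj D).toMonoidHom := ⟨y, hyL, hDy⟩
      have S : Setup (L.map (MulAut.conj D).toMonoidHom) s t :=
        ⟨hs, ht, ⟨_, hUm⟩, ⟨_, hYm⟩, rfl, rfl⟩
      rw [← hcard]
      by_cases h2 : (2 : K) = 0
      · haveI : CharP K 2 := CharTwo.of_one_ne_zero_of_two_eq_zero one_ne_zero h2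
        exact setup_bound_even S hL' hq'
      · obtain ⟨p, hp⟩ := CharP.exists K
        haveI := hp
        have hpp : p.Prime := CharP.char_is_prime K p
        haveI : Fact p.Prime := ⟨hpp⟩
        have hp2 : p ≠ 2 := by
          rintro rfl
          apply h2
          have h5 : ((2 : ℕ) : K) = 0 := CharP.cast_eq_zero K 2
          exact_mod_cast h5
        exact setup_bound_odd p hp2 S hL' (hq h2)

end boundfin

section borelsub

variable {K : Type*} [Field K]

/-- the upper triangular subgroup of `SL₂` -/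
def borel (K : Type*) [Field K] : Subgroup (SL2 K) where
  carrier := {g | (g : M2 K) 1 0 = 0}
  mul_mem' := by
    intro a b ha hb
    have ha' : (a : M2 K) 1 0 = 0 := ha
    have hb' : (b : M2 K) 1 0 = 0 := hb
    show ((a * b : SL2 K) : M2 K) 1 0 = 0
    rw [mul10, ha', hb']; ring
  one_mem' := one10
  inv_mem' := by
    intro a ha
    have ha' : (a : M2 K) 1 0 = 0 := ha
    show ((a⁻¹ : SL2 K) : M2 K) 1 0 = 0
    rw [inv10, ha', neg_zero]

theorem mem_borel {g : SL2 K} : g ∈ borel K ↔ (g : M2 K) 1 0 = 0 := Iff.rfl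

/-- the element `[[a, b], [0, a⁻¹]]` -/
def borelMk (a : Kˣ) (b : K) : SL2 K :=
  sl2mk (a : K) b 0 ((a : K)⁻¹) (by rw [mul_zero, sub_zero, mul_inv_cancel₀ a.ne_zero])

theorem borelMk_mem (a : Kˣ) (b : K) : borelMk a b ∈ borel K := by
  show ((borelMk a b : SL2 K) : M2 K) 1 0 = 0
  rfl

theorem card_borel [Fintype K] :
    Nat.card (borel K) = Fintype.card K * (Fintype.card K - 1) := by
  classical
  apply le_antisymm (card_le_of_upper _ (fun g hg => hg))
  have hinj : Function.Injective (fun p : Kˣ × K =>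
      (⟨borelMk p.1 p.2, borelMk_mem p.1 p.2⟩ : borel K)) := by
    rintro ⟨a, b⟩ ⟨a', b'⟩ h
    have h1 := congrArg (fun g : borel K => ((g : SL2 K) : M2 K) 0 0) h
    have h2 := congrArg (fun g : borel K => ((g : SL2 K) : M2 K) 0 1) h
    have h1' : (a : K) = (a' : K) := h1
    have h2' : b = b' := h2
    exact Prod.ext (Units.ext h1') h2'
  have h5 := Nat.card_le_card_of_injective _ hinj
  rw [Nat.card_prod, Nat.card_eq_fintype_card (α := Kˣ), Nat.card_eq_fintype_card (α := K),
    Fintype.card_units] at h5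
  rw [mul_comm]; exact h5

theorem min_index [Fintype K] (hq : (2 : K) ≠ 0 → 13 ≤ Fintype.card K)
    (hq' : 4 ≤ Fintype.card K)
    (H : Subgroup (Matrix.ProjectiveSpecialLinearGroup (Fin 2) K)) (hH : H ≠ ⊤) :
    Fintype.card K + 1 ≤ H.index := by
  have hidx : (H.comap pr).index = H.index := Subgroup.index_comap_of_surjective H pr_surj
  have hL : H.comap pr ≠ ⊤ := by
    intro h
    apply hH
    rw [← Subgroup.map_comap_eq_self_of_surjective pr_surj H, h]
    exact Subgroup.map_top_of_surjective pr pr_surj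
  have hb := proper_bound (H.comap pr) hL hq hq'
  have hmul := (H.comap pr).index_mul_card
  rw [hidx, sl2_card] at hmul
  by_contra hlt
  have hle : H.index ≤ Fintype.card K := by omega
  obtain ⟨m, hm⟩ : ∃ m, Fintype.card K = m + 1 := ⟨Fintype.card K - 1, by omega⟩
  have hm1 : 1 ≤ m := by omega
  rw [hm] at hmul hb hle
  have e1 : m + 1 - 1 = m := by omega
  have e2 : (m + 1) ^ 2 - 1 = m * (m + 2) := by
    have : (m + 1) ^ 2 = m * (m + 2) + 1 := by ring
    omega
  rw [e1] at hb
  rw [e2] at hmul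
  have h5 : (m + 1) * (m * (m + 2)) ≤ (m + 1) * ((m + 1) * m) := by
    rw [← hmul]
    exact Nat.mul_le_mul hle hb
  have h6 : m * (m + 2) ≤ (m + 1) * m := Nat.le_of_mul_le_mul_left h5 (by omega)
  nlinarith

theorem exists_index [Fintype K] (hq' : 2 ≤ Fintype.card K) :
    ∃ H : Subgroup (Matrix.ProjectiveSpecialLinearGroup (Fin 2) K),
      H.index = Fintype.card K + 1 := by
  refine ⟨(borel K).map pr, ?_⟩
  have hker : (pr : SL2 K →* _).ker ≤ borel K := by
    intro g hg
    have hc : g ∈ Subgroup.center (SL2 K) := by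
      have h5 : (pr : SL2 K →* _).ker = Subgroup.center (SL2 K) := QuotientGroup.ker_mk' _
      rw [← h5]; exact hg
    have h6 := Subgroup.mem_center_iff.mp hc (sl2U 1)
    exact ((sl2U_comm_iff one_ne_zero g).mp h6.symm).1
  rw [Subgroup.index_map_eq _ pr_surj hker]
  have hmul := (borel K).index_mul_card
  rw [card_borel, sl2_card] at hmul
  obtain ⟨m, hm⟩ : ∃ m, Fintype.card K = m + 1 := ⟨Fintype.card K - 1, by omega⟩
  rw [hm] at hmul ⊢
  have e1 : m + 1 - 1 = m := by omega
  have e2 : (m + 1) ^ 2 - 1 = m * (m + 2) := by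
    have : (m + 1) ^ 2 = m * (m + 2) + 1 := by ring
    omega
  rw [e1, e2] at hmul
  have hpos : 0 < (m + 1) * m := Nat.mul_pos (by omega) (by omega)
  apply Nat.eq_of_mul_eq_mul_right hpos
  rw [hmul]; ring

end borelsub

end Cfsg.Agent.Helper18.Dickson
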