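import Mathlib
import Cfsg.Agent.Helper18.DicksonTorus1

set_option autoImplicit false

namespace Cfsg.Agent.Helper18.Dickson

open Matrix Cfsg.Agent.Helper12 Cfsg.Agent.Helper18.OutPSL2

local notation "SL2" => Matrix.SpecialLinearGroup (Fin 2)
local notation "M2" => Matrix (Fin 2) (Fin 2)

section torusmat

variable {K : Type*} [Field K]

theorem tr_inv (g : SL2 K) : ((g⁻¹ : SL2 K) : M2 K).trace = (g : M2 K).trace := by
  rw [Matrix.SpecialLinearGroup.coe_inv, Matrix.adjugate_fin_two, Matrix.trace_fin_two_of,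
    Matrix.trace_fin_two, add_comm]

theorem one_tr : ((1 : SL2 K) : M2 K).trace = 2 := by
  rw [Matrix.trace_fin_two, one00]
  have h : ((1 : SL2 K) : M2 K) 1 1 = 1 := by simp
  rw [h]; norm_num

theorem upper_comm_tr (A B : SL2 K) (hA : (A : M2 K) 1 0 = 0) (hB : (B : M2 K) 1 0 = 0) :
    ((A * B * A⁻¹ * B⁻¹ : SL2 K) : M2 K).trace = 2 := by
  obtain ⟨a, b, c, d, hAm, hdetA⟩ := sl2_eta A
  obtain ⟨a', b', c', d', hBm, hdetB⟩ := sl2_eta B
  rw [hAm] at hA
  rw [hBm] at hB
  have hc : c = 0 := hA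
  have hc' : c' = 0 := hB
  subst hc hc'
  rw [Matrix.SpecialLinearGroup.coe_mul, Matrix.SpecialLinearGroup.coe_mul,
    Matrix.SpecialLinearGroup.coe_mul, Matrix.SpecialLinearGroup.coe_inv,
    Matrix.SpecialLinearGroup.coe_inv, hAm, hBm, Matrix.adjugate_fin_two_of,
    Matrix.adjugate_fin_two_of, Matrix.mul_fin_two, Matrix.mul_fin_two, Matrix.mul_fin_two,
    Matrix.trace_fin_two_of]
  linear_combination (2 * a' * d') * hdetA + 2 * hdetB

theorem borel_struct (L : Subgroup (SL2 K)) (x : SL2 K) (hxL : x ∈ L)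
    (hx : (x : M2 K).trace = 2) (hx1 : x ≠ 1)
    (hcomm : ∀ y ∈ L, (y : M2 K).trace = 2 → x * y = y * x) :
    ∃ D : SL2 K, ∀ g ∈ L, ((D * g * D⁻¹ : SL2 K) : M2 K) 1 0 = 0 := by
  obtain ⟨D, s, hs, hD⟩ := unip_conj x hx hx1
  refine ⟨D, ?_⟩
  intro g hg
  have hy : x * (g * x * g⁻¹) = (g * x * g⁻¹) * x :=
    hcomm _ (L.mul_mem (L.mul_mem hg hxL) (L.inv_mem hg)) (by rw [sl2_trace_conj, hx])
  have hc2 : (D * g * D⁻¹) * sl2U s * (D * g * D⁻¹)⁻¹ * sl2U s =
      sl2U s * ((D * g * D⁻¹) * sl2U s * (D * g * D⁻¹)⁻¹) := by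
    rw [← hD]
    have e1 : D * g * D⁻¹ * (D * x * D⁻¹) * (D * g * D⁻¹)⁻¹ * (D * x * D⁻¹) =
        D * ((g * x * g⁻¹) * x) * D⁻¹ := by group
    have e2 : D * x * D⁻¹ * (D * g * D⁻¹ * (D * x * D⁻¹) * (D * g * D⁻¹)⁻¹) =
        D * (x * (g * x * g⁻¹)) * D⁻¹ := by group
    rw [e1, e2, hy]
  have h10 := ((sl2U_comm_iff hs _).mp hc2).1
  rw [conj10 _ _ (sl2U_10 s) (sl2U_00 s) (sl2U_11 s), sl2U_01] at h10
  have h11 : s * ((D * g * D⁻¹ : SL2 K) : M2 K) 1 0 ^ 2 = 0 := neg_eq_zero.mp h10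
  rcases mul_eq_zero.mp h11 with h | h
  · exact absurd h hs
  · exact (pow_eq_zero_iff two_ne_zero).mp h

theorem not_borel (D c w₀ : SL2 K) (h1 : ((D * c * D⁻¹ : SL2 K) : M2 K) 1 0 = 0)
    (h2 : ((D * w₀ * D⁻¹ : SL2 K) : M2 K) 1 0 = 0)
    (hss : (c : M2 K).trace ^ 2 ≠ 4) (hinv : w₀ * c * w₀⁻¹ = c⁻¹) : False := by
  apply hss
  have h3 := upper_comm_tr (D * w₀ * D⁻¹) (D * c * D⁻¹) h2 h1
  have e : D * w₀ * D⁻¹ * (D * c * D⁻¹) * (D * w₀ * D⁻¹)⁻¹ * (D * c * D⁻¹)⁻¹ =
      D * (w₀ * c * w₀⁻¹ * c⁻¹) * D⁻¹ := by group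
  rw [e, sl2_trace_conj, hinv] at h3
  have h4 : c⁻¹ * c⁻¹ = (c⁻¹) ^ 2 := (pow_two _).symm
  rw [h4, sq_tr, tr_inv] at h3
  linear_combination h3

theorem inv_noncomm (c w₀ : SL2 K) (hss : (c : M2 K).trace ^ 2 ≠ 4)
    (hinv : w₀ * c * w₀⁻¹ = c⁻¹) : w₀ * c ≠ c * w₀ := by
  intro h
  have h1 : c⁻¹ = c := by rw [← hinv, h]; group
  apply hss
  have h2 : c ^ 2 = 1 := by
    rw [pow_two]
    calc c * c = c⁻¹ * c := by rw [h1]
      _ = 1 := inv_mul_cancel c
  have h3 := sq_tr c
  rw [h2, one_tr] at h3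
  linear_combination -h3

theorem inv_tr_zero (c w : SL2 K) (hinv : w * c * w⁻¹ = c⁻¹) (hnc : w * c ≠ c * w) :
    (w : M2 K).trace = 0 := by
  by_contra ht
  apply hnc
  have h1 : w * c = c⁻¹ * w := by rw [← hinv]; group
  have h2 : w * c⁻¹ = c * w := by
    have e : w * c⁻¹ * w⁻¹ = (w * c * w⁻¹)⁻¹ := by group
    have e2 : w * c⁻¹ * w⁻¹ = c := by rw [e, hinv, inv_inv]
    calc w * c⁻¹ = w * c⁻¹ * w⁻¹ * w := by group
      _ = c * w := by rw [e2]
  have h3 : w * w * c = c * (w * w) := by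
    calc w * w * c = w * (w * c) := by group
      _ = w * (c⁻¹ * w) := by rw [h1]
      _ = (w * c⁻¹) * w := by group
      _ = c * w * w := by rw [h2]
      _ = c * (w * w) := by group
  rw [sl2_mul_eq_iff] at h3 ⊢
  rw [Matrix.SpecialLinearGroup.coe_mul, sl2_cayley w] at h3
  have h4 : (w : M2 K).trace • ((w : M2 K) * (c : M2 K) - (c : M2 K) * (w : M2 K)) = 0 := by
    have e1 : ((w : M2 K).trace • (w : M2 K) - 1) * (c : M2 K) =
        (w : M2 K).trace • ((w : M2 K) * (c : M2 K)) - (c : M2 K) := by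
      rw [sub_mul, Matrix.smul_mul, one_mul]
    have e2 : (c : M2 K) * ((w : M2 K).trace • (w : M2 K) - 1) =
        (w : M2 K).trace • ((c : M2 K) * (w : M2 K)) - (c : M2 K) := by
      rw [mul_sub, Matrix.mul_smul, mul_one]
    rw [e1, e2] at h3
    rw [smul_sub, sub_eq_zero]
    exact sub_left_injective h3
  rcases smul_eq_zero.mp h4 with h | h
  · exact absurd h ht
  · exact sub_eq_zero.mp h

theorem pprime_ss (L : Subgroup (SL2 K))
    (hU : ∀ x ∈ L, (x : M2 K).trace = 2 → x = 1) :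
    ∀ g ∈ L, ¬ Sl2Scalar g → (g : M2 K).trace ^ 2 ≠ 4 := by
  intro g hg hns htr
  have h5 : ((g : M2 K).trace - 2) * ((g : M2 K).trace + 2) = 0 := by linear_combination htr
  rcases mul_eq_zero.mp h5 with h | h
  · apply hns
    rw [hU g hg (by linear_combination h)]
    exact one_scalar
  · have htr2 : (g : M2 K).trace = -2 := by linear_combination h
    have h6 : ((g ^ 2 : SL2 K) : M2 K).trace = 2 := by
      rw [sq_tr, htr2]; ring
    have h7 := hU (g ^ 2) (L.pow_mem hg 2) h6
    have h8 := sc_sq g hns (by rw [h7]; exact one_scalar)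
    apply hns
    rw [hU g hg (by linear_combination 2 * h8 - htr2)]
    exact one_scalar

variable {L : Subgroup (SL2 K)} {s t : K}

theorem cz_le_bruhat [Finite K] (S : Setup L s t) (g : L)
    (hss : ((g : SL2 K) : M2 K).trace ^ 2 ≠ 4) :
    Nat.card (cz g) ≤ Nat.card (Subgroup.center L) * (BU L).index ∨
      Nat.card (cz g) ≤ Nat.card (Subgroup.center L) * (Nat.card (PU L) - 1) := by
  have hct := ct_L S
  by_cases h : ∃ x : L, ∃ c ∈ cz g, c ∉ Subgroup.center L ∧ x⁻¹ * c * x ∈ BU L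
  · right
    obtain ⟨x, c, hc, hcc, hcB⟩ := h
    have hg'ss : (((x⁻¹ * g * x : L) : SL2 K) : M2 K).trace ^ 2 ≠ 4 := by
      have e := sl2_trace_conj ((x : SL2 K)⁻¹) (g : SL2 K)
      rw [inv_inv] at e
      have e' : (((x⁻¹ * g * x : L) : SL2 K) : M2 K).trace = ((g : SL2 K) : M2 K).trace := e
      rw [e']; exact hss
    have hc'c : x⁻¹ * c * x ∉ Subgroup.center L := by
      have h5 := conj_not_center hcc x⁻¹
      rw [inv_inv] at h5; exact h5
    have hcomm : Commute (x⁻¹ * c * x) (x⁻¹ * g * x) := by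
      have h5 := comm_conj (mem_cz.mp hc) x⁻¹
      rw [inv_inv] at h5; exact h5
    have hg'U : x⁻¹ * g * x ∉ cz S.U := by
      intro h5
      rw [mem_cz, comm_sub, S.hU] at h5
      exact hg'ss (comm_U_tr S.hs _ h5)
    have hc10 := mem_BU.mp hcB
    have hcne : (((x⁻¹ * c * x : L) : SL2 K) : M2 K) 0 0 ≠
        (((x⁻¹ * c * x : L) : SL2 K) : M2 K) 1 1 := by
      intro heq
      apply hg'U
      have h6 : x⁻¹ * c * x ∈ cz S.U := (czU_iff S _).mpr ⟨hc10, heq⟩
      have h7 : Commute S.U (x⁻¹ * g * x) :=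
        hct S.U (x⁻¹ * c * x) (x⁻¹ * g * x) hc'c (mem_cz.mp h6).symm hcomm
      exact mem_cz.mpr h7.symm
    have hg'B : x⁻¹ * g * x ∈ BU L := by
      have h5 := hcomm
      rw [comm_sub] at h5
      exact mem_BU.mpr (comm_upper10 _ _ hc10 hcne h5.symm)
    have hg'ne : (((x⁻¹ * g * x : L) : SL2 K) : M2 K) 0 0 ≠
        (((x⁻¹ * g * x : L) : SL2 K) : M2 K) 1 1 :=
      fun heq => hg'U ((czU_iff S _).mpr ⟨mem_BU.mp hg'B, heq⟩)
    obtain ⟨-, hC2⟩ := card_cz_upper S (x⁻¹ * g * x) hg'B hg'ne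
    have e := card_cz_conj g x⁻¹
    rw [inv_inv] at e
    rw [← e]; exact hC2
  · left
    have hle : cz g ⊓ BU L ≤ Subgroup.center L := by
      intro c hc
      by_contra hcc
      exact h ⟨1, c, hc.1, hcc, by rw [inv_one, one_mul, mul_one]; exact hc.2⟩
    have h1 := Subgroup.card_le_of_le hle
    have h2 := ((BU L).subgroupOf (cz g)).index_mul_card
    have h3 : Nat.card ((BU L).subgroupOf (cz g)) = Nat.card (cz g ⊓ BU L : Subgroup L) := by
      rw [← Subgroup.inf_subgroupOf_left (BU L) (cz g)]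
      exact Nat.card_congr (Subgroup.subgroupOfEquivOfLe inf_le_left).toEquiv
    have h4 : ((BU L).subgroupOf (cz g)).index ≤ (BU L).index := by
      have h5 := Subgroup.relIndex_le_of_le_right (H := BU L) (K := cz g) (L := ⊤) le_top
        (by rw [Subgroup.relIndex_top_right]; exact Subgroup.index_ne_zero_of_finite)
      rw [Subgroup.relIndex_top_right] at h5
      exact h5
    calc Nat.card (cz g)
        = ((BU L).subgroupOf (cz g)).index * Nat.card ((BU L).subgroupOf (cz g)) := h2.symm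
      _ ≤ (BU L).index * Nat.card (Subgroup.center L) :=
          Nat.mul_le_mul h4 (by rw [h3]; exact h1)
      _ = _ := mul_comm _ _

theorem even_a2_mod [Fintype K] [CharP K 2] (S : Setup L s t) (ha2 : Nat.card (PU L) = 2) :
    ∃ r : ℕ, Nat.card L = 2 * (1 + r * 2) := by
  have h2 : (2 : K) = 0 := char2_two_eq_zero
  obtain ⟨a, z, B, G, kU, hh, r, ha, hz, hBd, hGd, hkUd, ha2', hpa, hz1, hh1, hr1, hB, hcompl,
    hG, hnd, hkU⟩ := base_counts2' S
  have hz1' : z = 1 := by rw [← hz]; exact card_center2 h2 S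
  have haeq : a = 2 := by rw [← ha]; exact ha2
  subst hz1' haeq
  have hBc : ∀ g ∈ BU L, g ∈ cz S.U := by
    intro g₀ hg₀B
    by_contra hg₀c
    have hg10 := mem_BU.mp hg₀B
    have hne : ((g₀ : SL2 K) : M2 K) 0 0 ≠ ((g₀ : SL2 K) : M2 K) 1 1 :=
      fun h => hg₀c ((czU_iff S g₀).mpr ⟨hg10, h⟩)
    obtain ⟨hC1, hC2⟩ := card_cz_upper S g₀ hg₀B hne
    rw [hz, ha] at hC2
    have hbot : cz g₀ ≠ ⊥ := by
      intro hb
      have hmem : g₀ ∈ cz g₀ := mem_cz.mpr (Commute.refl g₀)
      rw [hb, Subgroup.mem_bot] at hmem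
      apply hne
      rw [hmem]
      simp
    have h5 := (cz g₀).one_lt_card_iff_ne_bot.mpr hbot
    omega
  have hBeq : B = 2 := by
    have h5 : BU L = cz S.U := le_antisymm hBc (by rw [← nzU_eq S]; exact cz_le_nz _)
    rw [← hBd, h5, card_czU2 h2 S, hz, ha]
  subst hBeq
  exact ⟨r, by rw [hGd]; exact hG⟩

theorem torus_setup_bound [Fintype K] (S : Setup L s t)
    (hL : L ≠ ⊤) (c : L) (hss : ((c : SL2 K) : M2 K).trace ^ 2 ≠ 4)
    (m : ℕ) (hord : orderOf c = m) (hm1 : Fintype.card K - 1 ≤ m)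
    (hm2 : m ≤ Fintype.card K + 1)
    (hq : (2 : K) ≠ 0 → 11 ≤ Fintype.card K ∧ 11 ≤ m) (hq' : 4 ≤ Fintype.card K) :
    Nat.card L ≤ 2 * m := by
  have hmpos : 0 < m := by rw [← hord]; exact orderOf_pos c
  have hmdvd : m ∣ Nat.card L := by rw [← hord]; exact orderOf_dvd_natCard c
  have hczc : m ≤ Nat.card (cz c) := by
    have h5 := Subgroup.card_le_of_le (Subgroup.zpowers_le.mpr (mem_cz.mpr (Commute.refl c)))
    rw [Nat.card_zpowers, hord] at h5
    exact h5
  obtain ⟨p, hp⟩ := CharP.exists K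
  haveI := hp
  obtain ⟨n, hpp, hcard⟩ := FiniteField.card K p
  haveI : Fact p.Prime := ⟨hpp⟩
  have ha2 := two_le_PU S
  by_cases h2 : (2 : K) = 0
  · have hp2 : p = 2 := by
      have h5 : ((2 : ℕ) : K) = 0 := by exact_mod_cast h2
      have h6 := (CharP.cast_eq_zero_iff K p 2).mp h5
      exact (Nat.prime_dvd_prime_iff_eq hpp Nat.prime_two).mp h6
    subst hp2
    have hz1 := card_center2 h2 S
    by_cases ha4 : 4 ≤ Nat.card (PU L)
    · exfalso
      have hBr := struct2 S ha4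
      have hδ : sl2U (2 / t) ∈ L := by
        rw [h2, zero_div, sl2U_zero]; exact L.one_mem
      have hsq := bruhat_sq S hBr hδ (fun A h1 hinv => hua_mul2 h2 A h1 hinv) hL
      have hG := bruhat_card S hBr
      have hidx : (BU L).index ≤ 1 + Nat.card (PU L) := by
        have hG' : Nat.card (BU L) * (BU L).index ≤
            Nat.card (BU L) * (1 + Nat.card (PU L)) := by
          rw [Subgroup.card_mul_index]; exact hG
        exact Nat.le_of_mul_le_mul_left hG' Nat.card_pos
      have h4a : 4 * Nat.card (PU L) ≤ Nat.card (PU L) * Nat.card (PU L) :=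
        Nat.mul_le_mul_right _ ha4
      rcases cz_le_bruhat S c hss with h | h
      · rw [hz1, one_mul] at h
        omega
      · rw [hz1, one_mul] at h
        omega
    · have ha2' : Nat.card (PU L) = 2 := by
        have hUP : S.U ∈ PU L := ⟨U10 S, U00 S⟩
        have hordU : orderOf S.U = 2 := by
          rw [← Subgroup.orderOf_coe, S.hU]
          exact orderOf_sl2U 2 S.hs
        have hpa : 2 ∣ Nat.card (PU L) := by
          have h6 := Subgroup.orderOf_dvd_natCard (PU L) hUP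
          rw [hordU] at h6
          exact h6
        omega
      have hG1 := even_a2 S ha2'
      obtain ⟨r, hr⟩ := even_a2_mod S ha2'
      obtain ⟨k, hk⟩ := hmdvd
      have hqe : 2 ∣ Fintype.card K := by
        rw [hcard]; exact dvd_pow_self 2 (PNat.ne_zero n)
      have hk2 : k ≤ 2 := by
        by_contra hk3
        have h3 : m * 3 ≤ m * k := Nat.mul_le_mul_left m (by omega)
        have hq7 : Fintype.card K ≤ 7 := by omega
        have hm3 : 3 ≤ m := by omega
        have hk5 : k ≤ 5 := by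
          by_contra hk6
          have h6 : m * 6 ≤ m * k := Nat.mul_le_mul_left m (by omega)
          omega
        have hk35 : k = 3 ∨ k = 4 ∨ k = 5 := by omega
        rcases hk35 with rfl | rfl | rfl <;> omega
      rw [hk]
      calc m * k ≤ m * 2 := Nat.mul_le_mul_left m hk2
        _ = 2 * m := mul_comm _ _
  · have hp2 : p ≠ 2 := by
      rintro rfl
      apply h2
      have h5 : ((2 : ℕ) : K) = 0 := CharP.cast_eq_zero K 2
      exact_mod_cast h5
    obtain ⟨h11, hm11⟩ := hq h2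
    have hz2 := card_center_le_two h2 S
    have hpa : p ∣ Nat.card (PU L) := by
      have hUP : S.U ∈ PU L := ⟨U10 S, U00 S⟩
      have hordU : orderOf S.U = p := by
        rw [← Subgroup.orderOf_coe, S.hU]
        exact orderOf_sl2U p S.hs
      rw [← hordU]
      exact Subgroup.orderOf_dvd_natCard _ hUP
    have h27 : p = 3 → 27 ≤ 3 ^ (n : ℕ) := by
      intro hp3
      have hn3 : 3 ≤ (n : ℕ) := by
        by_contra hlt
        have hn2 : (n : ℕ) ≤ 2 := by omega
        have h9 : 3 ^ (n : ℕ) ≤ 3 ^ 2 := Nat.pow_le_pow_right (by norm_num) hn2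
        rw [hcard, hp3] at h11
        omega
      calc 27 = 3 ^ 3 := by norm_num
        _ ≤ 3 ^ (n : ℕ) := Nat.pow_le_pow_right (by norm_num) hn3
    rcases struct_cases p hp2 S with ⟨ha, hG⟩ | hBr | ⟨ha, hG, h3, g, hg⟩
    · exfalso
      have hp3 : p = 3 := by
        rw [ha] at hpa
        exact (Nat.prime_dvd_prime_iff_eq hpp Nat.prime_three).mp hpa
      have h27' := h27 hp3
      rw [hcard, hp3] at hm1
      have hmG := Nat.le_of_dvd Nat.card_pos hmdvd
      omega
    · exfalso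
      have hYL : lo t ∈ L := by rw [← S.hY]; exact S.Y.2
      have hδ : sl2U (2 / t) ∈ L := by
        have hYi : lo (-t) ∈ L := by rw [lo_neg_eq_inv]; exact L.inv_mem hYL
        obtain ⟨α, hα, hrel⟩ := bruhat_ratio S hBr (lo (-t)) hYi
          (by rw [lo_10]; exact neg_ne_zero.mpr S.ht)
        rw [lo_00, lo_10] at hrel
        have ht := S.ht
        have hα' : α = -(2 / t) := by
          have h5 : α * t = -2 := by
            apply mul_left_cancel₀ ht
            linear_combination hrel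
          rw [eq_neg_iff_add_eq_zero]
          field_simp
          linear_combination h5
        have h7 : sl2U (-(2 / t)) ∈ L := by rw [← hα']; exact hα
        have h8 := L.inv_mem h7
        rw [← sl2U_neg_eq_inv, neg_neg] at h8
        exact h8
      have hsq := bruhat_sq S hBr hδ (fun A h1 hinv => hua_mul p hp2 A h1 hinv) hL
      have hG := bruhat_card S hBr
      have hidx : (BU L).index ≤ 1 + Nat.card (PU L) := by
        have hG' : Nat.card (BU L) * (BU L).index ≤
            Nat.card (BU L) * (1 + Nat.card (PU L)) := by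
          rw [Subgroup.card_mul_index]; exact hG
        exact Nat.le_of_mul_le_mul_left hG' Nat.card_pos
      rcases cz_le_bruhat S c hss with h | h
      · have h6 : Nat.card (Subgroup.center L) * (BU L).index ≤
            2 * (1 + Nat.card (PU L)) := Nat.mul_le_mul hz2 hidx
        have ha5 : 5 ≤ Nat.card (PU L) := by omega
        have h5a : 5 * Nat.card (PU L) ≤ Nat.card (PU L) * Nat.card (PU L) :=
          Nat.mul_le_mul_right _ ha5
        omega
      · have h6 : Nat.card (Subgroup.center L) * (Nat.card (PU L) - 1) ≤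
            2 * (Nat.card (PU L) - 1) := Nat.mul_le_mul_right _ hz2
        have ha5 : 5 ≤ Nat.card (PU L) := by omega
        have h5a : 5 * Nat.card (PU L) ≤ Nat.card (PU L) * Nat.card (PU L) :=
          Nat.mul_le_mul_right _ ha5
        omega
    · exfalso
      have hp3 : p = 3 := by
        have h5 : ((3 : ℕ) : K) = 0 := by exact_mod_cast h3
        have h6 := (CharP.cast_eq_zero_iff K p 3).mp h5
        exact (Nat.prime_dvd_prime_iff_eq hpp Nat.prime_three).mp h6
      have h27' := h27 hp3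
      rw [hcard, hp3] at hm1 hm2
      obtain ⟨k, hk⟩ := hmdvd
      rw [hG] at hk
      have hzpos : 0 < Nat.card (Subgroup.center L) := Nat.card_pos
      have hkpos : 0 < k := by
        rcases Nat.eq_zero_or_pos k with h0 | h0
        · rw [h0, mul_zero] at hk; omega
        · exact h0
      have hmk : m * 1 ≤ m * k := Nat.mul_le_mul_left m hkpos
      have hn4 : (n : ℕ) ≤ 4 := by
        by_contra hlt
        have hn5 : 5 ≤ (n : ℕ) := by omega
        have h243 : 243 ≤ 3 ^ (n : ℕ) := by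
          calc 243 = 3 ^ 5 := by norm_num
            _ ≤ 3 ^ (n : ℕ) := Nat.pow_le_pow_right (by norm_num) hn5
        omega
      have hn3 : 3 ≤ (n : ℕ) := by
        by_contra hlt
        have hn2 : (n : ℕ) ≤ 2 := by omega
        have h9 : 3 ^ (n : ℕ) ≤ 3 ^ 2 := Nat.pow_le_pow_right (by norm_num) hn2
        omega
      have hk4 : k ≤ 4 := by
        by_contra hk5
        have h5 : m * 5 ≤ m * k := Nat.mul_le_mul_left m (by omega)
        omega
      obtain ⟨z, hz⟩ : ∃ z, Nat.card (Subgroup.center L) = z := ⟨_, rfl⟩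
      rw [hz] at hk hz2 hzpos
      have hn34 : (n : ℕ) = 3 ∨ (n : ℕ) = 4 := by omega
      rcases hn34 with hn | hn
      · rw [hn] at hm1 hm2
        norm_num at hm1 hm2
        interval_cases k <;> interval_cases z <;> omega
      · rw [hn] at hm1 hm2
        norm_num at hm1 hm2
        interval_cases k <;> interval_cases z <;> omega

theorem torus_norm_bound [Fintype K] (L : Subgroup (SL2 K)) (hL : L ≠ ⊤)
    (c w₀ : SL2 K) (hc : c ∈ L) (hw : w₀ ∈ L)
    (hss : (c : M2 K).trace ^ 2 ≠ 4) (hinv : w₀ * c * w₀⁻¹ = c⁻¹)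
    (m : ℕ) (hord : orderOf c = m) (hm1 : Fintype.card K - 1 ≤ m)
    (hm2 : m ≤ Fintype.card K + 1)
    (hq : (2 : K) ≠ 0 → 11 ≤ Fintype.card K ∧ 11 ≤ m) (hq' : 4 ≤ Fintype.card K) :
    Nat.card L ≤ 2 * m := by
  classical
  have hnc := inv_noncomm c w₀ hss hinv
  have hoL : orderOf (⟨c, hc⟩ : L) = m := by rw [Subgroup.orderOf_mk]; exact hord
  have hmdvd : m ∣ Nat.card L := by rw [← hoL]; exact orderOf_dvd_natCard _
  by_cases hU : ∀ x ∈ L, (x : M2 K).trace = 2 → x = 1
  · by_cases h2 : (2 : K) = 0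
    · exfalso
      have htw := inv_tr_zero c w₀ hinv hnc
      have h5 := hU w₀ hw (by rw [htw]; exact h2.symm)
      apply hnc
      rw [h5, one_mul, mul_one]
    · obtain ⟨h11, hm11⟩ := hq h2
      have hcen : ∀ g : L, g ∈ Subgroup.center L → Sl2Scalar (g : SL2 K) := by
        intro g hg
        by_contra hns
        apply hnc
        have h1 : w₀ * (g : SL2 K) = (g : SL2 K) * w₀ :=
          congrArg Subtype.val (Subgroup.mem_center_iff.mp hg ⟨w₀, hw⟩)
        have h2' : (g : SL2 K) * c = c * (g : SL2 K) :=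
          (congrArg Subtype.val (Subgroup.mem_center_iff.mp hg ⟨c, hc⟩)).symm
        exact ct_sl _ _ _ hns h1 h2'
      have hct := ct_gen L
      have hss' := pprime_ss L hU
      have hnc' : ∀ g : L, g ∉ Subgroup.center L → ((g : SL2 K) : M2 K).trace ^ 2 ≠ 4 :=
        fun g hg => hss' _ g.2 (fun h => hg (sc_center L g h))
      have hn : ∀ g : L, g ∉ Subgroup.center L → Nat.card (nz g) ≤ 2 * Nat.card (cz g) :=
        fun g hg => semis_norm h2 g (hnc' g hg)
      have hcL : (⟨c, hc⟩ : L) ∉ Subgroup.center L := by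
        intro h
        apply hnc
        exact congrArg Subtype.val (Subgroup.mem_center_iff.mp h ⟨w₀, hw⟩)
      have hczc : m ≤ Nat.card (cz (⟨c, hc⟩ : L)) := by
        have h5 := Subgroup.card_le_of_le
          (Subgroup.zpowers_le.mpr (mem_cz.mpr (Commute.refl (⟨c, hc⟩ : L))))
        rw [Nat.card_zpowers, hoL] at h5
        exact h5
      rcases pprime_abs2 hct hn ⟨c, hc⟩ hcL with ⟨g, hg, hle⟩ | ⟨h60, hall⟩
      · have h5 := card_cz_le L g (hnc' g hg)
        obtain ⟨k, hk⟩ := hmdvd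
        rw [hk] at hle ⊢
        have hk2 : k ≤ 2 := by
          by_contra hk3
          have h3 : m * 3 ≤ m * k := Nat.mul_le_mul_left m (by omega)
          omega
        calc m * k ≤ m * 2 := Nat.mul_le_mul_left m hk2
          _ = 2 * m := mul_comm _ _
      · exfalso
        have h5 := hall ⟨c, hc⟩ hcL
        have hz2 := card_center_le_two_gen h2 L hcen
        omega
  · obtain ⟨x, hx⟩ := not_forall.mp hU
    obtain ⟨hxL, hx'⟩ := Classical.not_imp.mp hx
    obtain ⟨hxtr, hx1⟩ := Classical.not_imp.mp hx'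
    by_cases hcomm : ∀ y ∈ L, (y : M2 K).trace = 2 → x * y = y * x
    · exfalso
      obtain ⟨D, hD⟩ := borel_struct L x hxL hxtr hx1 hcomm
      exact not_borel D c w₀ (hD c hc) (hD w₀ hw) hss hinv
    · obtain ⟨y, hy⟩ := not_forall.mp hcomm
      obtain ⟨hyL, hy'⟩ := Classical.not_imp.mp hy
      obtain ⟨hytr, hxy⟩ := Classical.not_imp.mp hy'
      obtain ⟨D, s, t, hs, ht, hDx, hDy⟩ := nfG x y hxtr hytr hxy
      have hcard : Nat.card (L.map (MulAut.conj D).toMonoidHom) = Nat.card L :=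
        Subgroup.card_map_of_injective (MulAut.conj D).injective
      have hL' : L.map (MulAut.conj D).toMonoidHom ≠ ⊤ := by
        intro h
        apply hL
        rw [← Subgroup.card_eq_iff_eq_top, ← hcard, h, Subgroup.card_top]
      have hUm : sl2U s ∈ L.map (MulAut.conj D).toMonoidHom := ⟨x, hxL, hDx⟩
      have hYm : lo t ∈ L.map (MulAut.conj D).toMonoidHom := ⟨y, hyL, hDy⟩
      have S : Setup (L.map (MulAut.conj D).toMonoidHom) s t :=
        ⟨hs, ht, ⟨_, hUm⟩, ⟨_, hYm⟩, rfl, rfl⟩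
      have hcm : D * c * D⁻¹ ∈ L.map (MulAut.conj D).toMonoidHom := ⟨c, hc, rfl⟩
      have hord' : orderOf (⟨D * c * D⁻¹, hcm⟩ : L.map (MulAut.conj D).toMonoidHom) = m := by
        rw [Subgroup.orderOf_mk, ← hord]
        exact MulEquiv.orderOf_eq (MulAut.conj D) c
      rw [← hcard]
      exact torus_setup_bound S hL' ⟨D * c * D⁻¹, hcm⟩
        (by
          show ((D * c * D⁻¹ : SL2 K) : M2 K).trace ^ 2 ≠ 4
          rw [sl2_trace_conj]; exact hss)
        m hord' hm1 hm2 hq hq'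

end torusmat

end Cfsg.Agent.Helper18.Dickson
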