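import Mathlib
import Cfsg.Agent.Helper18.DicksonTorus2
import Cfsg.Agent.Helper12.SL2Orders
import Cfsg.Agent.Helper12.SL2Card
import Cfsg.Agent.Helper12.PSL2
import Cfsg.Agent.S0444
import Cfsg.Agent.S2388

set_option autoImplicit false

namespace Cfsg.Agent.Helper18.Dickson

open Matrix Cfsg.Agent.Helper12 Cfsg.Agent.Helper18.OutPSL2

local notation "SL2" => Matrix.SpecialLinearGroup (Fin 2)
local notation "M2" => Matrix (Fin 2) (Fin 2)

section toruscoatom

variable {K : Type*} [Field K]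

theorem tr_zero_sq_center (w : SL2 K) (h : (w : M2 K).trace = 0) :
    w * w ∈ Subgroup.center (SL2 K) := by
  apply sl2Scalar_mem_center
  have h1 : ((w * w : SL2 K) : M2 K) = -1 := by
    rw [Matrix.SpecialLinearGroup.coe_mul, sl2_cayley, h, zero_smul, zero_sub]
  refine ⟨?_, ?_, ?_⟩ <;> rw [h1] <;> simp

theorem pr_eq_one_iff (z : SL2 K) : pr z = 1 ↔ z ∈ Subgroup.center (SL2 K) :=
  QuotientGroup.eq_one_iff z

theorem card_center_sl2_le : Nat.card (Subgroup.center (SL2 K)) ≤ 2 := by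
  have h : Nat.card (Subgroup.center (SL2 K)) = (Subgroup.center (SL2 K) : Set (SL2 K)).ncard :=
    Nat.card_coe_set_eq _
  rw [h]
  have hsub : (Subgroup.center (SL2 K) : Set (SL2 K)) ⊆ {1, sl2NegOne} := by
    intro z hz
    rcases sl2_center_cases z hz with h | h
    · left; exact h
    · right; exact h
  calc (Subgroup.center (SL2 K) : Set (SL2 K)).ncard
      ≤ ({1, sl2NegOne} : Set (SL2 K)).ncard := Set.ncard_le_ncard hsub (Set.toFinite _)
    _ ≤ ({sl2NegOne} : Set (SL2 K)).ncard + 1 := Set.ncard_insert_le _ _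
    _ = 2 := by rw [Set.ncard_singleton]

theorem coatom_of_bound [Finite K] (H : Subgroup (Matrix.ProjectiveSpecialLinearGroup (Fin 2) K))
    (hH : H ≠ ⊤) (N : ℕ) (hN : N ≤ Nat.card (H.comap pr))
    (hb : ∀ L : Subgroup (SL2 K), H.comap pr ≤ L → L ≠ ⊤ → Nat.card L ≤ N) : IsCoatom H := by
  refine ⟨hH, fun H' hlt => ?_⟩
  by_contra hH'
  have hL' : H'.comap pr ≠ ⊤ := by
    intro h
    apply hH'
    rw [← Subgroup.map_comap_eq_self_of_surjective pr_surj H', h]
    exact Subgroup.map_top_of_surjective pr pr_surj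
  have hle : H.comap pr ≤ H'.comap pr := Subgroup.comap_mono hlt.le
  have hcard := hb _ hle hL'
  have heq : H.comap pr = H'.comap pr := Subgroup.eq_of_le_of_card_ge hle (hcard.trans hN)
  have h1 := Subgroup.map_comap_eq_self_of_surjective pr_surj H
  have h2 := Subgroup.map_comap_eq_self_of_surjective pr_surj H'
  have hHH : H = H' := by rw [← h1, ← h2, heq]
  exact hlt.ne hHH

theorem torus_coatom_gen [Fintype K] (c w₀ : SL2 K)
    (hss : (c : M2 K).trace ^ 2 ≠ 4) (hinv : w₀ * c * w₀⁻¹ = c⁻¹)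
    (m : ℕ) (hord : orderOf c = m) (hm2 : m ≤ Fintype.card K + 1) (hq3 : 3 ≤ Fintype.card K)
    (hb : ∀ L : Subgroup (SL2 K), L ≠ ⊤ → c ∈ L → w₀ ∈ L → Nat.card L ≤ 2 * m) :
    ∃ H : Subgroup (Matrix.ProjectiveSpecialLinearGroup (Fin 2) K), IsCoatom H ∧
      Nonempty (H ≃* DihedralGroup (orderOf (pr c))) := by
  classical
  haveI : Finite (Matrix.ProjectiveSpecialLinearGroup (Fin 2) K) :=
    Finite.of_surjective _ (pr_surj (F := K))
  have hnc : w₀ * c ≠ c * w₀ := inv_noncomm c w₀ hss hinv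
  have htr : (w₀ : M2 K).trace = 0 := inv_tr_zero c w₀ hinv hnc
  have hw2 : w₀ * w₀ ∈ Subgroup.center (SL2 K) := tr_zero_sq_center w₀ htr
  have h1 : w₀ * c = c⁻¹ * w₀ := by rw [← hinv]; group
  have hwc : w₀ * c * (w₀ * c) = w₀ * w₀ := by
    calc w₀ * c * (w₀ * c) = w₀ * c * (c⁻¹ * w₀) := by rw [← h1]
      _ = w₀ * w₀ := by group
  have hx2 : pr w₀ * pr w₀ = 1 := by
    rw [← map_mul]; exact (pr_eq_one_iff _).mpr hw2
  have hc1 : pr c ≠ 1 := fun h => hnc (Subgroup.mem_center_iff.mp ((pr_eq_one_iff _).mp h) w₀)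
  have hx1 : pr w₀ ≠ 1 := fun h =>
    hnc (Subgroup.mem_center_iff.mp ((pr_eq_one_iff _).mp h) c).symm
  have hy2 : pr (w₀ * c) * pr (w₀ * c) = 1 := by
    rw [← map_mul, hwc]; exact (pr_eq_one_iff _).mpr hw2
  have hy1 : pr (w₀ * c) ≠ 1 := by
    intro h
    have h2 := Subgroup.mem_center_iff.mp ((pr_eq_one_iff _).mp h) c
    exact hnc (mul_right_cancel (h2.symm.trans (mul_assoc c w₀ c).symm))
  have hxy : pr w₀ ≠ pr (w₀ * c) := by
    intro h
    rw [map_mul] at h
    exact hc1 (mul_eq_left.mp h.symm)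
  have hox : orderOf (pr w₀) = 2 := orderOf_eq_prime (by rw [pow_two]; exact hx2) hx1
  have hoy : orderOf (pr (w₀ * c)) = 2 := orderOf_eq_prime (by rw [pow_two]; exact hy2) hy1
  have hprod : pr w₀ * pr (w₀ * c) = pr c := by
    rw [map_mul, ← mul_assoc, hx2, one_mul]
  obtain ⟨H, hHdef⟩ : ∃ H : Subgroup (Matrix.ProjectiveSpecialLinearGroup (Fin 2) K),
      H = Subgroup.closure {pr w₀, pr (w₀ * c)} := ⟨_, rfl⟩
  have hxH : pr w₀ ∈ H := by
    rw [hHdef]; exact Subgroup.subset_closure (Set.mem_insert _ _)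
  have hyH : pr (w₀ * c) ∈ H := by
    rw [hHdef]; exact Subgroup.subset_closure (Set.mem_insert_of_mem _ (Set.mem_singleton _))
  have hcH : pr c ∈ H := by rw [← hprod]; exact H.mul_mem hxH hyH
  have hiso : Nonempty (H ≃* DihedralGroup (orderOf (pr c))) := by
    haveI : NeZero (orderOf (pr w₀ * pr (w₀ * c))) := ⟨(orderOf_pos _).ne'⟩
    have h := Cfsg.Agent.S0444.dihedral_of_involutions (pr w₀) (pr (w₀ * c)) hox hoy hxy
    rw [hprod, ← hHdef] at h
    exact h
  obtain ⟨e⟩ := hiso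
  have hcardH : Nat.card H = 2 * orderOf (pr c) := by
    rw [Nat.card_congr e.toEquiv, DihedralGroup.nat_card]
  have hdvd : orderOf (pr c) ∣ m := by rw [← hord]; exact orderOf_map_dvd pr c
  have hm0 : 0 < m := by rw [← hord]; exact orderOf_pos c
  have hle : orderOf (pr c) ≤ m := Nat.le_of_dvd hm0 hdvd
  have hHtop : H ≠ ⊤ := by
    intro htop
    have h1 : Nat.card H = Nat.card (Matrix.ProjectiveSpecialLinearGroup (Fin 2) K) := by
      rw [htop, Subgroup.card_top]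
    have h2 := Subgroup.card_eq_card_quotient_mul_card_subgroup (Subgroup.center (SL2 K))
    have h3 := card_center_sl2_le (K := K)
    rw [sl2_card] at h2
    have h4 : Nat.card (SL2 K ⧸ Subgroup.center (SL2 K)) = Nat.card H := h1.symm
    rw [h4, hcardH] at h2
    have h5 : Fintype.card K * (Fintype.card K ^ 2 - 1) ≤ 2 * (Fintype.card K + 1) * 2 := by
      rw [h2]
      exact Nat.mul_le_mul (Nat.mul_le_mul_left 2 (hle.trans hm2)) h3
    generalize Fintype.card K = q at h5 hq3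
    obtain ⟨t, rfl⟩ : ∃ t, q = t + 3 := ⟨q - 3, by omega⟩
    have e2 : (t + 3) ^ 2 - 1 = (t + 2) * (t + 4) := by
      have : (t + 3) ^ 2 = (t + 2) * (t + 4) + 1 := by ring
      omega
    rw [e2] at h5
    nlinarith [Nat.zero_le t, Nat.zero_le (t * t), Nat.zero_le (t * t * t)]
  have hwL : w₀ ∈ H.comap pr := Subgroup.mem_comap.mpr hxH
  have hcL : c ∈ H.comap pr := Subgroup.mem_comap.mpr hcH
  have hN : 2 * m ≤ Nat.card (H.comap pr) := by
    have hz : Subgroup.zpowers c ≤ H.comap pr := by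
      rw [Subgroup.zpowers_le]; exact hcL
    obtain ⟨k, hk⟩ := Subgroup.card_dvd_of_le hz
    rw [Nat.card_zpowers, hord] at hk
    have hk0 : k ≠ 0 := by
      rintro rfl
      rw [mul_zero] at hk
      exact (Nat.card_pos (α := H.comap pr)).ne' hk
    have hk1 : k ≠ 1 := by
      rintro rfl
      rw [mul_one] at hk
      have heq : Subgroup.zpowers c = H.comap pr :=
        Subgroup.eq_of_le_of_card_ge hz (le_of_eq (by rw [hk, Nat.card_zpowers, hord]))
      have hw' : w₀ ∈ Subgroup.zpowers c := by rw [heq]; exact hwL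
      obtain ⟨i, hi⟩ := Subgroup.mem_zpowers_iff.mp hw'
      apply hnc
      rw [← hi]
      exact (Commute.zpow_left (Commute.refl c) i).eq
    rw [hk]
    have hk2 : 2 ≤ k := by omega
    calc 2 * m = m * 2 := mul_comm _ _
      _ ≤ m * k := Nat.mul_le_mul_left m hk2
  refine ⟨H, coatom_of_bound H hHtop (2 * m) hN ?_, ⟨e⟩⟩
  intro L hle' hL
  exact hb L hL (hle' hcL) (hle' hwL)

theorem torus_coatom [Fintype K] (c w₀ : SL2 K)
    (hss : (c : M2 K).trace ^ 2 ≠ 4) (hinv : w₀ * c * w₀⁻¹ = c⁻¹)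
    (m : ℕ) (hord : orderOf c = m) (hm1 : Fintype.card K - 1 ≤ m)
    (hm2 : m ≤ Fintype.card K + 1)
    (hq : (2 : K) ≠ 0 → 11 ≤ Fintype.card K ∧ 11 ≤ m) (hq' : 4 ≤ Fintype.card K) :
    ∃ H : Subgroup (Matrix.ProjectiveSpecialLinearGroup (Fin 2) K), IsCoatom H ∧
      Nonempty (H ≃* DihedralGroup (orderOf (pr c))) :=
  torus_coatom_gen c w₀ hss hinv m hord hm2 (by omega) (fun L hL hc hw =>
    torus_norm_bound L hL c w₀ hc hw hss hinv m hord hm1 hm2 hq hq')

theorem pr_inj_char2 (h2 : (2 : K) = 0) : Function.Injective (pr (F := K)) := by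
  intro X Y h
  have h0 : pr X = pr Y ↔ X⁻¹ * Y ∈ Subgroup.center (SL2 K) := QuotientGroup.eq
  have hker := h0.mp h
  rw [sl2_center_eq_bot_char2 h2, Subgroup.mem_bot] at hker
  exact inv_mul_eq_one.mp hker

theorem sq_one_cases (h2 : (2 : K) ≠ 0) (g : SL2 K) (hg : g ^ 2 = 1) :
    g = 1 ∨ g = sl2NegOne := by
  apply sl2_center_cases
  apply sl2Scalar_mem_center
  by_contra hns
  have htr := sc_sq g hns (by rw [hg]; exact one_scalar)
  have hC := sl2_cayley g
  have h1 : (g : M2 K) * (g : M2 K) = 1 := by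
    rw [← Matrix.SpecialLinearGroup.coe_mul, ← pow_two, hg, Matrix.SpecialLinearGroup.coe_one]
  rw [h1, htr, zero_smul, zero_sub] at hC
  have e := congrFun (congrFun hC 0) 0
  rw [Matrix.neg_apply, Matrix.one_apply_eq] at e
  apply h2
  linear_combination e

theorem orderOf_pr_odd (h2 : (2 : K) ≠ 0) (c : SL2 K) (k : ℕ) (hk : 0 < k)
    (hord : orderOf c = 2 * k) : orderOf (pr c) = k := by
  rw [orderOf_eq_iff hk]
  constructor
  · rw [← map_pow]
    apply (pr_eq_one_iff _).mpr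
    have h1 : (c ^ k) ^ 2 = 1 := by
      rw [← pow_mul, mul_comm, ← hord, pow_orderOf_eq_one]
    have h3 : c ^ k ≠ 1 := pow_ne_one_of_lt_orderOf (by omega) (by omega)
    rcases sq_one_cases h2 _ h1 with h | h
    · exact absurd h h3
    · rw [h]; exact sl2NegOne_mem_center
  · intro j hj hj0 hpow
    rw [← map_pow] at hpow
    have hcen := (pr_eq_one_iff _).mp hpow
    have h1 : (c ^ j) ^ 2 = 1 := by
      rcases sl2_center_cases _ hcen with h | h
      · rw [h, one_pow]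
      · rw [h, pow_two, sl2NegOne_mul_self]
    rw [← pow_mul] at h1
    exact pow_ne_one_of_lt_orderOf (by omega) (by omega) h1

theorem order_pr_div (c : SL2 K) (m d : ℕ) (hord : orderOf c = m) (hm0 : 0 < m)
    (h2 : (2 : K) ≠ 0 → d = 2 ∧ 2 ∣ m) (h2' : (2 : K) = 0 → d = 1) :
    orderOf (pr c) = m / d := by
  by_cases h : (2 : K) = 0
  · rw [h2' h, Nat.div_one, orderOf_injective pr (pr_inj_char2 h), hord]
  · obtain ⟨hd, k, hk⟩ := h2 h
    subst hd
    subst hk
    rw [Nat.mul_div_cancel_left k (by norm_num : 0 < 2)]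
    exact orderOf_pr_odd h c k (by omega) hord

theorem diag_inv (u : Kˣ) : (sl2diag u : SL2 K)⁻¹ = sl2diag u⁻¹ := by
  rw [← sl2diagHom_apply, ← sl2diagHom_apply, map_inv]

theorem wE_diag (u : Kˣ) : wE * sl2diag u * wE⁻¹ = (sl2diag u : SL2 K)⁻¹ := by
  rw [diag_inv, mul_inv_eq_iff_eq_mul]
  apply Subtype.ext
  simp only [Matrix.SpecialLinearGroup.coe_mul, sl2diag_val, wE_val, Matrix.mul_fin_two, inv_inv]
  refine mat2_ext ?_ ?_ ?_ ?_ <;> simp

theorem field_parity [Fintype K] :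
    ((2 : K) ≠ 0 → Odd (Fintype.card K)) ∧ ((2 : K) = 0 → Even (Fintype.card K)) := by
  obtain ⟨p, hpK⟩ := CharP.exists K
  haveI := hpK
  obtain ⟨n, hpp, hcard⟩ := FiniteField.card K p
  constructor
  · intro h2
    have hp2 : p ≠ 2 := by
      rintro rfl
      apply h2
      have h5 : ((2 : ℕ) : K) = 0 := CharP.cast_eq_zero K 2
      exact_mod_cast h5
    rw [hcard]; exact (hpp.odd_of_ne_two hp2).pow
  · intro h2
    have hp2 : p = 2 := by
      have h5 : ((2 : ℕ) : K) = 0 := by exact_mod_cast h2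
      have h6 := (CharP.cast_eq_zero_iff K p 2).mp h5
      exact (Nat.prime_dvd_prime_iff_eq hpp Nat.prime_two).mp h6
    subst hp2
    rw [hcard]
    exact Nat.even_pow.mpr ⟨even_two, n.pos.ne'⟩

theorem gcd_two_of_odd (q : ℕ) (h : Odd q) : Nat.gcd 2 (q - 1) = 2 := by
  obtain ⟨j, rfl⟩ := h
  have e : 2 * j + 1 - 1 = 2 * j := by omega
  rw [e]
  exact Nat.gcd_eq_left (Dvd.intro j rfl)

theorem gcd_two_of_even (q : ℕ) (h : Even q) (hq : 2 ≤ q) : Nat.gcd 2 (q - 1) = 1 := by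
  obtain ⟨j, rfl⟩ := h
  have hodd : Odd (j + j - 1) := ⟨j - 1, by omega⟩
  exact Nat.coprime_two_left.mpr hodd

theorem split_dihedral [Fintype K] (h4 : 4 ≤ Fintype.card K)
    (hodd : (2 : K) ≠ 0 → 13 ≤ Fintype.card K) :
    ∃ H : Subgroup (Matrix.ProjectiveSpecialLinearGroup (Fin 2) K), IsCoatom H ∧
      Nonempty (H ≃* DihedralGroup ((Fintype.card K - 1) / Nat.gcd 2 (Fintype.card K - 1))) := by
  obtain ⟨hpo, hpe⟩ := field_parity (K := K)
  obtain ⟨u, hu⟩ := sl2_exists_orderOf_card_sub_one (F := K)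
  have hss : ((sl2diag u : SL2 K) : M2 K).trace ^ 2 ≠ 4 := by
    intro h
    have h1 : ((u : K) - ((u⁻¹ : Kˣ) : K)) ^ 2 = 0 := by
      rw [sl2diag_val, Matrix.trace_fin_two_of] at h
      have h0 : (u : K) * ((u⁻¹ : Kˣ) : K) = 1 := by
        rw [← Units.val_mul, mul_inv_cancel, Units.val_one]
      linear_combination h - 4 * h0
    have h2 : (u : K) = ((u⁻¹ : Kˣ) : K) :=
      sub_eq_zero.mp ((pow_eq_zero_iff two_ne_zero).mp h1)
    have h3 : u = u⁻¹ := Units.ext h2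
    have h5 : (sl2diag u : SL2 K) ^ 2 = 1 := by
      have e1 : (sl2diag u : SL2 K)⁻¹ = sl2diag u := by rw [diag_inv, ← h3]
      rw [pow_two]
      calc (sl2diag u : SL2 K) * sl2diag u = (sl2diag u)⁻¹ * sl2diag u := by rw [e1]
        _ = 1 := inv_mul_cancel _
    have h6 := orderOf_dvd_of_pow_eq_one h5
    rw [hu] at h6
    have h7 := Nat.le_of_dvd (by norm_num) h6
    omega
  have hm0 : 0 < Fintype.card K - 1 := by omega
  have hn := order_pr_div (sl2diag u) (Fintype.card K - 1) (Nat.gcd 2 (Fintype.card K - 1)) hu hm0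
    (fun h2 => ⟨gcd_two_of_odd _ (hpo h2), by
      obtain ⟨j, hj⟩ := hpo h2
      exact ⟨j, by omega⟩⟩)
    (fun h2 => gcd_two_of_even _ (hpe h2) (by omega))
  rw [← hn]
  exact torus_coatom (sl2diag u) wE hss (wE_diag u) (Fintype.card K - 1) hu le_rfl (by omega)
    (fun h2 => by have := hodd h2; omega) h4

theorem nonsplit_elt [Fintype K] (h4 : 3 ≤ Fintype.card K) :
    ∃ c w₀ : SL2 K, orderOf c = Fintype.card K + 1 ∧ (c : M2 K).trace ^ 2 ≠ 4 ∧
      w₀ * c * w₀⁻¹ = c⁻¹ := by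
  obtain ⟨p, hpK⟩ := CharP.exists K
  haveI := hpK
  obtain ⟨n, hpp, hcard⟩ := FiniteField.card K p
  haveI : Fact p.Prime := ⟨hpp⟩
  obtain ⟨c, hc⟩ := sl2_exists_orderOf_card_add_one (F := K) p
  have hcop : (Fintype.card K + 1).Coprime p := by
    rw [Nat.coprime_comm, Nat.Prime.coprime_iff_not_dvd hpp, hcard]
    intro h
    have h1 : p ∣ p ^ (n : ℕ) := dvd_pow_self p n.pos.ne'
    have h2 : p ∣ 1 := (Nat.dvd_add_right h1).mp h
    exact hpp.one_lt.ne' (Nat.dvd_one.mp h2)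
  have hss : (c : M2 K).trace ^ 2 ≠ 4 := by
    intro h
    have h1 : ((c ^ 2 : SL2 K) : M2 K).trace = 2 := by rw [sq_tr, h]; norm_num
    have h2 := tr2_pow p (c ^ 2) h1
    rw [← pow_mul] at h2
    have h3 := orderOf_dvd_of_pow_eq_one h2
    rw [hc] at h3
    have h5 := Nat.Coprime.dvd_of_dvd_mul_right hcop h3
    have h6 := Nat.le_of_dvd (by norm_num) h5
    omega
  obtain ⟨w₀, hw⟩ := isConj_iff.mp (Cfsg.Agent.S2388.result p 2 c c⁻¹ (by rw [hc]; exact hcop)
    (by rw [orderOf_inv, hc]; exact hcop) (by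
      rw [Matrix.charpoly_fin_two, Matrix.charpoly_fin_two, tr_inv,
        Matrix.SpecialLinearGroup.det_coe, Matrix.SpecialLinearGroup.det_coe]))
  exact ⟨c, w₀, hc, hss, hw⟩

theorem nonsplit_order [Fintype K] (c : SL2 K) (hc : orderOf c = Fintype.card K + 1) :
    orderOf (pr c) = (Fintype.card K + 1) / Nat.gcd 2 (Fintype.card K - 1) := by
  obtain ⟨hpo, hpe⟩ := field_parity (K := K)
  have hq2 : 2 ≤ Fintype.card K := Fintype.one_lt_card
  exact order_pr_div c (Fintype.card K + 1) (Nat.gcd 2 (Fintype.card K - 1)) hc (by omega)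
    (fun h2 => ⟨gcd_two_of_odd _ (hpo h2), by
      obtain ⟨j, hj⟩ := hpo h2
      exact ⟨j + 1, by omega⟩⟩)
    (fun h2 => gcd_two_of_even _ (hpe h2) hq2)

theorem nonsplit_dihedral [Fintype K] (h4 : 4 ≤ Fintype.card K)
    (hodd : (2 : K) ≠ 0 → 11 ≤ Fintype.card K) :
    ∃ H : Subgroup (Matrix.ProjectiveSpecialLinearGroup (Fin 2) K), IsCoatom H ∧
      Nonempty (H ≃* DihedralGroup ((Fintype.card K + 1) / Nat.gcd 2 (Fintype.card K - 1))) := by
  obtain ⟨c, w₀, hc, hss, hw⟩ := nonsplit_elt (K := K) (by omega)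
  rw [← nonsplit_order c hc]
  exact torus_coatom c w₀ hss hw (Fintype.card K + 1) hc (by omega) le_rfl
    (fun h2 => by have := hodd h2; omega) h4

end toruscoatom

end Cfsg.Agent.Helper18.Dickson
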