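import Mathlib
import Cfsg.Agent.Helper18.DicksonTorus3

set_option autoImplicit false

namespace Cfsg.Agent.Helper18.Dickson

open Matrix Cfsg.Agent.Helper12 Cfsg.Agent.Helper18.OutPSL2

local notation "SL2" => Matrix.SpecialLinearGroup (Fin 2)
local notation "M2" => Matrix (Fin 2) (Fin 2)

section torussmall

variable {K : Type*} [Field K]

theorem index_two_false [Finite K] (h2 : (2 : K) ≠ 0) (L : Subgroup (SL2 K))
    (h : L.index = 2) : False := by
  obtain ⟨p, hpK⟩ := CharP.exists K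
  haveI := hpK
  have hpp : p.Prime := CharP.char_is_prime K p
  haveI : Fact p.Prime := ⟨hpp⟩
  have hp2 : p ≠ 2 := by
    rintro rfl
    apply h2
    have h5 : ((2 : ℕ) : K) = 0 := CharP.cast_eq_zero K 2
    exact_mod_cast h5
  obtain ⟨j, hj⟩ := hpp.odd_of_ne_two hp2
  have key : ∀ g : SL2 K, g ^ p = 1 → g ∈ L := by
    intro g hg
    have h1 : g = (g ^ 2) ^ (j + 1) := by
      rw [← pow_mul]
      have e : 2 * (j + 1) = p + 1 := by omega
      rw [e, pow_succ, hg, one_mul]
    rw [h1]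
    exact L.pow_mem (Subgroup.sq_mem_of_index_two h g) _
  have htop : L = ⊤ := by
    apply sl2_generate wE (by rw [wE_val]; simp) L
    · intro y; exact key _ (sl2U_pow_char p y)
    · intro y
      rw [wE_conj]
      exact key _ (by rw [lo_pow, CharP.cast_eq_zero K p, zero_mul, lo_zero])
  rw [htop, Subgroup.index_top] at h
  omega

theorem index_ge_three [Fintype K] (h2 : (2 : K) ≠ 0) (L : Subgroup (SL2 K)) (hL : L ≠ ⊤) :
    3 ≤ L.index := by
  have h1 : L.index ≠ 1 := fun h => hL (Subgroup.index_eq_one.mp h)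
  have h2' : L.index ≠ 2 := fun h => index_two_false h2 L h
  have h0 : L.index ≠ 0 := Subgroup.index_ne_zero_of_finite
  omega

theorem small3_bound [Fintype K] (hq : Fintype.card K = 3) (L : Subgroup (SL2 K))
    (hL : L ≠ ⊤) : Nat.card L ≤ 8 := by
  have h2 : (2 : K) ≠ 0 := by
    intro h
    obtain ⟨j, hj⟩ := (field_parity (K := K)).2 h
    omega
  have hidx := index_ge_three h2 L hL
  have hmul := L.index_mul_card
  have hcard : Nat.card (SL2 K) = 24 := by
    have h := sl2_card (F := K)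
    rw [hq] at h
    exact h.trans (by norm_num)
  rw [hcard] at hmul
  have h3 : 3 * Nat.card L ≤ L.index * Nat.card L := Nat.mul_le_mul_right _ hidx
  omega

theorem nz_inv {L : Subgroup (SL2 K)} (h2 : (2 : K) ≠ 0) (g : L)
    (hss : ((g : SL2 K) : M2 K).trace ^ 2 ≠ 4) (n : L) (hn : n ∈ nz g) (hnc : n ∉ cz g) :
    n * g * n⁻¹ = g⁻¹ := by
  have h1 : n * g * n⁻¹ ∈ cz g := (mem_nz.mp hn g).mp (mem_cz.mpr (Commute.refl g))
  rw [mem_cz, comm_sub] at h1
  have h3 := semis_conj h2 (g : SL2 K) ((n * g * n⁻¹ : L) : SL2 K) hss h1.symm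
    (sl2_trace_conj (n : SL2 K) (g : SL2 K))
  rcases h3 with h3 | h3
  · exfalso
    apply hnc
    rw [mem_cz]
    have h4 : n * g * n⁻¹ = g := Subtype.ext h3
    show n * g = g * n
    calc n * g = n * g * n⁻¹ * n := by group
      _ = g * n := by rw [h4]
  · exact Subtype.ext h3

theorem small5_bound [Fintype K] (hq : Fintype.card K = 5) (L : Subgroup (SL2 K)) (hL : L ≠ ⊤)
    (c w₀ : SL2 K) (hc : c ∈ L) (hw : w₀ ∈ L) (hss : (c : M2 K).trace ^ 2 ≠ 4)
    (hinv : w₀ * c * w₀⁻¹ = c⁻¹) (hord : orderOf c = 6) : Nat.card L ≤ 12 := by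
  classical
  have h2 : (2 : K) ≠ 0 := by
    intro h
    obtain ⟨j, hj⟩ := (field_parity (K := K)).2 h
    omega
  have hnc : w₀ * c ≠ c * w₀ := inv_noncomm c w₀ hss hinv
  have htr0 : (c : M2 K).trace ≠ 0 := by
    intro h0
    have hC := sl2_cayley c
    rw [h0, zero_smul, zero_sub] at hC
    have h4 : c ^ 4 = 1 := by
      apply Subtype.ext
      rw [Matrix.SpecialLinearGroup.coe_pow, Matrix.SpecialLinearGroup.coe_one]
      have e : (c : M2 K) ^ 4 = ((c : M2 K) * (c : M2 K)) * ((c : M2 K) * (c : M2 K)) := by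
        rw [show (4 : ℕ) = 2 + 2 from rfl, pow_add, pow_two]
      rw [e, hC, neg_mul_neg, one_mul]
    have h6 := orderOf_dvd_of_pow_eq_one h4
    rw [hord] at h6
    omega
  obtain ⟨cL, hcL⟩ : ∃ cL : L, (cL : SL2 K) = c := ⟨⟨c, hc⟩, rfl⟩
  obtain ⟨wL, hwL⟩ : ∃ wL : L, (wL : SL2 K) = w₀ := ⟨⟨w₀, hw⟩, rfl⟩
  have hssL : ((cL : SL2 K) : M2 K).trace ^ 2 ≠ 4 := by rw [hcL]; exact hss
  have hordL : orderOf cL = 6 := by
    rw [← hord, ← hcL, Subgroup.orderOf_coe]
  have hinvL : wL * cL * wL⁻¹ = cL⁻¹ := by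
    apply Subtype.ext
    simp only [Subgroup.coe_mul, Subgroup.coe_inv]
    rw [hcL, hwL]; exact hinv
  have hcz_le := card_cz_le L cL hssL
  have hcz_mem : cL ∈ cz cL := mem_cz.mpr (Commute.refl cL)
  have hcz6 : 6 ∣ Nat.card (cz cL) := by
    have h := orderOf_dvd_natCard (⟨cL, hcz_mem⟩ : cz cL)
    rw [Subgroup.orderOf_mk, hordL] at h
    exact h
  have hcz : Nat.card (cz cL) = 6 := by
    have hpos : 0 < Nat.card (cz cL) := Nat.card_pos
    rw [hq] at hcz_le
    obtain ⟨k, hk⟩ := hcz6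
    omega
  have hnz_le := semis_norm h2 cL hssL
  have hwnz : wL ∈ nz cL := by
    rw [mem_nz]
    intro h
    rw [mem_cz, mem_cz]
    have e := comm_conj_iff (a := h) (b := cL) wL
    rw [hinvL, Commute.inv_right_iff] at e
    exact e.symm
  have hwcz : wL ∉ cz cL := by
    rw [mem_cz, comm_sub, hcL, hwL]; exact hnc
  have hnz : Nat.card (nz cL) = 12 := by
    have hdvd : Nat.card (cz cL) ∣ Nat.card (nz cL) := Subgroup.card_dvd_of_le (cz_le_nz cL)
    rw [hcz] at hdvd hnz_le
    obtain ⟨k, hk⟩ := hdvd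
    have hk0 : 0 < Nat.card (nz cL) := Nat.card_pos
    have hk1 : k ≠ 1 := by
      rintro rfl
      have heq : cz cL = nz cL := Subgroup.eq_of_le_of_card_ge (cz_le_nz cL) (by omega)
      exact hwcz (by rw [heq]; exact hwnz)
    omega
  have hcard : Nat.card (SL2 K) = 120 := by
    have h := sl2_card (F := K)
    rw [hq] at h
    exact h.trans (by norm_num)
  have hidx3 := index_ge_three h2 L hL
  have hmul := L.index_mul_card
  rw [hcard] at hmul
  have hnzdvd : Nat.card (nz cL) ∣ Nat.card L := Subgroup.card_subgroup_dvd_card (nz cL)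
  rw [hnz] at hnzdvd
  obtain ⟨k, hk⟩ := hnzdvd
  have h3 : 3 * Nat.card L ≤ L.index * Nat.card L := Nat.mul_le_mul_right _ hidx3
  have hk3 : k ≠ 3 := by
    rintro rfl
    rw [hk] at hmul
    omega
  have hk2 : k ≠ 2 := by
    rintro rfl
    have hidx : (nz cL).index = 2 := by
      have h := (nz cL).index_mul_card
      rw [hnz, hk] at h
      omega
    have hnorm : (nz cL).Normal := Subgroup.normal_of_index_eq_two hidx
    have hcnz : cL ∈ nz cL := cz_le_nz cL hcz_mem
    have hall : ∀ g : L, g ∈ nz cL := by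
      intro g
      have h1 : g * cL * g⁻¹ ∈ nz cL := hnorm.conj_mem cL hcnz g
      have h3 : g * cL * g⁻¹ ∈ cz cL := by
        by_contra hnot
        have h4 := nz_inv h2 cL hssL _ h1 hnot
        have h5 : ((g * cL * g⁻¹ : L) : SL2 K) * (cL : SL2 K) ≠
            (cL : SL2 K) * ((g * cL * g⁻¹ : L) : SL2 K) := by
          intro h
          exact hnot (mem_cz.mpr ((comm_sub _ _).mpr h))
        have h6 := inv_tr_zero (cL : SL2 K) ((g * cL * g⁻¹ : L) : SL2 K)
          (congrArg Subtype.val h4) h5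
        have h7 : (((g * cL * g⁻¹ : L) : SL2 K) : M2 K).trace = ((cL : SL2 K) : M2 K).trace :=
          sl2_trace_conj (g : SL2 K) (cL : SL2 K)
        rw [h7, hcL] at h6
        exact htr0 h6
      rw [mem_cz, comm_sub] at h3
      have h7 := semis_conj h2 (cL : SL2 K) ((g * cL * g⁻¹ : L) : SL2 K) hssL h3.symm
        (sl2_trace_conj (g : SL2 K) (cL : SL2 K))
      have h8 : g * cL * g⁻¹ = cL ∨ g * cL * g⁻¹ = cL⁻¹ := by
        rcases h7 with h | h
        · left; exact Subtype.ext h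
        · right; exact Subtype.ext h
      rw [mem_nz]
      intro k
      rw [mem_cz, mem_cz]
      have e := comm_conj_iff (a := k) (b := cL) g
      rcases h8 with h | h
      · rw [h] at e; exact e.symm
      · rw [h, Commute.inv_right_iff] at e; exact e.symm
    have htop : nz cL = ⊤ := (Subgroup.eq_top_iff' _).mpr hall
    rw [htop, Subgroup.index_top] at hidx
    omega
  have hk0 : k ≠ 0 := by
    rintro rfl
    rw [mul_zero] at hk
    exact (Nat.card_pos (α := L)).ne' hk
  omega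

theorem nonsplit_dihedral3 [Fintype K] (hq : Fintype.card K = 3) :
    ∃ H : Subgroup (Matrix.ProjectiveSpecialLinearGroup (Fin 2) K), IsCoatom H ∧
      Nonempty (H ≃* DihedralGroup ((Fintype.card K + 1) / Nat.gcd 2 (Fintype.card K - 1))) := by
  obtain ⟨c, w₀, hc, hss, hw⟩ := nonsplit_elt (K := K) (by omega)
  rw [← nonsplit_order c hc]
  refine torus_coatom_gen c w₀ hss hw (Fintype.card K + 1) hc le_rfl (by omega) ?_
  intro L hL _ _
  have h := small3_bound hq L hL
  omega

theorem nonsplit_dihedral5 [Fintype K] (hq : Fintype.card K = 5) :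
    ∃ H : Subgroup (Matrix.ProjectiveSpecialLinearGroup (Fin 2) K), IsCoatom H ∧
      Nonempty (H ≃* DihedralGroup ((Fintype.card K + 1) / Nat.gcd 2 (Fintype.card K - 1))) := by
  obtain ⟨c, w₀, hc, hss, hw⟩ := nonsplit_elt (K := K) (by omega)
  rw [← nonsplit_order c hc]
  refine torus_coatom_gen c w₀ hss hw (Fintype.card K + 1) hc le_rfl (by omega) ?_
  intro L hL hcL hwL
  have h := small5_bound hq L hL c w₀ hcL hwL hss hw (by omega)
  omega

end torussmall

end Cfsg.Agent.Helper18.Dickson
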