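import Mathlib
import Cfsg.Agent.Helper18.DicksonTorus4
import Cfsg.Agent.Helper12.A4PSL

set_option autoImplicit false

namespace Cfsg.Agent.Helper18.Dickson

open Matrix Cfsg.Agent.Helper12 Cfsg.Agent.Helper18.OutPSL2

local notation "SL2" => Matrix.SpecialLinearGroup (Fin 2)
local notation "M2" => Matrix (Fin 2) (Fin 2)

section primefield

variable {K : Type*} [Field K]

theorem nat_surj [Fintype K] (hp : (Fintype.card K).Prime) (y : K) : ∃ k : ℕ, y = (k : K) := by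
  obtain ⟨e⟩ : Nonempty (ZMod (Fintype.card K) ≃+* K) := ⟨ZMod.ringEquivOfPrime K hp rfl⟩
  haveI : NeZero (Fintype.card K) := ⟨hp.ne_zero⟩
  refine ⟨(e.symm y).val, ?_⟩
  have h1 : e ((e.symm y).val : ZMod (Fintype.card K)) = y := by
    rw [ZMod.natCast_zmod_val, RingEquiv.apply_symm_apply]
  calc y = e ((e.symm y).val : ZMod (Fintype.card K)) := h1.symm
    _ = ((e.symm y).val : K) := map_natCast e _

theorem prime_gen [Fintype K] (hp : (Fintype.card K).Prime) (M : Subgroup (SL2 K)) (s t : K)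
    (hs : s ≠ 0) (ht : t ≠ 0) (hU : sl2U s ∈ M) (hY : lo t ∈ M) : M = ⊤ := by
  have hUall : ∀ y : K, sl2U y ∈ M := by
    intro y
    obtain ⟨k, hk⟩ := nat_surj hp (y / s)
    have e : sl2U y = (sl2U s) ^ k := by rw [sl2U_pow, ← hk, div_mul_cancel₀ y hs]
    rw [e]; exact M.pow_mem hU k
  apply sl2_generate (lo t) (by rw [lo_val]; simpa using ht) M hUall
  intro y
  exact M.mul_mem (M.mul_mem hY (hUall y)) (M.inv_mem hY)

/-- proper subgroups of `SL₂(p)`, `p` an odd prime -/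
theorem prime_proper [Fintype K] (hp : (Fintype.card K).Prime) (h2 : (2 : K) ≠ 0)
    (L : Subgroup (SL2 K)) (hL : L ≠ ⊤) :
    (∃ D : SL2 K, ∀ g ∈ L, ((D * g * D⁻¹ : SL2 K) : M2 K) 1 0 = 0) ∨
    (∀ a b : L, a * b = b * a) ∨
    (∃ g : L, g ∉ Subgroup.center L ∧ Nat.card L ≤ 2 * Nat.card (cz g)) ∨
    (Nat.card (Subgroup.center L) ≤ 2 ∧ (Nat.card L = 12 * Nat.card (Subgroup.center L) ∨
      Nat.card L = 24 * Nat.card (Subgroup.center L) ∨
      Nat.card L = 60 * Nat.card (Subgroup.center L))) := by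
  classical
  by_cases hU : ∀ x ∈ L, (x : M2 K).trace = 2 → x = 1
  · right
    by_cases hab : ∀ a b : L, a * b = b * a
    · left; exact hab
    · right
      have hss : ∀ g ∈ L, ¬ Sl2Scalar g → (g : M2 K).trace ^ 2 ≠ 4 := pprime_ss L hU
      have hcen : ∀ g : L, g ∈ Subgroup.center L → Sl2Scalar (g : SL2 K) := by
        intro g hg
        by_contra hns
        apply hab
        intro a b
        have h1 : (a : SL2 K) * (g : SL2 K) = (g : SL2 K) * (a : SL2 K) :=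
          congrArg Subtype.val (Subgroup.mem_center_iff.mp hg a)
        have h2 : (g : SL2 K) * (b : SL2 K) = (b : SL2 K) * (g : SL2 K) :=
          (congrArg Subtype.val (Subgroup.mem_center_iff.mp hg b)).symm
        exact Subtype.ext (ct_sl _ _ _ hns h1 h2)
      have hct := ct_gen L
      have hnc : ∀ g : L, g ∉ Subgroup.center L → ((g : SL2 K) : M2 K).trace ^ 2 ≠ 4 :=
        fun g hg => hss _ g.2 (fun h => hg (sc_center L g h))
      have hn : ∀ g : L, g ∉ Subgroup.center L → Nat.card (nz g) ≤ 2 * Nat.card (cz g) :=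
        fun g hg => semis_norm h2 g (hnc g hg)
      obtain ⟨g₁, h₁⟩ : ∃ g₁ : L, g₁ ∉ Subgroup.center L := by
        by_contra hcon
        apply hab
        intro a b
        have ha : a ∈ Subgroup.center L := by
          by_contra h; exact hcon ⟨a, h⟩
        exact (Subgroup.mem_center_iff.mp ha b).symm
      have hz2 := card_center_le_two_gen h2 L hcen
      rcases pprime_abs hct hn g₁ h₁ with h | h | h | h
      · left; exact h
      · right; exact ⟨hz2, Or.inl h⟩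
      · right; exact ⟨hz2, Or.inr (Or.inl h)⟩
      · right; exact ⟨hz2, Or.inr (Or.inr h)⟩
  · obtain ⟨x, hx⟩ := not_forall.mp hU
    obtain ⟨hxL, hx'⟩ := Classical.not_imp.mp hx
    obtain ⟨hxtr, hx1⟩ := Classical.not_imp.mp hx'
    by_cases hcomm : ∀ y ∈ L, (y : M2 K).trace = 2 → x * y = y * x
    · left; exact borel_struct L x hxL hxtr hx1 hcomm
    · exfalso
      obtain ⟨y, hy⟩ := not_forall.mp hcomm
      obtain ⟨hyL, hy'⟩ := Classical.not_imp.mp hy
      obtain ⟨hytr, hxy⟩ := Classical.not_imp.mp hy'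
      obtain ⟨D, s, t, hs, ht, hDx, hDy⟩ := nfG x y hxtr hytr hxy
      apply hL
      have hcard : Nat.card (L.map (MulAut.conj D).toMonoidHom) = Nat.card L :=
        Subgroup.card_map_of_injective (MulAut.conj D).injective
      have hUm : sl2U s ∈ L.map (MulAut.conj D).toMonoidHom := ⟨x, hxL, hDx⟩
      have hYm : lo t ∈ L.map (MulAut.conj D).toMonoidHom := ⟨y, hyL, hDy⟩
      have htop : L.map (MulAut.conj D).toMonoidHom = ⊤ := prime_gen hp _ s t hs ht hUm hYm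
      rw [← Subgroup.card_eq_iff_eq_top, ← hcard, htop, Subgroup.card_top]

theorem a4f1 : a4ta * a4sg ≠ a4sg * a4ta := by decide
theorem a4f2 : a4ta * a4sg * a4ta⁻¹ * a4sg⁻¹ ≠ 1 := by decide
theorem a4f3 : (a4ta * a4sg * a4ta⁻¹ * a4sg⁻¹) ^ 2 = 1 := by decide
theorem a4f4 : a4ta ^ 2 * (a4sg * a4ta * a4sg⁻¹) ^ 2 ≠ (a4sg * a4ta * a4sg⁻¹) ^ 2 * a4ta ^ 2 := by
  decide

theorem not16 (p N : ℕ) (hp3 : N + p = p ^ 3) (h8 : p % 8 = 3 ∨ p % 8 = 5) : ¬ 16 ∣ N := by
  have hpm := Nat.pow_mod p 3 16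
  have h16 : p % 16 = 3 ∨ p % 16 = 5 ∨ p % 16 = 11 ∨ p % 16 = 13 := by omega
  rcases h16 with h | h | h | h <;> rw [h] at hpm <;> norm_num at hpm <;> omega

theorem not5 (p N : ℕ) (hp3 : N + p = p ^ 3) (h : p % 10 = 3 ∨ p % 10 = 7) : ¬ 5 ∣ N := by
  have hpm := Nat.pow_mod p 3 5
  have h5 : p % 5 = 3 ∨ p % 5 = 2 := by omega
  rcases h5 with h | h <;> rw [h] at hpm <;> norm_num at hpm <;> omega

/-- witnesses used to exclude the non-exceptional cases: `C`, `X` with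
`ψ C = τ`, `ψ X = σ` for a hom `ψ` from a subgroup `M ≤ L` to a group where the listed relations fail -/
theorem excl_cases [Fintype K] (p : ℕ) [Fact p.Prime] [CharP K p] (hp2 : ¬ 2 ∣ p)
    (L : Subgroup (SL2 K)) (M : Subgroup (SL2 K)) (hML : M ≤ L)
    {Γ : Type*} [Group Γ] (ψ : M →* Γ) (cM xM : M)
    (f1 : ψ cM * ψ xM ≠ ψ xM * ψ cM)
    (f2 : ψ cM * ψ xM * (ψ cM)⁻¹ * (ψ xM)⁻¹ ≠ 1)
    (f3 : (ψ cM * ψ xM * (ψ cM)⁻¹ * (ψ xM)⁻¹) ^ 2 = 1)
    (f4 : ψ cM ^ 2 * (ψ xM * ψ cM * (ψ xM)⁻¹) ^ 2 ≠ (ψ xM * ψ cM * (ψ xM)⁻¹) ^ 2 * ψ cM ^ 2) :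
    (¬ ∃ D : SL2 K, ∀ g ∈ L, ((D * g * D⁻¹ : SL2 K) : M2 K) 1 0 = 0) ∧
    (¬ ∀ a b : L, a * b = b * a) ∧
    (¬ ∃ g : L, g ∉ Subgroup.center L ∧ Nat.card L ≤ 2 * Nat.card (cz g)) := by
  classical
  have hCL : (cM : SL2 K) ∈ L := hML cM.2
  have hXL : (xM : SL2 K) ∈ L := hML xM.2
  refine ⟨?_, ?_, ?_⟩
  · rintro ⟨D, hD⟩
    have h3 := upper_comm_tr (D * (cM : SL2 K) * D⁻¹) (D * (xM : SL2 K) * D⁻¹) (hD _ hCL) (hD _ hXL)
    have e1 : D * (cM : SL2 K) * D⁻¹ * (D * (xM : SL2 K) * D⁻¹) * (D * (cM : SL2 K) * D⁻¹)⁻¹ *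
        (D * (xM : SL2 K) * D⁻¹)⁻¹ =
        D * ((cM : SL2 K) * (xM : SL2 K) * (cM : SL2 K)⁻¹ * (xM : SL2 K)⁻¹) * D⁻¹ := by group
    rw [e1, sl2_trace_conj] at h3
    have h4 := tr2_pow p _ h3
    have h5 : (cM * xM * cM⁻¹ * xM⁻¹) ^ p = 1 := Subtype.ext (by
      rw [Subgroup.coe_pow]; exact h4)
    have h6 := congrArg ψ h5
    rw [map_pow, map_mul, map_mul, map_mul, map_inv, map_inv, map_one] at h6
    have h7 : orderOf (ψ cM * ψ xM * (ψ cM)⁻¹ * (ψ xM)⁻¹) = 2 := orderOf_eq_prime f3 f2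
    have h8 := orderOf_dvd_of_pow_eq_one h6
    rw [h7] at h8
    exact hp2 h8
  · intro hab
    have h1 := hab ⟨cM, hCL⟩ ⟨xM, hXL⟩
    have h2 : (cM : SL2 K) * (xM : SL2 K) = (xM : SL2 K) * (cM : SL2 K) := congrArg Subtype.val h1
    have h5 : cM * xM = xM * cM := Subtype.ext h2
    have h6 := congrArg ψ h5
    rw [map_mul, map_mul] at h6
    exact f1 h6
  · rintro ⟨g, hg, hle2⟩
    have hsq : ∀ a : L, a ^ 2 ∈ cz g := by
      intro a
      have hmul := (cz g).index_mul_card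
      have hpos : 0 < Nat.card (cz g) := Nat.card_pos
      have hidx2 : (cz g).index ≤ 2 := by
        by_contra hgt
        have h3 : 3 * Nat.card (cz g) ≤ (cz g).index * Nat.card (cz g) :=
          Nat.mul_le_mul_right _ (by omega)
        omega
      have hidx0 : (cz g).index ≠ 0 := Subgroup.index_ne_zero_of_finite
      have hcases : (cz g).index = 1 ∨ (cz g).index = 2 := by omega
      rcases hcases with h1 | h2'
      · rw [Subgroup.index_eq_one.mp h1]; exact Subgroup.mem_top _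
      · exact Subgroup.sq_mem_of_index_two h2' a
    have hct := ct_gen L
    have hXCL : (xM : SL2 K) * (cM : SL2 K) * (xM : SL2 K)⁻¹ ∈ L :=
      L.mul_mem (L.mul_mem hXL hCL) (L.inv_mem hXL)
    have ha := mem_cz.mp (hsq ⟨cM, hCL⟩)
    have hb := mem_cz.mp (hsq ⟨_, hXCL⟩)
    have hcomm := hct _ g _ hg ha hb.symm
    have h5 : (cM : SL2 K) ^ 2 * ((xM : SL2 K) * (cM : SL2 K) * (xM : SL2 K)⁻¹) ^ 2 =
        ((xM : SL2 K) * (cM : SL2 K) * (xM : SL2 K)⁻¹) ^ 2 * (cM : SL2 K) ^ 2 :=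
      congrArg Subtype.val hcomm.eq
    have h6 : cM ^ 2 * (xM * cM * xM⁻¹) ^ 2 = (xM * cM * xM⁻¹) ^ 2 * cM ^ 2 := Subtype.ext h5
    have h7 := congrArg ψ h6
    simp only [map_mul, map_pow, map_inv] at h7
    exact f4 h7

theorem a4_coatom [Fintype K] (p : ℕ) (hp : p.Prime) (hK : Fintype.card K = p) (h5 : 5 ≤ p)
    (h8 : p % 8 = 3 ∨ p % 8 = 5) (h10 : p % 10 ≠ 1 ∧ p % 10 ≠ 9)
    (H : Subgroup (Matrix.ProjectiveSpecialLinearGroup (Fin 2) K))
    (e : H ≃* alternatingGroup (Fin 4)) : IsCoatom H := by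
  classical
  haveI : Fact p.Prime := ⟨hp⟩
  haveI : CharP K p := charP_of_card_eq_prime hK
  have hpK : (Fintype.card K).Prime := by rw [hK]; exact hp
  have h2 : (2 : K) ≠ 0 := by
    intro h
    obtain ⟨j, hj⟩ := (field_parity (K := K)).2 h
    omega
  haveI : Finite (Matrix.ProjectiveSpecialLinearGroup (Fin 2) K) :=
    Finite.of_surjective _ (pr_surj (F := K))
  have hHcard : Nat.card H = 12 := by
    rw [Nat.card_congr e.toEquiv, nat_card_alternatingGroup, Nat.card_fin]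
    rfl
  have hpsl := psl2_card_odd (F := K) h2
  rw [hK] at hpsl
  have hsl := sl2_card (F := K)
  rw [hK] at hsl
  obtain ⟨N, hN⟩ : ∃ N, N = p * (p ^ 2 - 1) := ⟨_, rfl⟩
  rw [← hN] at hpsl hsl
  have hp3 : N + p = p ^ 3 := by
    have h1 : 1 ≤ p ^ 2 := Nat.one_le_pow _ _ (by omega)
    obtain ⟨m, hm⟩ : ∃ m, p ^ 2 = m + 1 := ⟨p ^ 2 - 1, by omega⟩
    rw [hN, hm, Nat.add_sub_cancel]
    have e3 : p ^ 3 = p * p ^ 2 := by ring
    rw [e3, hm]; ring
  have hN120 : 120 ≤ N := by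
    have h1 : 5 * 24 ≤ p * (p ^ 2 - 1) := Nat.mul_le_mul h5 (by
      have h25 : 5 ^ 2 ≤ p ^ 2 := Nat.pow_le_pow_left h5 2
      omega)
    omega
  have hidx : (H.comap pr).index = H.index := Subgroup.index_comap_of_surjective H pr_surj
  have hLHcard : Nat.card (H.comap pr) = 24 := by
    have h1 := (H.comap pr).index_mul_card
    have h3 := H.index_mul_card
    rw [hidx, hsl] at h1
    rw [hHcard] at h3
    have h4 : H.index * Nat.card (H.comap pr) = H.index * 24 := by omega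
    have hi0 : 0 < H.index := Nat.pos_of_ne_zero Subgroup.index_ne_zero_of_finite
    exact Nat.eq_of_mul_eq_mul_left hi0 h4
  have hHtop : H ≠ ⊤ := by
    intro htop
    have h1 : Nat.card H = Nat.card (Matrix.ProjectiveSpecialLinearGroup (Fin 2) K) := by
      rw [htop, Subgroup.card_top]
    omega
  apply coatom_of_bound H hHtop 24 (le_of_eq hLHcard.symm)
  intro L hle hL
  have h24 : 24 ∣ Nat.card L := by rw [← hLHcard]; exact Subgroup.card_dvd_of_le hle
  have hLdvd : Nat.card L ∣ N := by rw [← hsl]; exact Subgroup.card_subgroup_dvd_card L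
  obtain ⟨C, hC⟩ := pr_surj (F := K)
    ((e.symm ⟨a4ta, a4ta_mem⟩ : H) : Matrix.ProjectiveSpecialLinearGroup (Fin 2) K)
  obtain ⟨X, hX⟩ := pr_surj (F := K)
    ((e.symm ⟨a4sg, a4sg_mem⟩ : H) : Matrix.ProjectiveSpecialLinearGroup (Fin 2) K)
  have hCM : C ∈ H.comap pr := by rw [Subgroup.mem_comap, hC]; exact (e.symm _).2
  have hXM : X ∈ H.comap pr := by rw [Subgroup.mem_comap, hX]; exact (e.symm _).2
  obtain ⟨ψ, hψ⟩ : ∃ ψ : ↥(H.comap pr) →* Equiv.Perm (Fin 4),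
      ∀ g : ↥(H.comap pr), ∀ σ : alternatingGroup (Fin 4),
        pr (g : SL2 K) = ((e.symm σ : H) : Matrix.ProjectiveSpecialLinearGroup (Fin 2) K) →
        ψ g = (σ : Equiv.Perm (Fin 4)) := by
    refine ⟨(alternatingGroup (Fin 4)).subtype.comp
      (e.toMonoidHom.comp ((pr (F := K)).subgroupComap H)), ?_⟩
    intro g σ hg
    have h1 : ((pr (F := K)).subgroupComap H) g = e.symm σ := Subtype.ext hg
    show ((e (((pr (F := K)).subgroupComap H) g) : alternatingGroup (Fin 4)) :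
      Equiv.Perm (Fin 4)) = σ
    rw [h1, MulEquiv.apply_symm_apply]
  have hψc : ψ ⟨C, hCM⟩ = a4ta := hψ ⟨C, hCM⟩ ⟨a4ta, a4ta_mem⟩ hC
  have hψx : ψ ⟨X, hXM⟩ = a4sg := hψ ⟨X, hXM⟩ ⟨a4sg, a4sg_mem⟩ hX
  have hp2 : ¬ 2 ∣ p := by omega
  obtain ⟨ex1, ex2, ex3⟩ := excl_cases p hp2 L (H.comap pr) hle ψ ⟨C, hCM⟩ ⟨X, hXM⟩
    (by rw [hψc, hψx]; exact a4f1) (by rw [hψc, hψx]; exact a4f2)
    (by rw [hψc, hψx]; exact a4f3) (by rw [hψc, hψx]; exact a4f4)
  rcases prime_proper hpK h2 L hL with hB | hab | hdi | ⟨hz2, hcases⟩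
  · exact absurd hB ex1
  · exact absurd hab ex2
  · exact absurd hdi ex3
  · have hzpos : 0 < Nat.card (Subgroup.center L) := Nat.card_pos
    have hz : Nat.card (Subgroup.center L) = 1 ∨ Nat.card (Subgroup.center L) = 2 := by omega
    rcases hcases with h | h | h
    · omega
    · rcases hz with hz | hz
      · omega
      · exfalso
        rw [h, hz] at hLdvd
        exact not16 p N hp3 h8 (Dvd.dvd.trans ⟨3, by norm_num⟩ hLdvd)
    · exfalso
      rcases hz with hz | hz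
      · rw [h, hz] at h24
        omega
      · rw [h, hz] at hLdvd
        have h5N : 5 ∣ N := Dvd.dvd.trans ⟨24, by norm_num⟩ hLdvd
        by_cases hp5 : p = 5
        · have h125 : p ^ 3 = 125 := by subst hp5; norm_num
          have hN5 : N = 120 := by omega
          have hcL : Nat.card L = Nat.card (SL2 K) := by omega
          exact hL ((Subgroup.card_eq_iff_eq_top L).mp hcL)
        · have h5dvd : ¬ 5 ∣ p := fun hd =>
            hp5 ((Nat.prime_dvd_prime_iff_eq Nat.prime_five hp).mp hd).symm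
          have hp10 : p % 10 = 3 ∨ p % 10 = 7 := by omega
          exact not5 p N hp3 hp10 h5N

end primefield

end Cfsg.Agent.Helper18.Dickson
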