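import Mathlib
import Cfsg.Agent.Helper18.DicksonPrime

set_option autoImplicit false

namespace Cfsg.Agent.Helper18.Dickson

open Matrix Cfsg.Agent.Helper12 Cfsg.Agent.Helper18.OutPSL2

local notation "SL2" => Matrix.SpecialLinearGroup (Fin 2)
local notation "M2" => Matrix (Fin 2) (Fin 2)

section excfield

variable {K : Type*} [Field K]

theorem comap_card_odd [Fintype K] (h2 : (2 : K) ≠ 0)
    (H : Subgroup (Matrix.ProjectiveSpecialLinearGroup (Fin 2) K)) :
    Nat.card (H.comap pr) = 2 * Nat.card H := by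
  haveI : Finite (Matrix.ProjectiveSpecialLinearGroup (Fin 2) K) :=
    Finite.of_surjective _ (pr_surj (F := K))
  have hidx : (H.comap pr).index = H.index := Subgroup.index_comap_of_surjective H pr_surj
  have h1 := (H.comap pr).index_mul_card
  have h3 := H.index_mul_card
  have hpsl := psl2_card_odd (F := K) h2
  have hsl := sl2_card (F := K)
  rw [hidx, hsl] at h1
  have h4 : H.index * Nat.card (H.comap pr) = H.index * (2 * Nat.card H) := by
    rw [h1, ← hpsl, ← h3]; ring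
  have hi0 : 0 < H.index := Nat.pos_of_ne_zero Subgroup.index_ne_zero_of_finite
  exact Nat.eq_of_mul_eq_mul_left hi0 h4

theorem excl_wit [Fintype K] (p : ℕ) [Fact p.Prime] [CharP K p] (hp2 : ¬ 2 ∣ p)
    (H : Subgroup (Matrix.ProjectiveSpecialLinearGroup (Fin 2) K))
    {Γ : Type*} [Group Γ] (φ : H →* Γ) (τ σ : H)
    (f1 : φ τ * φ σ ≠ φ σ * φ τ) (f2 : φ τ * φ σ * (φ τ)⁻¹ * (φ σ)⁻¹ ≠ 1)
    (f3 : (φ τ * φ σ * (φ τ)⁻¹ * (φ σ)⁻¹) ^ 2 = 1)
    (f4 : φ τ ^ 2 * (φ σ * φ τ * (φ σ)⁻¹) ^ 2 ≠ (φ σ * φ τ * (φ σ)⁻¹) ^ 2 * φ τ ^ 2)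
    (L : Subgroup (SL2 K)) (hle : H.comap pr ≤ L) :
    (¬ ∃ D : SL2 K, ∀ g ∈ L, ((D * g * D⁻¹ : SL2 K) : M2 K) 1 0 = 0) ∧
    (¬ ∀ a b : L, a * b = b * a) ∧
    (¬ ∃ g : L, g ∉ Subgroup.center L ∧ Nat.card L ≤ 2 * Nat.card (cz g)) := by
  obtain ⟨C, hC⟩ := pr_surj (F := K) (τ : Matrix.ProjectiveSpecialLinearGroup (Fin 2) K)
  obtain ⟨X, hX⟩ := pr_surj (F := K) (σ : Matrix.ProjectiveSpecialLinearGroup (Fin 2) K)
  have hCM : C ∈ H.comap pr := by rw [Subgroup.mem_comap, hC]; exact τ.2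
  have hXM : X ∈ H.comap pr := by rw [Subgroup.mem_comap, hX]; exact σ.2
  have hψc : (φ.comp ((pr (F := K)).subgroupComap H)) ⟨C, hCM⟩ = φ τ := by
    show φ (((pr (F := K)).subgroupComap H) ⟨C, hCM⟩) = φ τ
    congr 1
    exact Subtype.ext hC
  have hψx : (φ.comp ((pr (F := K)).subgroupComap H)) ⟨X, hXM⟩ = φ σ := by
    show φ (((pr (F := K)).subgroupComap H) ⟨X, hXM⟩) = φ σ
    congr 1
    exact Subtype.ext hX
  exact excl_cases p hp2 L (H.comap pr) hle (φ.comp ((pr (F := K)).subgroupComap H))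
    ⟨C, hCM⟩ ⟨X, hXM⟩
    (by rw [hψc, hψx]; exact f1) (by rw [hψc, hψx]; exact f2)
    (by rw [hψc, hψx]; exact f3) (by rw [hψc, hψx]; exact f4)

theorem exc_overgroup [Fintype K] (p : ℕ) (hp : p.Prime) (hK : Fintype.card K = p)
    (hp2 : ¬ 2 ∣ p) (H : Subgroup (Matrix.ProjectiveSpecialLinearGroup (Fin 2) K))
    {Γ : Type*} [Group Γ] (φ : H →* Γ) (τ σ : H)
    (f1 : φ τ * φ σ ≠ φ σ * φ τ) (f2 : φ τ * φ σ * (φ τ)⁻¹ * (φ σ)⁻¹ ≠ 1)
    (f3 : (φ τ * φ σ * (φ τ)⁻¹ * (φ σ)⁻¹) ^ 2 = 1)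
    (f4 : φ τ ^ 2 * (φ σ * φ τ * (φ σ)⁻¹) ^ 2 ≠ (φ σ * φ τ * (φ σ)⁻¹) ^ 2 * φ τ ^ 2)
    (L : Subgroup (SL2 K)) (hle : H.comap pr ≤ L) (hL : L ≠ ⊤) :
    Nat.card (Subgroup.center L) ≤ 2 ∧ (Nat.card L = 12 * Nat.card (Subgroup.center L) ∨
      Nat.card L = 24 * Nat.card (Subgroup.center L) ∨
      Nat.card L = 60 * Nat.card (Subgroup.center L)) := by
  classical
  haveI : Fact p.Prime := ⟨hp⟩
  haveI : CharP K p := charP_of_card_eq_prime hK
  have hpK : (Fintype.card K).Prime := by rw [hK]; exact hp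
  have h2 : (2 : K) ≠ 0 := by
    intro h
    obtain ⟨j, hj⟩ := (field_parity (K := K)).2 h
    exact hp2 ⟨j, by omega⟩
  obtain ⟨ex1, ex2, ex3⟩ := excl_wit p hp2 H φ τ σ f1 f2 f3 f4 L hle
  rcases prime_proper hpK h2 L hL with hB | hab | hdi | h
  · exact absurd hB ex1
  · exact absurd hab ex2
  · exact absurd hdi ex3
  · exact h

theorem s4_coatom [Fintype K] (p : ℕ) (hp : p.Prime) (hK : Fintype.card K = p)
    (h8 : p % 8 = 1 ∨ p % 8 = 7)
    (H : Subgroup (Matrix.ProjectiveSpecialLinearGroup (Fin 2) K))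
    (e : H ≃* Equiv.Perm (Fin 4)) : IsCoatom H := by
  classical
  have hp2 : ¬ 2 ∣ p := by omega
  have h2 : (2 : K) ≠ 0 := by
    intro h
    obtain ⟨j, hj⟩ := (field_parity (K := K)).2 h
    exact hp2 ⟨j, by omega⟩
  have hp7 : 7 ≤ p := by
    have h1 := hp.two_le
    omega
  haveI : Finite (Matrix.ProjectiveSpecialLinearGroup (Fin 2) K) :=
    Finite.of_surjective _ (pr_surj (F := K))
  have hHcard : Nat.card H = 24 := by
    rw [Nat.card_congr e.toEquiv, Nat.card_perm, Nat.card_fin]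
    rfl
  have hLH : Nat.card (H.comap pr) = 48 := by
    have h := comap_card_odd h2 H
    omega
  have hHtop : H ≠ ⊤ := by
    intro htop
    have h1 : Nat.card H = Nat.card (Matrix.ProjectiveSpecialLinearGroup (Fin 2) K) := by
      rw [htop, Subgroup.card_top]
    have hpsl := psl2_card_odd (F := K) h2
    rw [hK] at hpsl
    have h3 : 7 * 48 ≤ p * (p ^ 2 - 1) := Nat.mul_le_mul hp7 (by
      have h49 : 7 ^ 2 ≤ p ^ 2 := Nat.pow_le_pow_left hp7 2
      omega)
    omega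
  apply coatom_of_bound H hHtop 48 (by omega)
  intro L hle hL
  have h48 : 48 ∣ Nat.card L := by rw [← hLH]; exact Subgroup.card_dvd_of_le hle
  have hτ : e.toMonoidHom (e.symm a4ta) = a4ta := e.apply_symm_apply _
  have hσ : e.toMonoidHom (e.symm a4sg) = a4sg := e.apply_symm_apply _
  obtain ⟨hz2, hcases⟩ := exc_overgroup p hp hK hp2 H e.toMonoidHom (e.symm a4ta) (e.symm a4sg)
    (by rw [hτ, hσ]; exact a4f1) (by rw [hτ, hσ]; exact a4f2)
    (by rw [hτ, hσ]; exact a4f3) (by rw [hτ, hσ]; exact a4f4) L hle hL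
  have hzpos : 0 < Nat.card (Subgroup.center L) := Nat.card_pos
  have hz : Nat.card (Subgroup.center L) = 1 ∨ Nat.card (Subgroup.center L) = 2 := by omega
  rcases hz with hz | hz <;> rcases hcases with h | h | h <;> rw [hz] at h <;> omega

/-- a three-cycle in `Perm (Fin 5)` -/
def a5ta : Equiv.Perm (Fin 5) := Equiv.swap 0 1 * Equiv.swap 1 2

/-- a double transposition in `Perm (Fin 5)` -/
def a5sg : Equiv.Perm (Fin 5) := Equiv.swap 0 1 * Equiv.swap 2 3

theorem a5ta_mem : a5ta ∈ alternatingGroup (Fin 5) := by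
  rw [Equiv.Perm.mem_alternatingGroup, a5ta, Equiv.Perm.sign_mul, Equiv.Perm.sign_swap (by decide),
    Equiv.Perm.sign_swap (by decide)]
  rfl

theorem a5sg_mem : a5sg ∈ alternatingGroup (Fin 5) := by
  rw [Equiv.Perm.mem_alternatingGroup, a5sg, Equiv.Perm.sign_mul, Equiv.Perm.sign_swap (by decide),
    Equiv.Perm.sign_swap (by decide)]
  rfl

theorem a5f1 : a5ta * a5sg ≠ a5sg * a5ta := by decide
theorem a5f2 : a5ta * a5sg * a5ta⁻¹ * a5sg⁻¹ ≠ 1 := by decide
theorem a5f3 : (a5ta * a5sg * a5ta⁻¹ * a5sg⁻¹) ^ 2 = 1 := by decide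
theorem a5f4 : a5ta ^ 2 * (a5sg * a5ta * a5sg⁻¹) ^ 2 ≠ (a5sg * a5ta * a5sg⁻¹) ^ 2 * a5ta ^ 2 := by
  decide

theorem a5_coatom_prime [Fintype K] (p : ℕ) (hp : p.Prime) (hK : Fintype.card K = p)
    (h10 : p % 10 = 1 ∨ p % 10 = 9)
    (H : Subgroup (Matrix.ProjectiveSpecialLinearGroup (Fin 2) K))
    (e : H ≃* alternatingGroup (Fin 5)) : IsCoatom H := by
  classical
  have hp2 : ¬ 2 ∣ p := by omega
  have h2 : (2 : K) ≠ 0 := by
    intro h
    obtain ⟨j, hj⟩ := (field_parity (K := K)).2 h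
    exact hp2 ⟨j, by omega⟩
  have hp9 : p ≠ 9 := by
    rintro rfl
    norm_num at hp
  have hp11 : 11 ≤ p := by
    have h1 := hp.two_le
    omega
  haveI : Finite (Matrix.ProjectiveSpecialLinearGroup (Fin 2) K) :=
    Finite.of_surjective _ (pr_surj (F := K))
  have hHcard : Nat.card H = 60 := by
    rw [Nat.card_congr e.toEquiv, nat_card_alternatingGroup, Nat.card_fin]
    rfl
  have hLH : Nat.card (H.comap pr) = 120 := by
    have h := comap_card_odd h2 H
    omega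
  have hHtop : H ≠ ⊤ := by
    intro htop
    have h1 : Nat.card H = Nat.card (Matrix.ProjectiveSpecialLinearGroup (Fin 2) K) := by
      rw [htop, Subgroup.card_top]
    have hpsl := psl2_card_odd (F := K) h2
    rw [hK] at hpsl
    have h3 : 11 * 120 ≤ p * (p ^ 2 - 1) := Nat.mul_le_mul hp11 (by
      have h121 : 11 ^ 2 ≤ p ^ 2 := Nat.pow_le_pow_left hp11 2
      omega)
    omega
  apply coatom_of_bound H hHtop 120 (by omega)
  intro L hle hL
  have h120 : 120 ∣ Nat.card L := by rw [← hLH]; exact Subgroup.card_dvd_of_le hle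
  obtain ⟨φ, hφ⟩ : ∃ φ : H →* Equiv.Perm (Fin 5), ∀ x : H, φ x = ((e x : alternatingGroup (Fin 5)) :
      Equiv.Perm (Fin 5)) := ⟨(alternatingGroup (Fin 5)).subtype.comp e.toMonoidHom, fun _ => rfl⟩
  have hτ : φ (e.symm ⟨a5ta, a5ta_mem⟩) = a5ta := by rw [hφ, e.apply_symm_apply]
  have hσ : φ (e.symm ⟨a5sg, a5sg_mem⟩) = a5sg := by rw [hφ, e.apply_symm_apply]
  obtain ⟨hz2, hcases⟩ := exc_overgroup p hp hK hp2 H φ (e.symm ⟨a5ta, a5ta_mem⟩)
    (e.symm ⟨a5sg, a5sg_mem⟩)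
    (by rw [hτ, hσ]; exact a5f1) (by rw [hτ, hσ]; exact a5f2)
    (by rw [hτ, hσ]; exact a5f3) (by rw [hτ, hσ]; exact a5f4) L hle hL
  have hzpos : 0 < Nat.card (Subgroup.center L) := Nat.card_pos
  have hz : Nat.card (Subgroup.center L) = 1 ∨ Nat.card (Subgroup.center L) = 2 := by omega
  rcases hz with hz | hz <;> rcases hcases with h | h | h <;> rw [hz] at h <;> omega

theorem upper_pow00 (g : SL2 K) (h : (g : M2 K) 1 0 = 0) (n : ℕ) :
    ((g ^ n : SL2 K) : M2 K) 0 0 = (g : M2 K) 0 0 ^ n ∧ ((g ^ n : SL2 K) : M2 K) 1 0 = 0 := by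
  induction n with
  | zero => exact ⟨by rw [pow_zero, pow_zero, one00], by rw [pow_zero, one10]⟩
  | succ k ih =>
    rw [pow_succ]
    exact ⟨by rw [mul00, ih.1, h, pow_succ]; ring, by rw [mul10, ih.2, h]; ring⟩

theorem no_five_BU [Fintype K] (p : ℕ) [Fact p.Prime] [CharP K p] (L : Subgroup (SL2 K))
    (h5q : Nat.gcd 5 (Fintype.card K - 1) = 1) (hp5 : p ≠ 5) : ¬ 5 ∣ Nat.card (BU L) := by
  intro hdvd
  haveI : Fact (Nat.Prime 5) := ⟨Nat.prime_five⟩
  obtain ⟨g, hg⟩ := exists_prime_orderOf_dvd_card' 5 hdvd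
  obtain ⟨G₀, hG₀⟩ : ∃ G₀ : SL2 K, G₀ = ((g : L) : SL2 K) := ⟨_, rfl⟩
  have hord : orderOf G₀ = 5 := by
    rw [hG₀, Subgroup.orderOf_coe, Subgroup.orderOf_coe, hg]
  have h10 : (G₀ : M2 K) 1 0 = 0 := by rw [hG₀]; exact mem_BU.mp g.2
  have h5 : G₀ ^ 5 = 1 := by rw [← hord]; exact pow_orderOf_eq_one G₀
  have hl5 : (G₀ : M2 K) 0 0 ^ 5 = 1 := by
    rw [← (upper_pow00 G₀ h10 5).1, h5, one00]
  have hdet := det_upper G₀ h10
  have hne : (G₀ : M2 K) 0 0 ≠ 0 := by
    intro h0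
    rw [h0, zero_mul] at hdet
    exact zero_ne_one hdet
  have hlq := FiniteField.pow_card_sub_one_eq_one ((G₀ : M2 K) 0 0) hne
  have hl1 : (G₀ : M2 K) 0 0 = 1 := by
    have h := pow_gcd_eq_one.mpr ⟨hl5, hlq⟩
    rw [h5q, pow_one] at h
    exact h
  have h11 : (G₀ : M2 K) 1 1 = 1 := by rw [hl1, one_mul] at hdet; exact hdet
  have htr : (G₀ : M2 K).trace = 2 := by
    rw [Matrix.trace_fin_two, hl1, h11]; norm_num
  have hpp := tr2_pow p G₀ htr
  have hd := orderOf_dvd_of_pow_eq_one hpp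
  rw [hord] at hd
  exact hp5 ((Nat.prime_dvd_prime_iff_eq Nat.prime_five (Fact.out : p.Prime)).mp hd).symm

theorem odd_proper [Fintype K] (h2 : (2 : K) ≠ 0) (L : Subgroup (SL2 K)) :
    (∃ D : SL2 K, ∀ g ∈ L, ((D * g * D⁻¹ : SL2 K) : M2 K) 1 0 = 0) ∨
    (∀ a b : L, a * b = b * a) ∨
    (∃ g : L, g ∉ Subgroup.center L ∧ Nat.card L ≤ 2 * Nat.card (cz g)) ∨
    (Nat.card (Subgroup.center L) ≤ 2 ∧ (Nat.card L = 12 * Nat.card (Subgroup.center L) ∨
      Nat.card L = 24 * Nat.card (Subgroup.center L) ∨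
      Nat.card L = 60 * Nat.card (Subgroup.center L))) ∨
    (∃ (D : SL2 K) (s t : K), Nonempty (Setup (L.map (MulAut.conj D).toMonoidHom) s t)) := by
  classical
  by_cases hU : ∀ x ∈ L, (x : M2 K).trace = 2 → x = 1
  · right
    by_cases hab : ∀ a b : L, a * b = b * a
    · left; exact hab
    · right
      have hss : ∀ g ∈ L, ¬ Sl2Scalar g → (g : M2 K).trace ^ 2 ≠ 4 := pprime_ss L hU
      have hcen : ∀ g : L, g ∈ Subgroup.center L → Sl2Scalar (g : SL2 K) := by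
        intro g hg
        by_contra hns
        apply hab
        intro a b
        have h1 : (a : SL2 K) * (g : SL2 K) = (g : SL2 K) * (a : SL2 K) :=
          congrArg Subtype.val (Subgroup.mem_center_iff.mp hg a)
        have h2 : (g : SL2 K) * (b : SL2 K) = (b : SL2 K) * (g : SL2 K) :=
          (congrArg Subtype.val (Subgroup.mem_center_iff.mp hg b)).symm
        exact Subtype.ext (ct_sl _ _ _ hns h1 h2)
      have hct := ct_gen L
      have hnc : ∀ g : L, g ∉ Subgroup.center L → ((g : SL2 K) : M2 K).trace ^ 2 ≠ 4 :=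
        fun g hg => hss _ g.2 (fun h => hg (sc_center L g h))
      have hn : ∀ g : L, g ∉ Subgroup.center L → Nat.card (nz g) ≤ 2 * Nat.card (cz g) :=
        fun g hg => semis_norm h2 g (hnc g hg)
      obtain ⟨g₁, h₁⟩ : ∃ g₁ : L, g₁ ∉ Subgroup.center L := by
        by_contra hcon
        apply hab
        intro a b
        have ha : a ∈ Subgroup.center L := by
          by_contra h; exact hcon ⟨a, h⟩
        exact (Subgroup.mem_center_iff.mp ha b).symm
      have hz2 := card_center_le_two_gen h2 L hcen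
      rcases pprime_abs hct hn g₁ h₁ with h | h | h | h
      · left; exact h
      · right; left; exact ⟨hz2, Or.inl h⟩
      · right; left; exact ⟨hz2, Or.inr (Or.inl h)⟩
      · right; left; exact ⟨hz2, Or.inr (Or.inr h)⟩
  · obtain ⟨x, hx⟩ := not_forall.mp hU
    obtain ⟨hxL, hx'⟩ := Classical.not_imp.mp hx
    obtain ⟨hxtr, hx1⟩ := Classical.not_imp.mp hx'
    by_cases hcomm : ∀ y ∈ L, (y : M2 K).trace = 2 → x * y = y * x
    · left; exact borel_struct L x hxL hxtr hx1 hcomm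
    · right; right; right; right
      obtain ⟨y, hy⟩ := not_forall.mp hcomm
      obtain ⟨hyL, hy'⟩ := Classical.not_imp.mp hy
      obtain ⟨hytr, hxy⟩ := Classical.not_imp.mp hy'
      obtain ⟨D, s, t, hs, ht, hDx, hDy⟩ := nfG x y hxtr hytr hxy
      have hUm : sl2U s ∈ L.map (MulAut.conj D).toMonoidHom := ⟨x, hxL, hDx⟩
      have hYm : lo t ∈ L.map (MulAut.conj D).toMonoidHom := ⟨y, hyL, hDy⟩
      exact ⟨D, s, t, ⟨⟨hs, ht, ⟨_, hUm⟩, ⟨_, hYm⟩, rfl, rfl⟩⟩⟩

theorem setup_a5 [Fintype K] (p : ℕ) [Fact p.Prime] [CharP K p] (hp2 : p ≠ 2)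
    (hK : Fintype.card K = p ^ 2) (h10 : p % 10 = 3 ∨ p % 10 = 7)
    {L : Subgroup (SL2 K)} {s t : K} (S : Setup L s t) (hL : L ≠ ⊤)
    (h120 : 120 ∣ Nat.card L) : Nat.card L ≤ 120 := by
  have hpp : p.Prime := Fact.out
  have h2 : (2 : K) ≠ 0 := two_ne_zero_of_char p hp2
  have hz2 := card_center_le_two h2 S
  have hzpos : 0 < Nat.card (Subgroup.center L) := Nat.card_pos
  rcases struct_cases p hp2 S with ⟨ha, hG⟩ | hBr | ⟨ha, hG, h3, g, hg⟩
  · rw [hG]; omega
  · exfalso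
    have hYL : lo t ∈ L := by rw [← S.hY]; exact S.Y.2
    have hδ : sl2U (2 / t) ∈ L := by
      have hYi : lo (-t) ∈ L := by rw [lo_neg_eq_inv]; exact L.inv_mem hYL
      obtain ⟨α, hα, hrel⟩ := bruhat_ratio S hBr (lo (-t)) hYi
        (by rw [lo_10]; exact neg_ne_zero.mpr S.ht)
      rw [lo_00, lo_10] at hrel
      have ht := S.ht
      have hα' : α = -(2 / t) := by
        have h5 : α * t = -2 := by
          apply mul_left_cancel₀ ht
          linear_combination hrel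
        rw [eq_neg_iff_add_eq_zero]
        field_simp
        linear_combination h5
      have h7 : sl2U (-(2 / t)) ∈ L := by rw [← hα']; exact hα
      have h8 := L.inv_mem h7
      rw [← sl2U_neg_eq_inv, neg_neg] at h8
      exact h8
    have hsq := bruhat_sq S hBr hδ (fun A h1 hinv => hua_mul p hp2 A h1 hinv) hL
    have hG := bruhat_card S hBr
    obtain ⟨a, z, B, G, kU, hh, r, ha, hz, hBd, hGd, hkUd, ha3, hpa, hz1, hh1, hr1, hB, hcompl,
      hG', hnd, hkU⟩ := base_counts p hp2 S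
    rw [ha] at hsq hG
    rw [hBd, hGd] at hG
    rw [hGd] at h120
    rw [hK] at hsq
    have hBpos : 0 < B := by rw [← hBd]; exact Nat.card_pos
    have hap : a = p := by
      have hle : a ≤ p := by
        by_contra hlt
        have h1 : p < a := by omega
        have h3 : p * p < a * a := Nat.mul_self_lt_mul_self h1
        have h4 : p ^ 2 = p * p := by ring
        omega
      have hge : p ≤ a := Nat.le_of_dvd (by omega) hpa
      omega
    have hr : r = 1 := by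
      rw [hG'] at hG
      have h1 : 1 + r * a ≤ 1 + a := Nat.le_of_mul_le_mul_left hG hBpos
      have h3 : r * a ≤ 1 * a := by omega
      have h4 : r ≤ 1 := Nat.le_of_mul_le_mul_right h3 (by omega)
      omega
    rw [hr, one_mul, hap] at hG'
    have h5G : 5 ∣ B * (1 + p) := by rw [← hG']; exact Dvd.dvd.trans ⟨24, by norm_num⟩ h120
    rcases (Nat.Prime.dvd_mul Nat.prime_five).mp h5G with h | h
    · rw [← hBd] at h
      have hgcd : Nat.gcd 5 (Fintype.card K - 1) = 1 := by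
        rw [hK]
        apply (Nat.Prime.coprime_iff_not_dvd Nat.prime_five).mpr
        have hpm := Nat.pow_mod p 2 5
        have h5' : p % 5 = 3 ∨ p % 5 = 2 := by omega
        have h1 : 1 ≤ p ^ 2 := Nat.one_le_pow _ _ hpp.pos
        rcases h5' with h' | h' <;> rw [h'] at hpm <;> norm_num at hpm <;> omega
      exact no_five_BU p L hgcd (by omega) h
    · omega
  · rw [hG]; omega

theorem a5_coatom_sq [Fintype K] (p : ℕ) (hp : p.Prime) [CharP K p]
    (hK : Fintype.card K = p ^ 2) (h10 : p % 10 = 3 ∨ p % 10 = 7)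
    (H : Subgroup (Matrix.ProjectiveSpecialLinearGroup (Fin 2) K))
    (e : H ≃* alternatingGroup (Fin 5)) : IsCoatom H := by
  classical
  haveI : Fact p.Prime := ⟨hp⟩
  have hp2 : ¬ 2 ∣ p := by omega
  have hp2' : p ≠ 2 := by omega
  have hp3 : 3 ≤ p := by
    have h1 := hp.two_le
    omega
  have h2 : (2 : K) ≠ 0 := two_ne_zero_of_char p hp2'
  haveI : Finite (Matrix.ProjectiveSpecialLinearGroup (Fin 2) K) :=
    Finite.of_surjective _ (pr_surj (F := K))
  have hHcard : Nat.card H = 60 := by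
    rw [Nat.card_congr e.toEquiv, nat_card_alternatingGroup, Nat.card_fin]
    rfl
  have hLH : Nat.card (H.comap pr) = 120 := by
    have h := comap_card_odd h2 H
    omega
  have hq9 : 9 ≤ Fintype.card K := by
    rw [hK]
    calc 9 = 3 ^ 2 := by norm_num
      _ ≤ p ^ 2 := Nat.pow_le_pow_left hp3 2
  have hHtop : H ≠ ⊤ := by
    intro htop
    have h1 : Nat.card H = Nat.card (Matrix.ProjectiveSpecialLinearGroup (Fin 2) K) := by
      rw [htop, Subgroup.card_top]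
    have hpsl := psl2_card_odd (F := K) h2
    have h3 : 9 * 80 ≤ Fintype.card K * (Fintype.card K ^ 2 - 1) := Nat.mul_le_mul hq9 (by
      have h81 : 9 ^ 2 ≤ Fintype.card K ^ 2 := Nat.pow_le_pow_left hq9 2
      omega)
    omega
  apply coatom_of_bound H hHtop 120 (by omega)
  intro L hle hL
  have h120 : 120 ∣ Nat.card L := by rw [← hLH]; exact Subgroup.card_dvd_of_le hle
  obtain ⟨φ, hφ⟩ : ∃ φ : H →* Equiv.Perm (Fin 5), ∀ x : H, φ x = ((e x : alternatingGroup (Fin 5)) :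
      Equiv.Perm (Fin 5)) := ⟨(alternatingGroup (Fin 5)).subtype.comp e.toMonoidHom, fun _ => rfl⟩
  have hτ : φ (e.symm ⟨a5ta, a5ta_mem⟩) = a5ta := by rw [hφ, e.apply_symm_apply]
  have hσ : φ (e.symm ⟨a5sg, a5sg_mem⟩) = a5sg := by rw [hφ, e.apply_symm_apply]
  obtain ⟨ex1, ex2, ex3⟩ := excl_wit p hp2 H φ (e.symm ⟨a5ta, a5ta_mem⟩)
    (e.symm ⟨a5sg, a5sg_mem⟩)
    (by rw [hτ, hσ]; exact a5f1) (by rw [hτ, hσ]; exact a5f2)
    (by rw [hτ, hσ]; exact a5f3) (by rw [hτ, hσ]; exact a5f4) L hle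
  rcases odd_proper h2 L with hB | hab | hdi | ⟨hz2, hcases⟩ | ⟨D, s, t, ⟨S⟩⟩
  · exact absurd hB ex1
  · exact absurd hab ex2
  · exact absurd hdi ex3
  · have hzpos : 0 < Nat.card (Subgroup.center L) := Nat.card_pos
    have hz : Nat.card (Subgroup.center L) = 1 ∨ Nat.card (Subgroup.center L) = 2 := by omega
    rcases hz with hz | hz <;> rcases hcases with h | h | h <;> rw [hz] at h <;> omega
  · have hcard : Nat.card (L.map (MulAut.conj D).toMonoidHom) = Nat.card L :=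
      Subgroup.card_map_of_injective (MulAut.conj D).injective
    have hL' : L.map (MulAut.conj D).toMonoidHom ≠ ⊤ := by
      intro h
      apply hL
      rw [← Subgroup.card_eq_iff_eq_top, ← hcard, h, Subgroup.card_top]
    rw [← hcard] at h120 ⊢
    exact setup_a5 p hp2' hK h10 S hL' h120

end excfield

end Cfsg.Agent.Helper18.Dickson
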