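import Mathlib
import Cfsg.Agent.Helper18.DicksonExc

namespace Cfsg.Agent.Helper18.Dickson

open Matrix Cfsg.Agent.Helper12 Cfsg.Agent.Helper18.OutPSL2

local notation "SL2" => Matrix.SpecialLinearGroup (Fin 2)
local notation "M2" => Matrix (Fin 2) (Fin 2)

section even1

variable {K : Type*} [Field K]

theorem tr_conj (D g : SL2 K) :
    ((D * g * D⁻¹ : SL2 K) : M2 K).trace = (g : M2 K).trace := by
  have h : ((D * g * D⁻¹ : SL2 K) : M2 K) =
      (D : M2 K) * (g : M2 K) * ((D⁻¹ : SL2 K) : M2 K) := by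
    rw [Matrix.SpecialLinearGroup.coe_mul, Matrix.SpecialLinearGroup.coe_mul]
  have h2 : ((D⁻¹ : SL2 K) : M2 K) * (D : M2 K) = 1 := by
    rw [← Matrix.SpecialLinearGroup.coe_mul, inv_mul_cancel, Matrix.SpecialLinearGroup.coe_one]
  rw [h, Matrix.trace_mul_comm, ← mul_assoc, h2, one_mul]

theorem ss_of_tr2 (h2 : (2 : K) = 0) (g : SL2 K) (h : (g : M2 K).trace ≠ 0) :
    (g : M2 K).trace ^ 2 ≠ 4 := by
  have h4 : (4 : K) = 0 := by
    have e : (4 : K) = 2 * 2 := by norm_num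
    rw [e, h2, mul_zero]
  rw [h4]
  exact pow_ne_zero 2 h

theorem tr0_of_sq2 (h2 : (2 : K) = 0) (g : SL2 K) (h : g * g = 1) : (g : M2 K).trace = 0 := by
  have h1 := sq_tr g
  rw [pow_two, h, one_tr] at h1
  have h3 : (g : M2 K).trace ^ 2 = 0 := by linear_combination (-1 : K) * h1 + 2 * h2
  exact (pow_eq_zero_iff two_ne_zero).mp h3

theorem not_scalar_of_tr (h2 : (2 : K) = 0) (g : SL2 K) (h : (g : M2 K).trace ≠ 0) :
    ¬ Sl2Scalar g := by
  intro hs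
  apply h
  rw [Matrix.trace_fin_two, hs.2.2]
  linear_combination (g : M2 K) 1 1 * h2

theorem tr_ne_zero_zpowers (h2 : (2 : K) = 0) (c x : SL2 K) (hc : Odd (orderOf c))
    (hx : x ∈ Subgroup.zpowers c) (hx1 : x ≠ 1) : (x : M2 K).trace ≠ 0 := by
  intro h0
  have h1 : x ^ 2 = 1 := by rw [pow_two]; exact sq_one2 h2 x h0
  have h3 := orderOf_dvd_of_pow_eq_one h1
  have h4 := orderOf_dvd_of_mem_zpowers hx
  have h5 : orderOf x = 1 ∨ orderOf x = 2 := (Nat.dvd_prime Nat.prime_two).mp h3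
  rcases h5 with h5 | h5
  · exact hx1 (orderOf_eq_one_iff.mp h5)
  · rw [h5] at h4
    obtain ⟨j, hj⟩ := hc
    obtain ⟨i, hi⟩ := h4
    omega

theorem odd_order_ss [Fintype K] (h2 : (2 : K) = 0) (k : SL2 K) (hk : (k : M2 K).trace ≠ 0) :
    Odd (orderOf k) := by
  by_contra hodd
  rw [Nat.not_odd_iff_even] at hodd
  obtain ⟨j, hj⟩ := hodd
  have hpos : 0 < orderOf k := orderOf_pos k
  have hj0 : j ≠ 0 := by omega
  have hu1 : k ^ j ≠ 1 := pow_ne_one_of_lt_orderOf hj0 (by omega)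
  have hu2 : k ^ j * k ^ j = 1 := by rw [← pow_add, ← hj, pow_orderOf_eq_one]
  have htr := tr0_of_sq2 h2 _ hu2
  obtain ⟨D, s, hs, hD⟩ := unip_conj (k ^ j) (by rw [htr, h2]) hu1
  have hc : D * k * D⁻¹ * sl2U s = sl2U s * (D * k * D⁻¹) := by
    rw [← hD]
    have hkc : k * k ^ j = k ^ j * k := ((Commute.refl k).pow_right j).eq
    calc D * k * D⁻¹ * (D * k ^ j * D⁻¹) = D * (k * k ^ j) * D⁻¹ := by group
      _ = D * (k ^ j * k) * D⁻¹ := by rw [hkc]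
      _ = D * k ^ j * D⁻¹ * (D * k * D⁻¹) := by group
  have h4 := comm_U_tr hs _ hc
  rw [tr_conj] at h4
  exact ss_of_tr2 h2 k hk h4

theorem conj_ss2 [Fintype K] [CharP K 2] (k x : SL2 K) (hk : (k : M2 K).trace ≠ 0)
    (hx : (x : M2 K).trace = (k : M2 K).trace) : ∃ D : SL2 K, D * x * D⁻¹ = k := by
  have h2 : (2 : K) = 0 := char2_two_eq_zero
  haveI : Fact (Nat.Prime 2) := ⟨Nat.prime_two⟩
  have hok := odd_order_ss h2 k hk
  have hox := odd_order_ss h2 x (by rw [hx]; exact hk)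
  exact isConj_iff.mp (Cfsg.Agent.S2388.result 2 2 x k
    (Nat.coprime_two_left.mpr hox).symm (Nat.coprime_two_left.mpr hok).symm (by
      rw [Matrix.charpoly_fin_two, Matrix.charpoly_fin_two, hx,
        Matrix.SpecialLinearGroup.det_coe, Matrix.SpecialLinearGroup.det_coe]))

/-- nonidentity elements of a cyclic subgroup -/
noncomputable def cycSet [Fintype K] (c : SL2 K) : Finset (SL2 K) := by
  classical exact (Finset.univ.filter (· ∈ Subgroup.zpowers c)).erase 1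

theorem mem_cycSet [Fintype K] (c x : SL2 K) :
    x ∈ cycSet c ↔ x ≠ 1 ∧ x ∈ Subgroup.zpowers c := by
  classical
  unfold cycSet
  rw [Finset.mem_erase, Finset.mem_filter]
  exact ⟨fun h => ⟨h.1, h.2.2⟩, fun h => ⟨h.1, Finset.mem_univ _, h.2⟩⟩

theorem card_cycSet [Fintype K] (c : SL2 K) : (cycSet c).card = orderOf c - 1 := by
  classical
  unfold cycSet
  rw [Finset.card_erase_of_mem (Finset.mem_filter.mpr ⟨Finset.mem_univ _, Subgroup.one_mem _⟩),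
    ← natCard_eq_card_filter, Nat.card_zpowers]

/-- traces of the nonidentity elements of a cyclic subgroup -/
noncomputable def trSet [Fintype K] (c : SL2 K) : Finset K := by
  classical exact (cycSet c).image (fun x : SL2 K => (x : M2 K).trace)

theorem mem_trSet [Fintype K] (c : SL2 K) (a : K) :
    a ∈ trSet c ↔ ∃ x : SL2 K, x ≠ 1 ∧ x ∈ Subgroup.zpowers c ∧ (x : M2 K).trace = a := by
  classical
  unfold trSet
  rw [Finset.mem_image]
  constructor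
  · rintro ⟨x, hx, hxa⟩
    exact ⟨x, ((mem_cycSet c x).mp hx).1, ((mem_cycSet c x).mp hx).2, hxa⟩
  · rintro ⟨x, hx1, hxz, hxa⟩
    exact ⟨x, (mem_cycSet c x).mpr ⟨hx1, hxz⟩, hxa⟩

theorem card_trSet [Fintype K] (h2 : (2 : K) = 0) (c : SL2 K) (hc : Odd (orderOf c)) :
    orderOf c - 1 ≤ 2 * (trSet c).card := by
  classical
  rw [← card_cycSet]
  unfold trSet
  apply Finset.card_le_mul_card_image
  intro a ha
  obtain ⟨x₀, hx₀, rfl⟩ := Finset.mem_image.mp ha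
  obtain ⟨hx₀1, hx₀z⟩ := (mem_cycSet c x₀).mp hx₀
  have hss : (x₀ : M2 K).trace ^ 2 ≠ 4 :=
    ss_of_tr2 h2 x₀ (tr_ne_zero_zpowers h2 c x₀ hc hx₀z hx₀1)
  have hsub : (cycSet c).filter (fun x : SL2 K => (x : M2 K).trace = (x₀ : M2 K).trace) ⊆
      {x₀, x₀⁻¹} := by
    intro x hx
    obtain ⟨hx1, hxt⟩ := Finset.mem_filter.mp hx
    have hxz : x ∈ Subgroup.zpowers c := ((mem_cycSet c x).mp hx1).2
    have hcomm : x₀ * x = x * x₀ := by
      obtain ⟨i, hi⟩ := Subgroup.mem_zpowers_iff.mp hx₀z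
      obtain ⟨j, hj⟩ := Subgroup.mem_zpowers_iff.mp hxz
      rw [← hi, ← hj, ← _root_.zpow_add, ← _root_.zpow_add, add_comm]
    rcases semis_conj2 h2 x₀ x hss hcomm hxt with h | h
    · rw [h]; exact Finset.mem_insert_self _ _
    · rw [h]; exact Finset.mem_insert_of_mem (Finset.mem_singleton_self _)
  exact (Finset.card_le_card hsub).trans Finset.card_le_two

theorem trace_surj2 [Fintype K] [CharP K 2] (h4 : 4 ≤ Fintype.card K) :
    ∃ (c₁ w₁ c₂ w₂ : SL2 K), orderOf c₁ = Fintype.card K - 1 ∧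
      orderOf c₂ = Fintype.card K + 1 ∧
      w₁ * c₁ * w₁⁻¹ = c₁⁻¹ ∧ w₂ * c₂ * w₂⁻¹ = c₂⁻¹ ∧
      ∀ τ : K, τ ≠ 0 → ∃ x : SL2 K, x ≠ 1 ∧
        (x ∈ Subgroup.zpowers c₁ ∨ x ∈ Subgroup.zpowers c₂) ∧ (x : M2 K).trace = τ := by
  classical
  have h2 : (2 : K) = 0 := char2_two_eq_zero
  obtain ⟨hpo, hpe⟩ := field_parity (K := K)
  obtain ⟨jq, hjq⟩ := hpe h2
  obtain ⟨u, hu⟩ := sl2_exists_orderOf_card_sub_one (F := K)
  obtain ⟨c₂, w₂, hc₂, -, hw₂⟩ := nonsplit_elt (K := K) (by omega)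
  refine ⟨sl2diag u, wE, c₂, w₂, hu, hc₂, wE_diag u, hw₂, ?_⟩
  have ho1 : Odd (orderOf (sl2diag u : SL2 K)) := by rw [hu]; exact ⟨jq - 1, by omega⟩
  have ho2 : Odd (orderOf c₂) := by rw [hc₂]; exact ⟨jq, by omega⟩
  have hI₁ := card_trSet h2 (sl2diag u : SL2 K) ho1
  have hI₂ := card_trSet h2 c₂ ho2
  rw [hu] at hI₁
  rw [hc₂] at hI₂
  have hne0 : ∀ c : SL2 K, Odd (orderOf c) → ∀ a ∈ trSet c, a ≠ 0 := by
    intro c hc a ha
    obtain ⟨x, hx1, hxz, rfl⟩ := (mem_trSet c a).mp ha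
    exact tr_ne_zero_zpowers h2 c x hc hxz hx1
  have hdisj : Disjoint (trSet (sl2diag u : SL2 K)) (trSet c₂) := by
    rw [Finset.disjoint_left]
    intro a ha₁ ha₂
    obtain ⟨x₁, hx₁1, hz₁, rfl⟩ := (mem_trSet _ a).mp ha₁
    obtain ⟨x₂, hx₂1, hz₂, hx₂t⟩ := (mem_trSet _ _).mp ha₂
    have ht₁ := tr_ne_zero_zpowers h2 _ x₁ ho1 hz₁ hx₁1
    obtain ⟨D, hD⟩ := conj_ss2 x₁ x₂ ht₁ hx₂t
    have hord : orderOf x₁ = orderOf x₂ := by
      rw [← hD]
      exact (MulAut.conj D).orderOf_eq x₂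
    have hd₁ := orderOf_dvd_of_mem_zpowers hz₁
    have hd₂ := orderOf_dvd_of_mem_zpowers hz₂
    rw [hu] at hd₁
    rw [← hord, hc₂] at hd₂
    have hd : orderOf x₁ ∣ 2 := by
      have e : Fintype.card K + 1 = (Fintype.card K - 1) + 2 := by omega
      rw [e] at hd₂
      exact (Nat.dvd_add_right hd₁).mp hd₂
    rcases (Nat.dvd_prime Nat.prime_two).mp hd with h | h
    · exact hx₁1 (orderOf_eq_one_iff.mp h)
    · rw [h] at hd₁
      obtain ⟨i, hi⟩ := hd₁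
      omega
  have hsub : trSet (sl2diag u : SL2 K) ∪ trSet c₂ ⊆ (Finset.univ : Finset K).erase 0 := by
    intro a ha
    rcases Finset.mem_union.mp ha with h | h
    · exact Finset.mem_erase.mpr ⟨hne0 _ ho1 a h, Finset.mem_univ _⟩
    · exact Finset.mem_erase.mpr ⟨hne0 _ ho2 a h, Finset.mem_univ _⟩
  have hcu := Finset.card_union_of_disjoint hdisj
  have hce : ((Finset.univ : Finset K).erase 0).card = Fintype.card K - 1 := by
    rw [Finset.card_erase_of_mem (Finset.mem_univ _), Finset.card_univ]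
  have heq : trSet (sl2diag u : SL2 K) ∪ trSet c₂ = (Finset.univ : Finset K).erase 0 :=
    Finset.eq_of_subset_of_card_le hsub (by rw [hce, hcu]; omega)
  intro τ hτ
  have hmem : τ ∈ trSet (sl2diag u : SL2 K) ∪ trSet c₂ := by
    rw [heq]; exact Finset.mem_erase.mpr ⟨hτ, Finset.mem_univ _⟩
  rcases Finset.mem_union.mp hmem with h | h
  · obtain ⟨x, hx1, hxz, hxt⟩ := (mem_trSet _ _).mp h
    exact ⟨x, hx1, Or.inl hxz, hxt⟩
  · obtain ⟨x, hx1, hxz, hxt⟩ := (mem_trSet _ _).mp h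
    exact ⟨x, hx1, Or.inr hxz, hxt⟩

theorem torus_wit2 [Fintype K] [CharP K 2] (h4 : 4 ≤ Fintype.card K) (k : SL2 K)
    (hk : (k : M2 K).trace ≠ 0) :
    ∃ (c w : SL2 K) (m : ℕ), (m = Fintype.card K - 1 ∨ m = Fintype.card K + 1) ∧
      orderOf c = m ∧ (c : M2 K).trace ≠ 0 ∧ c * k = k * c ∧ w * c * w⁻¹ = c⁻¹ := by
  have h2 : (2 : K) = 0 := char2_two_eq_zero
  obtain ⟨c₁, w₁, c₂, w₂, ho₁, ho₂, hw₁, hw₂, hsurj⟩ := trace_surj2 (K := K) h4
  obtain ⟨x, hx1, hxz, hxt⟩ := hsurj _ hk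
  obtain ⟨D, hD⟩ := conj_ss2 k x hk hxt
  have key : ∀ (c w : SL2 K) (m : ℕ), orderOf c = m → 3 ≤ m → w * c * w⁻¹ = c⁻¹ →
      x ∈ Subgroup.zpowers c →
      orderOf (D * c * D⁻¹) = m ∧ ((D * c * D⁻¹ : SL2 K) : M2 K).trace ≠ 0 ∧
        (D * c * D⁻¹) * k = k * (D * c * D⁻¹) ∧
        (D * w * D⁻¹) * (D * c * D⁻¹) * (D * w * D⁻¹)⁻¹ = (D * c * D⁻¹)⁻¹ := by
    intro c w m hm hm3 hw hxc
    refine ⟨?_, ?_, ?_, ?_⟩
    · rw [← hm]; exact (MulAut.conj D).orderOf_eq c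
    · rw [tr_conj]
      intro h0
      have h1 : c ^ 2 = 1 := by rw [pow_two]; exact sq_one2 h2 c h0
      have h3 := Nat.le_of_dvd (by norm_num) (orderOf_dvd_of_pow_eq_one h1)
      omega
    · rw [← hD]
      obtain ⟨i, hi⟩ := Subgroup.mem_zpowers_iff.mp hxc
      rw [← hi]
      have hcc : c * c ^ i = c ^ i * c := ((Commute.refl c).zpow_right i).eq
      calc D * c * D⁻¹ * (D * c ^ i * D⁻¹) = D * (c * c ^ i) * D⁻¹ := by group
        _ = D * (c ^ i * c) * D⁻¹ := by rw [hcc]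
        _ = D * c ^ i * D⁻¹ * (D * c * D⁻¹) := by group
    · calc (D * w * D⁻¹) * (D * c * D⁻¹) * (D * w * D⁻¹)⁻¹ = D * (w * c * w⁻¹) * D⁻¹ := by
            group
        _ = (D * c * D⁻¹)⁻¹ := by rw [hw]; group
  rcases hxz with hz | hz
  · obtain ⟨a1, a2, a3, a4⟩ := key c₁ w₁ _ ho₁ (by omega) hw₁ hz
    exact ⟨D * c₁ * D⁻¹, D * w₁ * D⁻¹, _, Or.inl rfl, a1, a2, a3, a4⟩
  · obtain ⟨a1, a2, a3, a4⟩ := key c₂ w₂ _ ho₂ (by omega) hw₂ hz
    exact ⟨D * c₂ * D⁻¹, D * w₂ * D⁻¹, _, Or.inr rfl, a1, a2, a3, a4⟩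

end even1

end Cfsg.Agent.Helper18.Dickson
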