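import Mathlib
import Cfsg.Agent.Helper18.DicksonEven1

set_option autoImplicit false

namespace Cfsg.Agent.Helper18.Dickson

open Matrix Cfsg.Agent.Helper12 Cfsg.Agent.Helper18.OutPSL2

local notation "SL2" => Matrix.SpecialLinearGroup (Fin 2)
local notation "M2" => Matrix (Fin 2) (Fin 2)

section even2

variable {K : Type*} [Field K]

theorem max_torus2 [Fintype K] [CharP K 2] (h4 : 4 ≤ Fintype.card K) (L : Subgroup (SL2 K))
    (hL : IsCoatom L) (k : SL2 K) (hk : (k : M2 K).trace ≠ 0)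
    (hnorm : ∀ x ∈ L, (x * k * x⁻¹) * k = k * (x * k * x⁻¹)) :
    Nonempty (L ≃* DihedralGroup (Fintype.card K - 1)) ∨
      Nonempty (L ≃* DihedralGroup (Fintype.card K + 1)) := by
  classical
  have h2 : (2 : K) = 0 := char2_two_eq_zero
  have hssk := ss_of_tr2 h2 k hk
  have hnsk := not_scalar_of_tr h2 k hk
  obtain ⟨c, w, m, hm, hord, hctr, hck, hw⟩ := torus_wit2 h4 k hk
  have hssc := ss_of_tr2 h2 c hctr
  have hnsc := not_scalar_of_tr h2 c hctr
  have hkc : ∀ y : SL2 K, y * k = k * y ↔ y * c = c * y := by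
    intro y
    constructor
    · intro h; exact ct_sl y k c hnsk h hck.symm
    · intro h; exact ct_sl y c k hnsc h hck
  have hLN : L ≤ nz k := by
    intro x hx
    rw [mem_nz]
    intro h
    rw [mem_cz, mem_cz]
    constructor
    · intro hh
      have h1 : (x * h * x⁻¹) * (x * k * x⁻¹) = (x * k * x⁻¹) * (x * h * x⁻¹) :=
        (comm_conj hh x).eq
      have hns : ¬ Sl2Scalar (x * k * x⁻¹) :=
        not_scalar_of_tr h2 _ (by rw [tr_conj]; exact hk)
      exact ct_sl _ _ _ hns h1 (hnorm x hx)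
    · intro hh
      have hx' := hnorm x⁻¹ (L.inv_mem hx)
      rw [inv_inv] at hx'
      have hns : ¬ Sl2Scalar (x⁻¹ * k * x) := by
        apply not_scalar_of_tr h2
        have h5 := tr_conj x⁻¹ k
        rw [inv_inv] at h5
        rw [h5]; exact hk
      have e : k = x * (x⁻¹ * k * x) * x⁻¹ := by group
      have hh' : Commute (x * h * x⁻¹) (x * (x⁻¹ * k * x) * x⁻¹) := by rw [← e]; exact hh
      have h1 : h * (x⁻¹ * k * x) = (x⁻¹ * k * x) * h := ((comm_conj_iff x).mp hh').eq
      exact ct_sl _ _ _ hns h1 hx'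
  have hNtop : nz k ≠ ⊤ := by
    intro htop
    have hP : ∀ b : K, b ≠ 0 → sl2U b * k * (sl2U b)⁻¹ = k⁻¹ := by
      intro b hb
      have hmem : sl2U b ∈ nz k := by rw [htop]; exact Subgroup.mem_top _
      have h1 := (mem_nz.mp hmem k).mp (mem_cz.mpr (Commute.refl k))
      have h3 : k * (sl2U b * k * (sl2U b)⁻¹) = (sl2U b * k * (sl2U b)⁻¹) * k :=
        (mem_cz.mp h1).eq.symm
      rcases semis_conj2 h2 k _ hssk h3 (tr_conj _ _) with h | h
      · exfalso
        have h5 : k * sl2U b = sl2U b * k := (mul_inv_eq_iff_eq_mul.mp h).symm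
        exact hssk (comm_U_tr hb k h5)
      · exact h
    obtain ⟨ω, hω0, hω1⟩ : ∃ ω : K, ω ≠ 0 ∧ ω ≠ 1 := by
      by_contra hcon
      push_neg at hcon
      have hsub : (Finset.univ : Finset K) ⊆ {0, 1} := fun ω _ => by
        by_cases h0 : ω = 0
        · rw [h0]; exact Finset.mem_insert_self _ _
        · rw [hcon ω h0]; exact Finset.mem_insert_of_mem (Finset.mem_singleton_self _)
      have h5 := (Finset.card_le_card hsub).trans Finset.card_le_two
      rw [Finset.card_univ] at h5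
      omega
    have hne : (1 : K) + ω ≠ 0 := by
      intro h; apply hω1; linear_combination h - h2
    have h1 := hP 1 one_ne_zero
    have hω := hP ω hω0
    have h3 : sl2U (1 + ω) * k * (sl2U (1 + ω))⁻¹ = k := by
      rw [← sl2U_mul]
      calc sl2U 1 * sl2U ω * k * (sl2U 1 * sl2U ω)⁻¹
          = sl2U 1 * (sl2U ω * k * (sl2U ω)⁻¹) * (sl2U 1)⁻¹ := by group
        _ = (sl2U 1 * k * (sl2U 1)⁻¹)⁻¹ := by rw [hω]; group
        _ = k := by rw [h1, inv_inv]
    have h5 : k * sl2U (1 + ω) = sl2U (1 + ω) * k := (mul_inv_eq_iff_eq_mul.mp h3).symm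
    exact hssk (comm_U_tr hne k h5)
  have hLeq : L = nz k := by
    by_contra hne
    exact hNtop (hL.2 _ (lt_of_le_of_ne hLN hne))
  have hcL : c ∈ L := by
    rw [hLeq]; exact cz_le_nz k (mem_cz.mpr hck)
  have hwL : w ∈ L := by
    rw [hLeq, mem_nz]
    intro h
    rw [mem_cz, mem_cz]
    constructor
    · intro hh
      have h1 : h * c = c * h := (hkc h).mp hh.eq
      have h3 : Commute (w * h * w⁻¹) (w * c * w⁻¹) := comm_conj h1 w
      rw [hw] at h3
      exact (hkc _).mpr (Commute.inv_right_iff.mp h3).eq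
    · intro hh
      have h1 : (w * h * w⁻¹) * c = c * (w * h * w⁻¹) := (hkc _).mp hh.eq
      have h3 : Commute (w * h * w⁻¹) (w * c * w⁻¹) := by
        rw [hw]; exact Commute.inv_right h1
      exact (hkc h).mpr ((comm_conj_iff w).mp h3).eq
  have hm1 : Fintype.card K - 1 ≤ m := by rcases hm with h | h <;> omega
  have hm2 : m ≤ Fintype.card K + 1 := by rcases hm with h | h <;> omega
  have hbound := torus_norm_bound L hL.1 c w hcL hwL hssc hw m hord hm1 hm2
    (fun h => absurd h2 h) h4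
  have hnc : w * c ≠ c * w := inv_noncomm c w hssc hw
  have htrw : (w : M2 K).trace = 0 := inv_tr_zero c w hw hnc
  have hw2 : w * w = 1 := sq_one2 h2 w htrw
  have hw1 : w ≠ 1 := by
    intro h; apply hnc; rw [h, one_mul, mul_one]
  have h1 : w * c = c⁻¹ * w := by rw [← hw]; group
  have hy2 : (w * c) * (w * c) = 1 := by
    calc w * c * (w * c) = w * c * (c⁻¹ * w) := by rw [← h1]
      _ = w * w := by group
      _ = 1 := hw2
  have hc1 : c ≠ 1 := by
    intro h; apply hnc; rw [h, one_mul, mul_one]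
  have hy1 : w * c ≠ 1 := by
    intro h
    have e : c = w⁻¹ := eq_inv_of_mul_eq_one_right h
    apply hnc
    rw [e, mul_inv_cancel, inv_mul_cancel]
  have hxy : w ≠ w * c := by
    intro h
    exact hc1 (mul_eq_left.mp h.symm)
  have hox : orderOf w = 2 := orderOf_eq_prime (by rw [pow_two]; exact hw2) hw1
  have hoy : orderOf (w * c) = 2 := orderOf_eq_prime (by rw [pow_two]; exact hy2) hy1
  have hprod : w * (w * c) = c := by rw [← mul_assoc, hw2, one_mul]
  haveI : NeZero (orderOf (w * (w * c))) := ⟨(orderOf_pos _).ne'⟩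
  have hd := Cfsg.Agent.S0444.dihedral_of_involutions w (w * c) hox hoy hxy
  rw [hprod, hord] at hd
  obtain ⟨e⟩ := hd
  have hHL : Subgroup.closure ({w, w * c} : Set (SL2 K)) ≤ L := by
    rw [Subgroup.closure_le]
    intro y hy
    rcases hy with rfl | rfl
    · exact hwL
    · exact L.mul_mem hwL hcL
  have hcardH : Nat.card (Subgroup.closure ({w, w * c} : Set (SL2 K))) = 2 * m := by
    rw [Nat.card_congr e.toEquiv, DihedralGroup.nat_card]
  have hEq : Subgroup.closure ({w, w * c} : Set (SL2 K)) = L :=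
    Subgroup.eq_of_le_of_card_ge hHL (by rw [hcardH]; exact hbound)
  have hres : Nonempty (L ≃* DihedralGroup m) := ⟨(MulEquiv.subgroupCongr hEq.symm).trans e⟩
  rcases hm with rfl | rfl
  · left; exact hres
  · right; exact hres

variable {L : Subgroup (SL2 K)} {s t : K}

theorem even_a2_cz [Fintype K] [CharP K 2] (S : Setup L s t) (ha2 : Nat.card (PU L) = 2) :
    ∃ g : L, ((g : SL2 K) : M2 K).trace ^ 2 ≠ 4 ∧ Nat.card L = 2 * Nat.card (cz g) := by
  have h2 : (2 : K) = 0 := char2_two_eq_zero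
  have hct := ct_L S
  obtain ⟨a, z, B, G, kU, hh, r, ha, hz, hBd, hGd, hkUd, ha2', hpa, hz1, hh1, hr1, hB, hcompl,
    hG, hnd, hkU⟩ := base_counts2' S
  have hz1' : z = 1 := by rw [← hz]; exact card_center2 h2 S
  have haeq : a = 2 := by rw [← ha]; exact ha2
  subst hz1' haeq
  have hUc : S.U ∉ Subgroup.center L := by
    intro h
    have h1 := ((center_iff S _).mp h).1
    rw [U01 S] at h1
    exact S.hs h1
  have hBc : ∀ g ∈ BU L, g ∈ cz S.U := by
    intro g₀ hg₀B
    by_contra hg₀c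
    have hg10 := mem_BU.mp hg₀B
    have hne : ((g₀ : SL2 K) : M2 K) 0 0 ≠ ((g₀ : SL2 K) : M2 K) 1 1 :=
      fun h => hg₀c ((czU_iff S g₀).mpr ⟨hg10, h⟩)
    obtain ⟨hC1, hC2⟩ := card_cz_upper S g₀ hg₀B hne
    rw [hz, ha] at hC2
    have hbot : cz g₀ ≠ ⊥ := by
      intro hb
      have hmem : g₀ ∈ cz g₀ := mem_cz.mpr (Commute.refl g₀)
      rw [hb, Subgroup.mem_bot] at hmem
      apply hne
      rw [hmem]
      simp
    have h5 := (cz g₀).one_lt_card_iff_ne_bot.mpr hbot
    omega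
  have hBeq : B = 2 := by
    have h5 : BU L = cz S.U := le_antisymm hBc (by rw [← nzU_eq S]; exact cz_le_nz _)
    rw [← hBd, h5, card_czU2 h2 S, hz, ha]
  subst hBeq
  have hunip : ∀ k : L, k ∉ Subgroup.center L → k ∉ cls S.U →
      ((k : SL2 K) : M2 K).trace ^ 2 ≠ 4 :=
    fun k hk hk' htr => hk' (unip_in_clsU2 h2 S hnd k hk htr)
  have hnc := nc_count (G := L)
  rw [hz, hGd] at hnc
  have hex : ∃ g : L, g ∉ Subgroup.center L ∧ g ∉ cls S.U := by
    by_contra hcon
    have hsub : {k : L | k ∉ Subgroup.center L} ⊆ cls S.U := by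
      intro k hk
      by_contra hk'
      exact hcon ⟨k, hk, hk'⟩
    have h5 := Set.ncard_le_ncard hsub
    rw [hkUd] at h5
    omega
  obtain ⟨g, hgc, hgU⟩ := hex
  have hss := hunip g hgc hgU
  obtain ⟨-, e, j, he, hj, hcz, hκ⟩ := semis_data2 h2 S g hss
  have hcount := rest_count hct hUc hgc hgU
  rw [hz, hGd] at hκ
  rw [hz, hGd, hkUd] at hcount
  have hRr : (rest S.U g).ncard ≠ 0 → G ≤ 4 * (rest S.U g).ncard := by
    intro hne
    obtain ⟨g₁, hg₁⟩ := Set.nonempty_of_ncard_ne_zero hne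
    obtain ⟨hg₁c, e₁, j₁, he₁, hj₁, hcz₁, hκ₁⟩ := semis_data2 h2 S g₁ (hunip g₁ hg₁.1 hg₁.2.1)
    rw [hz, hGd] at hκ₁
    have hle₁ := one_cls_le hct hUc hgc hg₁
    have q1 := numQ G 1 _ j₁ e₁ (le_refl 1) he₁ hj₁ hκ₁
    omega
  have hGe := numE G r e j (cls g).ncard kU (rest S.U g).ncard hG he hj hκ hkU hcount hRr
  refine ⟨g, hss, ?_⟩
  rw [hGd, hGe, hcz, hz, one_mul]

theorem wit_a2 [Fintype K] [CharP K 2] (S : Setup L s t) (ha2 : Nat.card (PU L) = 2) :
    ∃ k : SL2 K, k ∈ L ∧ (k : M2 K).trace ≠ 0 ∧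
      ∀ x ∈ L, (x * k * x⁻¹) * k = k * (x * k * x⁻¹) := by
  have h2 : (2 : K) = 0 := char2_two_eq_zero
  obtain ⟨g, hss, hcard⟩ := even_a2_cz S ha2
  have hidx : (cz g).index = 2 := by
    have h1 := (cz g).index_mul_card
    rw [hcard] at h1
    have hpos : 0 < Nat.card (cz g) := Nat.card_pos
    exact Nat.eq_of_mul_eq_mul_right hpos h1
  haveI hnorm : (cz g).Normal := Subgroup.normal_of_index_eq_two hidx
  refine ⟨g, g.2, ?_, ?_⟩
  · intro h0
    apply hss
    rw [h0]
    linear_combination (-2 : K) * h2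
  · intro x hx
    have hmem : (⟨x, hx⟩ : L) * g * (⟨x, hx⟩ : L)⁻¹ ∈ cz g :=
      hnorm.conj_mem g (mem_cz.mpr (Commute.refl g)) ⟨x, hx⟩
    exact (comm_sub _ _).mp (mem_cz.mp hmem)

theorem wit_odd [Fintype K] [CharP K 2] (L : Subgroup (SL2 K)) (hbot : L ≠ ⊥)
    (hU : ∀ x ∈ L, (x : M2 K).trace = 0 → x = 1) :
    ∃ k : SL2 K, k ∈ L ∧ (k : M2 K).trace ≠ 0 ∧
      ∀ x ∈ L, (x * k * x⁻¹) * k = k * (x * k * x⁻¹) := by
  classical
  have h2 : (2 : K) = 0 := char2_two_eq_zero
  haveI : Fact (Nat.Prime 2) := ⟨Nat.prime_two⟩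
  have hodd : ¬ 2 ∣ Nat.card L := by
    intro hdvd
    obtain ⟨x, hx⟩ := exists_prime_orderOf_dvd_card' 2 hdvd
    have hx2 : x ^ 2 = 1 := by
      have h5 := pow_orderOf_eq_one x
      rw [hx] at h5
      exact h5
    have hx2' : (x : SL2 K) * (x : SL2 K) = 1 := by
      have h5 := congrArg Subtype.val hx2
      rw [pow_two] at h5
      exact h5
    have h1 := hU _ x.2 (tr0_of_sq2 h2 _ hx2')
    have hx1 : x = 1 := Subtype.ext h1
    rw [hx1, orderOf_one] at hx
    omega
  have hab : ∀ a b : L, a * b = b * a := by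
    by_contra hcon
    obtain ⟨g₁, h₁⟩ : ∃ g₁ : L, g₁ ∉ Subgroup.center L := by
      by_contra hc
      apply hcon
      intro a b
      have ha : a ∈ Subgroup.center L := by
        by_contra h; exact hc ⟨a, h⟩
      exact (Subgroup.mem_center_iff.mp ha b).symm
    have hct := ct_gen L
    have hn : ∀ g : L, g ∉ Subgroup.center L → Nat.card (nz g) ≤ 2 * Nat.card (cz g) := by
      intro g hg
      apply semis_norm2 h2 g
      apply ss_of_tr2 h2
      intro h0
      apply hg
      have h5 : g = 1 := Subtype.ext (hU _ g.2 h0)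
      rw [h5]; exact Subgroup.one_mem _
    rcases pprime_abs hct hn g₁ h₁ with ⟨g, hg, hle⟩ | h | h | h
    · obtain ⟨i, hi⟩ := Subgroup.card_subgroup_dvd_card (cz g)
      have hpos : 0 < Nat.card (cz g) := Nat.card_pos
      have hi2 : i ≤ 2 := by
        by_contra hi3
        have h5 : Nat.card (cz g) * 3 ≤ Nat.card (cz g) * i := Nat.mul_le_mul_left _ (by omega)
        omega
      have hi1 : i = 1 := by
        rcases Nat.lt_or_ge i 1 with h | h
        · have : i = 0 := by omega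
          rw [this, mul_zero] at hi
          have hLpos : 0 < Nat.card L := Nat.card_pos
          omega
        · rcases Nat.lt_or_ge i 2 with h' | h'
          · omega
          · exfalso
            have : i = 2 := by omega
            rw [this] at hi
            exact hodd ⟨Nat.card (cz g), by rw [hi]; ring⟩
      rw [hi1, mul_one] at hi
      have htop : cz g = ⊤ := (Subgroup.card_eq_iff_eq_top (cz g)).mp hi.symm
      apply hg
      rw [Subgroup.mem_center_iff]
      intro h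
      have hmem : h ∈ cz g := by rw [htop]; exact Subgroup.mem_top _
      exact (mem_cz.mp hmem).eq
    · exact hodd ⟨6 * Nat.card (Subgroup.center L), by rw [h]; ring⟩
    · exact hodd ⟨12 * Nat.card (Subgroup.center L), by rw [h]; ring⟩
    · exact hodd ⟨30 * Nat.card (Subgroup.center L), by rw [h]; ring⟩
  obtain ⟨k, hk1⟩ := (Subgroup.ne_bot_iff_exists_ne_one).mp hbot
  refine ⟨k, k.2, ?_, ?_⟩
  · intro h0
    exact hk1 (Subtype.ext (hU _ k.2 h0))
  · intro x hx
    have hxk : x * (k : SL2 K) = (k : SL2 K) * x := congrArg Subtype.val (hab ⟨x, hx⟩ k)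
    have e : x * (k : SL2 K) * x⁻¹ = k := by rw [hxk, mul_inv_cancel_right]
    rw [e]

end even2

end Cfsg.Agent.Helper18.Dickson
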