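import Mathlib
import Cfsg.Agent.Helper18.DicksonEven2

set_option autoImplicit false

namespace Cfsg.Agent.Helper18.Dickson

open Matrix Cfsg.Agent.Helper12 Cfsg.Agent.Helper18.OutPSL2

local notation "SL2" => Matrix.SpecialLinearGroup (Fin 2)
local notation "M2" => Matrix (Fin 2) (Fin 2)

section even3

variable {F K : Type*} [Field F] [Field K]

theorem conj01 (g : SL2 F) (y : F) :
    ((g * sl2U y * g⁻¹ : SL2 F) : M2 F) 0 1 = y * (g : M2 F) 0 0 ^ 2 := by
  obtain ⟨a, b, c, d, hg, hdet⟩ := sl2_eta g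
  rw [Matrix.SpecialLinearGroup.coe_mul, Matrix.SpecialLinearGroup.coe_mul,
    Matrix.SpecialLinearGroup.coe_inv, hg, sl2U_val, Matrix.adjugate_fin_two_of,
    Matrix.mul_fin_two, Matrix.mul_fin_two]
  show (a * 1 + b * 0) * -b + (a * y + b * 1) * a = y * a ^ 2
  ring

theorem coatom_map {G H : Type*} [Group G] [Group H] (e : G ≃* H) (L : Subgroup G)
    (hL : IsCoatom L) : IsCoatom (L.map e.toMonoidHom) :=
  (OrderIso.isCoatom_iff e.mapSubgroup L).mpr hL

theorem frob_add_iter [Fintype K] (f : K →+* F) (n : ℕ) (x y : F) :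
    (x + y) ^ (Fintype.card K ^ n) = x ^ (Fintype.card K ^ n) + y ^ (Fintype.card K ^ n) := by
  induction n generalizing x y with
  | zero => rw [pow_zero, pow_one, pow_one, pow_one]
  | succ n ih => rw [pow_succ, pow_mul, pow_mul, pow_mul, ih, frob_add f]

/-- fixed field of a power of the Frobenius of a subfield, characteristic two -/
def frobFix [Fintype K] (f : K →+* F) (h2 : (2 : F) = 0) (n : ℕ) : Subfield F where
  carrier := {x | x ^ (Fintype.card K ^ n) = x}
  mul_mem' := fun {x y} hx hy => by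
    have hx' : x ^ (Fintype.card K ^ n) = x := hx
    have hy' : y ^ (Fintype.card K ^ n) = y := hy
    show (x * y) ^ (Fintype.card K ^ n) = x * y
    rw [mul_pow, hx', hy']
  one_mem' := one_pow _
  add_mem' := fun {x y} hx hy => by
    have hx' : x ^ (Fintype.card K ^ n) = x := hx
    have hy' : y ^ (Fintype.card K ^ n) = y := hy
    show (x + y) ^ (Fintype.card K ^ n) = x + y
    rw [frob_add_iter f, hx', hy']
  zero_mem' := zero_pow (pow_ne_zero n Fintype.card_ne_zero)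
  neg_mem' := fun {x} hx => by
    have hx' : x ^ (Fintype.card K ^ n) = x := hx
    have e : -x = x := by linear_combination (-x) * h2
    show (-x) ^ (Fintype.card K ^ n) = -x
    rw [e]; exact hx'
  inv_mem' := fun x hx => by
    have hx' : x ^ (Fintype.card K ^ n) = x := hx
    show (x⁻¹) ^ (Fintype.card K ^ n) = x⁻¹
    rw [inv_pow, hx']

theorem mem_frobFix [Fintype K] (f : K →+* F) (h2 : (2 : F) = 0) (n : ℕ) (x : F) :
    x ∈ frobFix f h2 n ↔ x ^ (Fintype.card K ^ n) = x := Iff.rfl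

/-- the set of `x` with `sl2U x ∈ L` as a subfield -/
def uSub (L : Subgroup (SL2 F)) (h1 : sl2U (1 : F) ∈ L)
    (hmul : ∀ x y : F, sl2U x ∈ L → sl2U y ∈ L → sl2U (x * y) ∈ L)
    (hinv : ∀ x : F, sl2U x ∈ L → sl2U x⁻¹ ∈ L) : Subfield F where
  carrier := {x | sl2U x ∈ L}
  mul_mem' := fun {x y} hx hy => hmul x y hx hy
  one_mem' := h1
  add_mem' := fun {x y} hx hy => by
    show sl2U (x + y) ∈ L
    rw [← sl2U_mul]; exact L.mul_mem hx hy
  zero_mem' := by
    show sl2U (0 : F) ∈ L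
    rw [sl2U_zero]; exact L.one_mem
  neg_mem' := fun {x} hx => by
    show sl2U (-x) ∈ L
    rw [sl2U_neg_eq_inv]; exact L.inv_mem hx
  inv_mem' := fun x hx => hinv x hx

theorem sub_core [Fintype F] [Fintype K] [CharP F 2] (f : K →+* F) {L : Subgroup (SL2 F)}
    {s : F} (S : Setup L s 1) (hL : IsCoatom L)
    (hBr : ∀ g : L, g ∉ BU L → ∃ u ∈ PU L, ∃ n ∈ BU L, g = u * S.Y * n)
    (hU : sl2U (1 : F) ∈ L) (hfA : ∀ k, sl2U (f k) ∈ L)
    (hbot : ∀ x, sl2U x ∈ L → ∃ k, f k = x) (h4 : 4 ≤ Fintype.card K) :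
    ∃ r : ℕ, r.Prime ∧ Fintype.card F = Fintype.card K ^ r ∧
      Nonempty (L ≃* Matrix.ProjectiveSpecialLinearGroup (Fin 2) K) := by
  classical
  have h2 : (2 : F) = 0 := char2_two_eq_zero
  have hY : lo (1 : F) ∈ L := by rw [← S.hY]; exact S.Y.2
  have hB : ∀ g : SL2 F, g ∈ L → (g : M2 F) 1 0 = 0 →
      g ∈ (Matrix.SpecialLinearGroup.map f : SL2 K →* SL2 F).range := by
    intro g hg hg10
    have hdet := det_upper g hg10
    have hd0 : (g : M2 F) 0 0 ≠ 0 := left_ne_zero_of_mul_eq_one hdet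
    have h11ne : (g : M2 F) 1 1 ≠ 0 := right_ne_zero_of_mul_eq_one hdet
    have hconj : sl2U ((g : M2 F) 0 0 ^ 2 * 1) ∈ L := by
      rw [← conj_U_upper g hg10 1]
      exact L.mul_mem (L.mul_mem hg hU) (L.inv_mem hg)
    obtain ⟨k, hk⟩ := hbot _ hconj
    obtain ⟨k', hk'⟩ := sq_mem_range2 h2 f ((g : M2 F) 0 0) k
      (by rw [hk]; ring)
    have h11 : (g : M2 F) 1 1 = ((g : M2 F) 0 0)⁻¹ := eq_inv_of_mul_eq_one_right hdet
    have hgl : g * lo 1 ∈ L := L.mul_mem hg hY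
    have hgl10 : ((g * lo 1 : SL2 F) : M2 F) 1 0 = (g : M2 F) 1 1 := by
      rw [mul10, hg10, lo_00, lo_10]; ring
    have hgl00 : ((g * lo 1 : SL2 F) : M2 F) 0 0 = (g : M2 F) 0 0 + (g : M2 F) 0 1 := by
      rw [mul00, lo_00, lo_10]; ring
    obtain ⟨α, hα, hrel⟩ := bruhat_ratio S hBr (g * lo 1) hgl (by rw [hgl10]; exact h11ne)
    obtain ⟨kα, hkα⟩ := hbot α hα
    rw [hgl00, hgl10, mul_one, mul_one] at hrel
    refine mem_range_map f g k' ((1 + kα) * k'⁻¹ - k') 0 k'⁻¹ hk' ?_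
      (by rw [map_zero, hg10]) (by rw [map_inv₀, hk', h11])
    rw [map_sub, map_mul, map_add, map_one, map_inv₀, hkα, hk', ← h11]
    linear_combination (-1 : F) * hrel
  have hLle : L ≤ (Matrix.SpecialLinearGroup.map f : SL2 K →* SL2 F).range := by
    intro g hg
    by_cases hg10 : (g : M2 F) 1 0 = 0
    · exact hB g hg hg10
    · obtain ⟨u, hu, n, hn, hgun⟩ := hBr ⟨g, hg⟩ (fun h => hg10 (mem_BU.mp h))
      have hg' : g = (u : SL2 F) * lo 1 * (n : SL2 F) := by
        have h5 := congrArg Subtype.val hgun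
        rw [← S.hY]
        exact h5
      have hu' : (u : SL2 F) ∈ (Matrix.SpecialLinearGroup.map f : SL2 K →* SL2 F).range := by
        have hx : sl2U (((u : SL2 F) : M2 F) 0 1) ∈ L := by
          rw [← PU_eq_sl2U hu]; exact u.2
        obtain ⟨k, hk⟩ := hbot _ hx
        rw [PU_eq_sl2U hu, ← hk, ← map_sl2U]
        exact ⟨_, rfl⟩
      have hn' : (n : SL2 F) ∈ (Matrix.SpecialLinearGroup.map f : SL2 K →* SL2 F).range :=
        hB _ n.2 (mem_BU.mp hn)
      have hY' : lo (1 : F) ∈ (Matrix.SpecialLinearGroup.map f : SL2 K →* SL2 F).range :=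
        ⟨lo 1, by rw [map_lo, map_one]⟩
      rw [hg']
      exact Subgroup.mul_mem _ (Subgroup.mul_mem _ hu' hY') hn'
  have hge : (Matrix.SpecialLinearGroup.map f : SL2 K →* SL2 F).range ≤ L := by
    have hcomap : L.comap (Matrix.SpecialLinearGroup.map f : SL2 K →* SL2 F) = ⊤ :=
      sl2_generate (lo 1) (by rw [lo_10]; exact one_ne_zero) _
        (fun y => by
          show Matrix.SpecialLinearGroup.map f (sl2U y) ∈ L
          rw [map_sl2U]; exact hfA y)
        (fun y => by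
          show Matrix.SpecialLinearGroup.map f (lo 1 * sl2U y * (lo 1)⁻¹) ∈ L
          rw [map_mul, map_mul, map_inv, map_lo, map_sl2U, map_one]
          exact L.mul_mem (L.mul_mem hY (hfA y)) (L.inv_mem hY))
    rintro _ ⟨y, rfl⟩
    have hy : y ∈ L.comap (Matrix.SpecialLinearGroup.map f : SL2 K →* SL2 F) := by
      rw [hcomap]; exact Subgroup.mem_top _
    exact hy
  have hLeq : L = (Matrix.SpecialLinearGroup.map f : SL2 K →* SL2 F).range :=
    le_antisymm hLle hge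
  have h2K : (2 : K) = 0 := by
    apply f.injective
    rw [map_ofNat, map_zero]; exact h2
  have hiso : Nonempty (L ≃* Matrix.ProjectiveSpecialLinearGroup (Fin 2) K) := by
    have e1 : SL2 K ≃* (Matrix.SpecialLinearGroup.map f : SL2 K →* SL2 F).range :=
      MonoidHom.ofInjective (map_inj f)
    have e2 : SL2 K ≃* Matrix.ProjectiveSpecialLinearGroup (Fin 2) K :=
      MulEquiv.ofBijective (pr (F := K)) ⟨pr_inj_char2 h2K, pr_surj⟩
    exact ⟨(MulEquiv.subgroupCongr hLeq).trans (e1.symm.trans e2)⟩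
  obtain ⟨r, hcard⟩ : ∃ r : ℕ, Fintype.card F = Fintype.card K ^ r := by
    letI := f.toAlgebra
    exact ⟨_, Module.card_eq_pow_finrank (K := K) (V := F)⟩
  have hinj : Function.Injective f := f.injective
  have hKF : Fintype.card K ≤ Fintype.card F := Fintype.card_le_of_injective f hinj
  have hr0 : r ≠ 0 := by
    intro h; rw [h, pow_zero] at hcard; omega
  have hr1 : r ≠ 1 := by
    intro h
    rw [h, pow_one] at hcard
    have hbij : Function.Bijective f :=
      (Fintype.bijective_iff_injective_and_card f).mpr ⟨hinj, hcard.symm⟩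
    apply hL.1
    rw [hLeq, eq_top_iff]
    intro g _
    obtain ⟨a, ha⟩ := hbij.2 ((g : M2 F) 0 0)
    obtain ⟨b, hb⟩ := hbij.2 ((g : M2 F) 0 1)
    obtain ⟨c, hc⟩ := hbij.2 ((g : M2 F) 1 0)
    obtain ⟨d, hd⟩ := hbij.2 ((g : M2 F) 1 1)
    exact mem_range_map f g a b c d ha hb hc hd
  have hr2 : 2 ≤ r := by omega
  refine ⟨r, ?_, hcard, hiso⟩
  by_contra hnp
  obtain ⟨a, b, ha, hb, hab⟩ := (Nat.not_prime_iff_exists_mul_eq hr2).mp hnp
  have ha2 : 2 ≤ a := by
    rcases Nat.lt_or_ge a 2 with h | h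
    · exfalso
      interval_cases a
      · rw [zero_mul] at hab; omega
      · rw [one_mul] at hab; omega
    · exact h
  have hb2 : 2 ≤ b := by
    rcases Nat.lt_or_ge b 2 with h | h
    · exfalso
      interval_cases b
      · rw [mul_zero] at hab; omega
      · rw [mul_one] at hab; omega
    · exact h
  obtain ⟨q₁, hq₁⟩ : ∃ q₁ : ℕ, q₁ = Fintype.card K ^ a := ⟨_, rfl⟩
  have hq₁K : Fintype.card K * 4 ≤ q₁ := by
    rw [hq₁]
    calc Fintype.card K * 4 ≤ Fintype.card K * Fintype.card K := Nat.mul_le_mul_left _ h4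
      _ = Fintype.card K ^ 2 := (pow_two _).symm
      _ ≤ Fintype.card K ^ a := Nat.pow_le_pow_right (by omega) ha2
  have hFq : Fintype.card F = q₁ ^ b := by rw [hcard, hq₁, ← pow_mul, hab]
  have hq₁F : q₁ * 4 ≤ Fintype.card F := by
    rw [hFq]
    calc q₁ * 4 ≤ q₁ * q₁ := Nat.mul_le_mul_left _ (by omega)
      _ = q₁ ^ 2 := (pow_two _).symm
      _ ≤ q₁ ^ b := Nat.pow_le_pow_right (by omega) hb2
  have hq₁pos : 0 < q₁ := by omega
  have hsub : ∀ k, f k ∈ frobFix f h2 a := fun k => by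
    rw [mem_frobFix, ← map_pow, FiniteField.pow_card_pow]
  obtain ⟨u, hu⟩ := sl2_exists_orderOf_card_sub_one (F := F)
  rw [← sl2diagHom_apply, orderOf_injective sl2diagHom sl2diagHom_injective] at hu
  have hzpow : ∀ m : ℕ, (u : F) ^ m = 1 → (Fintype.card F - 1) ∣ m := by
    intro m hm
    rw [← hu]
    apply orderOf_dvd_of_pow_eq_one
    apply Units.ext
    rw [Units.val_pow_eq_pow_val, Units.val_one]; exact hm
  have hz0 : (u : F) ≠ 0 := u.ne_zero
  have hzF : (u : F) ^ (Fintype.card F - 1) = 1 := by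
    rw [← hu, ← Units.val_pow_eq_pow_val, pow_orderOf_eq_one, Units.val_one]
  have hz : (u : F) ∉ frobFix f h2 a := by
    intro h
    rw [mem_frobFix, ← hq₁] at h
    have h5 : (u : F) ^ (q₁ - 1) = 1 := by
      have h6 : (u : F) ^ (q₁ - 1) * (u : F) = 1 * (u : F) := by
        rw [← pow_succ, Nat.sub_add_cancel hq₁pos, one_mul]; exact h
      exact mul_right_cancel₀ hz0 h6
    have h7 := Nat.le_of_dvd (by omega) (hzpow _ h5)
    omega
  obtain ⟨e, he⟩ : (q₁ - 1) ∣ (Fintype.card F - 1) := by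
    rw [hFq]
    simpa only [one_pow] using Nat.sub_dvd_pow_sub_pow q₁ 1 b
  have he0 : 0 < e := by
    rcases Nat.eq_zero_or_pos e with h | h
    · rw [h, mul_zero] at he; omega
    · exact h
  obtain ⟨ξ, hξ⟩ : ∃ ξ : F, ξ = (u : F) ^ e := ⟨_, rfl⟩
  have hξ0 : ξ ≠ 0 := by rw [hξ]; exact pow_ne_zero _ hz0
  have hξ1 : ξ ^ (q₁ - 1) = 1 := by
    rw [hξ, ← pow_mul, mul_comm, ← he]; exact hzF
  have hξF₂ : ξ ∈ frobFix f h2 a := by
    rw [mem_frobFix, ← hq₁]
    have h5 : ξ ^ q₁ = ξ ^ (q₁ - 1) * ξ := by rw [← pow_succ, Nat.sub_add_cancel hq₁pos]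
    rw [h5, hξ1, one_mul]
  have hξK : ∀ k, f k ≠ ξ := by
    intro k hk
    have h5 : ξ ^ Fintype.card K = ξ := by rw [← hk, ← map_pow, FiniteField.pow_card]
    have h6 : ξ ^ (Fintype.card K - 1) = 1 := by
      have h7 : ξ ^ (Fintype.card K - 1) * ξ = 1 * ξ := by
        rw [← pow_succ, Nat.sub_add_cancel (by omega), one_mul]; exact h5
      exact mul_right_cancel₀ hξ0 h7
    rw [hξ, ← pow_mul] at h6
    have h8 := hzpow _ h6
    rw [he] at h8
    have h9 : (q₁ - 1) ∣ (Fintype.card K - 1) := by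
      rw [mul_comm] at h8
      exact Nat.dvd_of_mul_dvd_mul_left he0 h8
    have h10 := Nat.le_of_dvd (by omega) h9
    omega
  have hLM : L ≤ (Matrix.SpecialLinearGroup.map (frobFix f h2 a).subtype :
      SL2 (frobFix f h2 a) →* SL2 F).range := by
    intro g hg
    rw [hLeq] at hg
    obtain ⟨y, rfl⟩ := hg
    exact mem_range_map (frobFix f h2 a).subtype _ ⟨f ((y : M2 K) 0 0), hsub _⟩
      ⟨f ((y : M2 K) 0 1), hsub _⟩ ⟨f ((y : M2 K) 1 0), hsub _⟩ ⟨f ((y : M2 K) 1 1), hsub _⟩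
      (Cfsg.Agent.S0805.map_entry f y 0 0).symm (Cfsg.Agent.S0805.map_entry f y 0 1).symm
      (Cfsg.Agent.S0805.map_entry f y 1 0).symm (Cfsg.Agent.S0805.map_entry f y 1 1).symm
  have hne : L ≠ (Matrix.SpecialLinearGroup.map (frobFix f h2 a).subtype :
      SL2 (frobFix f h2 a) →* SL2 F).range := by
    intro h
    have h5 : sl2U ξ ∈ (Matrix.SpecialLinearGroup.map (frobFix f h2 a).subtype :
        SL2 (frobFix f h2 a) →* SL2 F).range :=
      mem_range_map (frobFix f h2 a).subtype (sl2U ξ) 1 ⟨ξ, hξF₂⟩ 0 1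
        (by rw [map_one, sl2U_00]) (by rw [sl2U_01]; rfl) (by rw [map_zero, sl2U_10])
        (by rw [map_one, sl2U_11])
    rw [← h, hLeq] at h5
    obtain ⟨y, hy⟩ := h5
    have h6 := congrArg (fun g : SL2 F => (g : M2 F) 0 1) hy
    simp only [Cfsg.Agent.S0805.map_entry, sl2U_01] at h6
    exact hξK _ h6
  have hMtop : (Matrix.SpecialLinearGroup.map (frobFix f h2 a).subtype :
      SL2 (frobFix f h2 a) →* SL2 F).range ≠ ⊤ := by
    intro h
    have h5 : sl2U (u : F) ∈ (Matrix.SpecialLinearGroup.map (frobFix f h2 a).subtype :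
        SL2 (frobFix f h2 a) →* SL2 F).range := by rw [h]; exact Subgroup.mem_top _
    obtain ⟨y, hy⟩ := h5
    have h6 := congrArg (fun g : SL2 F => (g : M2 F) 0 1) hy
    simp only [Cfsg.Agent.S0805.map_entry, sl2U_01] at h6
    apply hz
    rw [← h6]
    exact ((y : M2 (frobFix f h2 a)) 0 1).2
  exact hMtop (hL.2 _ (lt_of_le_of_ne hLM hne))

theorem sub_case [Fintype F] [CharP F 2] {L : Subgroup (SL2 F)} {s : F} (S : Setup L s 1)
    (ha4 : 4 ≤ Nat.card (PU L)) (hL : IsCoatom L) :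
    ∃ (F₀ : Type) (_ : Field F₀) (_ : Fintype F₀) (r : ℕ), r.Prime ∧ Fintype.card F₀ ≠ 2 ∧
      Fintype.card F = Fintype.card F₀ ^ r ∧
      Nonempty (L ≃* Matrix.ProjectiveSpecialLinearGroup (Fin 2) F₀) := by
  classical
  have h2 : (2 : F) = 0 := char2_two_eq_zero
  have hBr := struct2 S ha4
  have hY : lo (1 : F) ∈ L := by rw [← S.hY]; exact S.Y.2
  have hU1 : sl2U (1 : F) ∈ L := by
    obtain ⟨a, z, B, G, kU, hh, r, ha, hz, hBd, hGd, hkUd, ha4a, hpa, hz1, hh1, hr1, hB, hcompl,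
      hG, hnd, hkU⟩ := base_counts2 S ha4
    have hYc : S.Y ∉ Subgroup.center L := by
      intro h
      have h1 := ((center_iff S _).mp h).2.1
      rw [S.hY, lo_10] at h1
      exact one_ne_zero h1
    have htrY : ((S.Y : SL2 F) : M2 F).trace ^ 2 = 4 := by
      rw [S.hY, Matrix.trace_fin_two, lo_00, lo_11]; norm_num
    obtain ⟨-, x, hx⟩ := unip_in_clsU2 h2 S hnd S.Y hYc htrY
    have h5 := (comm_sub _ _).mp hx
    have h6 : ((x * S.U * x⁻¹ : L) : SL2 F) = (x : SL2 F) * sl2U s * (x : SL2 F)⁻¹ := by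
      rw [← S.hU]; rfl
    rw [h6, S.hY] at h5
    have h7 := lo_comm01 one_ne_zero _ h5.symm
    rw [conj01] at h7
    have hx00 : ((x : SL2 F) : M2 F) 0 0 = 0 := by
      rcases mul_eq_zero.mp h7 with h | h
      · exact absurd h S.hs
      · exact (pow_eq_zero_iff two_ne_zero).mp h
    have hdet : ((x : SL2 F) : M2 F) 0 0 * ((x : SL2 F) : M2 F) 1 1 -
        ((x : SL2 F) : M2 F) 0 1 * ((x : SL2 F) : M2 F) 1 0 = 1 := by
      have h8 := Matrix.SpecialLinearGroup.det_coe (x : SL2 F)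
      rw [Matrix.det_fin_two] at h8
      exact h8
    have hx10 : ((x : SL2 F) : M2 F) 1 0 ≠ 0 := by
      intro h
      rw [hx00, h, zero_mul, mul_zero, sub_zero] at hdet
      exact zero_ne_one hdet
    obtain ⟨α, hα, hrel⟩ := bruhat_ratio S hBr (x : SL2 F) x.2 hx10
    rw [hx00, zero_mul, mul_one] at hrel
    have h9 : 1 + α = 0 := by
      rcases mul_eq_zero.mp hrel.symm with h | h
      · exact h
      · exact absurd h hx10
    have hα1 : α = 1 := by linear_combination h9 - h2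
    rw [← hα1]; exact hα
  have hinvA : ∀ x : F, sl2U x ∈ L → x ≠ 0 → sl2U x⁻¹ ∈ L := by
    intro x hx hx0
    have hg : lo 1 * (sl2U x * lo 1) ∈ L := L.mul_mem hY (L.mul_mem hx hY)
    have h10 : ((lo 1 * (sl2U x * lo 1) : SL2 F) : M2 F) 1 0 = x := by
      rw [mul10, mul00, mul10, lo_10, lo_11, lo_00, sl2U_00, sl2U_01, sl2U_10, sl2U_11]
      linear_combination h2
    have h00 : ((lo 1 * (sl2U x * lo 1) : SL2 F) : M2 F) 0 0 = 1 + x := by
      rw [mul00, mul00, mul10, lo_00, lo_01, lo_10, sl2U_00, sl2U_01, sl2U_10, sl2U_11]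
      ring
    obtain ⟨α, hα, hrel⟩ := bruhat_ratio S hBr _ hg (by rw [h10]; exact hx0)
    rw [h00, h10, mul_one, mul_one] at hrel
    have e : α = x⁻¹ := by
      have h5 : α * x = 1 := by linear_combination -hrel
      exact eq_inv_of_mul_eq_one_left h5
    rw [← e]; exact hα
  obtain ⟨A, hA⟩ : ∃ A : AddSubgroup F, ∀ x, x ∈ A ↔ sl2U x ∈ L :=
    ⟨{ carrier := {x | sl2U x ∈ L}
       zero_mem' := by
         show sl2U (0 : F) ∈ L
         rw [sl2U_zero]; exact L.one_mem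
       add_mem' := by
         intro a b ha hb
         show sl2U (a + b) ∈ L
         rw [← sl2U_mul]; exact L.mul_mem ha hb
       neg_mem' := by
         intro a ha
         show sl2U (-a) ∈ L
         rw [sl2U_neg_eq_inv]; exact L.inv_mem ha }, fun x => Iff.rfl⟩
  have hmulA : ∀ x ∈ A, ∀ y ∈ A, x * y ∈ A :=
    hua_mul2 h2 A ((hA 1).mpr hU1) (fun x hx hx0 => (hA _).mpr (hinvA x ((hA x).mp hx) hx0))
  have hmul' : ∀ x y : F, sl2U x ∈ L → sl2U y ∈ L → sl2U (x * y) ∈ L :=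
    fun x y hx hy => (hA _).mp (hmulA x ((hA x).mpr hx) y ((hA y).mpr hy))
  have hinv' : ∀ x : F, sl2U x ∈ L → sl2U x⁻¹ ∈ L := by
    intro x hx
    by_cases hx0 : x = 0
    · rw [hx0, _root_.inv_zero, sl2U_zero]; exact L.one_mem
    · exact hinvA x hx hx0
  obtain ⟨F₁, hF₁⟩ : ∃ F₁ : Subfield F, ∀ x, x ∈ F₁ ↔ sl2U x ∈ L :=
    ⟨uSub L hU1 hmul' hinv', fun x => Iff.rfl⟩
  haveI : Fintype F₁ := Fintype.ofFinite F₁
  have hc4 : 4 ≤ Fintype.card F₁ := by
    have hφ : Function.Injective (fun g : PU L => (⟨(((g : L) : SL2 F) : M2 F) 0 1,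
        (hF₁ _).mpr (by rw [← PU_eq_sl2U g.2]; exact (g : L).2)⟩ : F₁)) := by
      intro g g' h
      have h1 : (((g : L) : SL2 F) : M2 F) 0 1 = (((g' : L) : SL2 F) : M2 F) 0 1 :=
        congrArg Subtype.val h
      apply Subtype.ext
      apply Subtype.ext
      rw [PU_eq_sl2U g.2, PU_eq_sl2U g'.2, h1]
    have h5 := Nat.card_le_card_of_injective _ hφ
    have h6 : Nat.card F₁ = Fintype.card F₁ := Nat.card_eq_fintype_card
    omega
  obtain ⟨p, hpchar, n, hpp, hcardF₁⟩ := FiniteField.card' F₁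
  haveI : Fact p.Prime := ⟨hpp⟩
  obtain ⟨instG⟩ : Nonempty (Fintype (GaloisField p n)) := ⟨Fintype.ofFinite _⟩
  have hcG : Fintype.card (GaloisField p n) = p ^ (n : ℕ) := by
    rw [← Nat.card_eq_fintype_card]; exact GaloisField.card p n n.ne_zero
  obtain ⟨e⟩ : Nonempty (GaloisField p n ≃+* F₁) :=
    ⟨FiniteField.ringEquivOfCardEq (by rw [hcG, hcardF₁])⟩
  obtain ⟨f, hf⟩ : ∃ f : GaloisField p n →+* F, ∀ k, f k = ((e k : F₁) : F) :=
    ⟨F₁.subtype.comp e.toRingHom, fun k => rfl⟩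
  have hfA : ∀ k, sl2U (f k) ∈ L := fun k => by rw [hf]; exact (hF₁ _).mp (e k).2
  have hbot : ∀ x, sl2U x ∈ L → ∃ k, f k = x := fun x hx =>
    ⟨e.symm ⟨x, (hF₁ x).mpr hx⟩, by rw [hf, RingEquiv.apply_symm_apply]⟩
  have h4G : 4 ≤ Fintype.card (GaloisField p n) := by rw [hcG, ← hcardF₁]; exact hc4
  obtain ⟨r, hr, hcard, hiso⟩ := sub_core f S hL hBr hU1 hfA hbot h4G
  exact ⟨GaloisField p n, inferInstance, instG, r, hr, by omega, hcard, hiso⟩

end even3

end Cfsg.Agent.Helper18.Dickson
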