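import Mathlib
import Cfsg.Agent.Helper18.DicksonEven3

set_option autoImplicit false

namespace Cfsg.Agent.Helper18.Dickson

open Matrix Cfsg.Agent.Helper12 Cfsg.Agent.Helper18.OutPSL2

local notation "SL2" => Matrix.SpecialLinearGroup (Fin 2)
local notation "M2" => Matrix (Fin 2) (Fin 2)

section even4

variable {K : Type*} [Field K]

/-- maximal subgroups of `SL₂(q)`, `q ≥ 4` even -/
theorem even_max_sl2 [Fintype K] [CharP K 2] (h4 : 4 ≤ Fintype.card K) (L : Subgroup (SL2 K))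
    (hL : IsCoatom L) :
    Nat.card L = Fintype.card K * (Fintype.card K - 1) ∨
    Nonempty (L ≃* DihedralGroup (Fintype.card K - 1)) ∨
    Nonempty (L ≃* DihedralGroup (Fintype.card K + 1)) ∨
    (∃ (F₀ : Type) (_ : Field F₀) (_ : Fintype F₀) (r : ℕ), r.Prime ∧ Fintype.card F₀ ≠ 2 ∧
        Fintype.card K = Fintype.card F₀ ^ r ∧
        Nonempty (L ≃* Matrix.ProjectiveSpecialLinearGroup (Fin 2) F₀)) := by
  classical
  have h2 : (2 : K) = 0 := char2_two_eq_zero
  have hborel : borel K ≠ ⊤ := by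
    intro h
    have h5 : lo (1 : K) ∈ borel K := by rw [h]; exact Subgroup.mem_top _
    rw [mem_borel, lo_10] at h5
    exact one_ne_zero h5
  by_cases hU : ∀ x ∈ L, (x : M2 K).trace = 0 → x = 1
  · have hbot : L ≠ ⊥ := by
      intro h
      have hlt : L < borel K := by
        rw [h]
        apply bot_lt_iff_ne_bot.mpr
        intro hb
        have h5 : sl2U (1 : K) ∈ borel K := by rw [mem_borel, sl2U_10]
        rw [hb, Subgroup.mem_bot] at h5
        exact sl2U_ne_one one_ne_zero h5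
      exact hborel (hL.2 _ hlt)
    obtain ⟨k, hkL, hk, hn⟩ := wit_odd L hbot hU
    rcases max_torus2 h4 L hL k hk hn with h | h
    · right; left; exact h
    · right; right; left; exact h
  · obtain ⟨u, hu⟩ := not_forall.mp hU
    obtain ⟨huL, hu'⟩ := Classical.not_imp.mp hu
    obtain ⟨hutr, hu1⟩ := Classical.not_imp.mp hu'
    have hutr2 : (u : M2 K).trace = 2 := by rw [hutr, h2]
    by_cases hcomm : ∀ y ∈ L, (y : M2 K).trace = 2 → u * y = y * u
    · left
      obtain ⟨D, hD⟩ := borel_struct L u huL hutr2 hu1 hcomm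
      have hco := coatom_map (MulAut.conj D) L hL
      have hle : L.map (MulAut.conj D).toMonoidHom ≤ borel K := by
        rintro _ ⟨g, hg, rfl⟩
        exact hD g hg
      have heq : L.map (MulAut.conj D).toMonoidHom = borel K := by
        by_contra hne
        exact hborel (hco.2 _ (lt_of_le_of_ne hle hne))
      have hcard : Nat.card (L.map (MulAut.conj D).toMonoidHom) = Nat.card L :=
        Subgroup.card_map_of_injective (MulAut.conj D).injective
      rw [← hcard, heq, card_borel]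
    · obtain ⟨y, hy⟩ := not_forall.mp hcomm
      obtain ⟨hyL, hy'⟩ := Classical.not_imp.mp hy
      obtain ⟨hytr, hxy⟩ := Classical.not_imp.mp hy'
      obtain ⟨D, s, t, hs, ht, hDx, hDy⟩ := nfG u y hutr2 hytr hxy
      obtain ⟨θ, hθ⟩ : ∃ θ : SL2 K ≃* SL2 K,
          ∀ g, θ g = thetaZ (Units.mk0 t ht) (RingHom.id K) g :=
        ⟨MulEquiv.ofBijective (thetaZ (Units.mk0 t ht) (RingHom.id K))
          (Finite.injective_iff_bijective.mp (thetaZ_inj _ _)), fun g => rfl⟩
      obtain ⟨E, hE⟩ : ∃ E : SL2 K ≃* SL2 K, ∀ g, E g = θ (D * g * D⁻¹) :=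
        ⟨(MulAut.conj D).trans θ, fun g => rfl⟩
      have hEu : E u = sl2U (t * s) := by
        rw [hE, hDx, hθ, thetaZ_U, RingHom.id_apply, Units.val_mk0]
      have hEy : E y = lo 1 := by
        rw [hE, hDy, hθ, thetaZ_L, RingHom.id_apply, Units.val_inv_eq_inv_val, Units.val_mk0,
          inv_mul_cancel₀ ht]
      have hco := coatom_map E L hL
      have hUm : sl2U (t * s) ∈ L.map E.toMonoidHom := ⟨u, huL, hEu⟩
      have hYm : lo (1 : K) ∈ L.map E.toMonoidHom := ⟨y, hyL, hEy⟩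
      obtain ⟨S⟩ : Nonempty (Setup (L.map E.toMonoidHom) (t * s) 1) :=
        ⟨⟨mul_ne_zero ht hs, one_ne_zero, ⟨_, hUm⟩, ⟨_, hYm⟩, rfl, rfl⟩⟩
      have eL : L ≃* L.map E.toMonoidHom := E.subgroupMap L
      by_cases ha4 : 4 ≤ Nat.card (PU (L.map E.toMonoidHom))
      · obtain ⟨F₀, i1, i2, r, hr, h2', hc, ⟨e⟩⟩ := sub_case S ha4 hco
        right; right; right
        exact ⟨F₀, i1, i2, r, hr, h2', hc, ⟨eL.trans e⟩⟩
      · have ha2 : Nat.card (PU (L.map E.toMonoidHom)) = 2 := by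
          obtain ⟨a, z, B, G, kU, hh, r, ha, hz, hBd, hGd, hkUd, ha2', hpa, -⟩ :=
            base_counts2' S
          rw [ha] at ha4 ⊢
          obtain ⟨i, hi⟩ := hpa
          omega
        obtain ⟨k, hkL, hk, hn⟩ := wit_a2 S ha2
        rcases max_torus2 h4 _ hco k hk hn with ⟨⟨e⟩⟩ | ⟨⟨e⟩⟩
        · right; left; exact ⟨eL.trans e⟩
        · right; right; left; exact ⟨eL.trans e⟩

/-- maximal subgroups of `PSL₂(q)`, `q ≥ 4` even -/
theorem even_max_psl {F : Type*} [Field F] [Fintype F]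
    (heven : Even (Fintype.card F)) (h4 : 4 ≤ Fintype.card F)
    (M : Subgroup (Matrix.ProjectiveSpecialLinearGroup (Fin 2) F)) (hM : IsCoatom M) :
    Nat.card M = Fintype.card F * (Fintype.card F - 1) ∨
    Nonempty (M ≃* DihedralGroup (Fintype.card F - 1)) ∨
    Nonempty (M ≃* DihedralGroup (Fintype.card F + 1)) ∨
    (∃ (F₀ : Type) (_ : Field F₀) (_ : Fintype F₀) (r : ℕ), r.Prime ∧ Fintype.card F₀ ≠ 2 ∧
        Fintype.card F = Fintype.card F₀ ^ r ∧
        Nonempty (M ≃* Matrix.ProjectiveSpecialLinearGroup (Fin 2) F₀)) := by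
  obtain ⟨hpo, hpe⟩ := field_parity (K := F)
  have h2 : (2 : F) = 0 := by
    by_contra h
    obtain ⟨j, hj⟩ := hpo h
    obtain ⟨i, hi⟩ := heven
    omega
  haveI : CharP F 2 := CharTwo.of_one_ne_zero_of_two_eq_zero one_ne_zero h2
  obtain ⟨e⟩ : Nonempty (SL2 F ≃* Matrix.ProjectiveSpecialLinearGroup (Fin 2) F) :=
    ⟨MulEquiv.ofBijective (pr (F := F)) ⟨pr_inj_char2 h2, pr_surj⟩⟩
  have hL := coatom_map e.symm M hM
  have eM : M ≃* M.map e.symm.toMonoidHom := e.symm.subgroupMap M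
  rcases even_max_sl2 h4 _ hL with h | ⟨⟨e1⟩⟩ | ⟨⟨e1⟩⟩ | ⟨F₀, i1, i2, r, hr, h2', hc, ⟨e1⟩⟩
  · left; rw [Nat.card_congr eM.toEquiv]; exact h
  · right; left; exact ⟨eM.trans e1⟩
  · right; right; left; exact ⟨eM.trans e1⟩
  · right; right; right; exact ⟨F₀, i1, i2, r, hr, h2', hc, ⟨eM.trans e1⟩⟩

end even4

end Cfsg.Agent.Helper18.Dickson
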