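import Mathlib
import Cfsg.Agent.Helper18.DicksonEven4
import Cfsg.Agent.Helper18.DicksonExc
import Cfsg.Agent.Helper2.SLGen
import Cfsg.Agent.Helper24.CharBurnside

/-!
# Minimal simple `PSL₂(q)`: solvability toolkit, perfectness and simplicity (helper18)
-/

set_option autoImplicit false

namespace Cfsg.Agent.Helper18.Dickson

open Matrix Cfsg.Agent.Helper12 Cfsg.Agent.Helper18.OutPSL2
open scoped commutatorElement

local notation "SL2" => Matrix.SpecialLinearGroup (Fin 2)
local notation "M2" => Matrix (Fin 2) (Fin 2)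

section toolkit

/-- a group whose commutators lie in an abelian subgroup is solvable -/
theorem ms_solv_comm {G : Type*} [Group G] (A : Subgroup G)
    (hA : ∀ a ∈ A, ∀ b ∈ A, a * b = b * a)
    (h : ∀ g k : G, g * k * g⁻¹ * k⁻¹ ∈ A) : Group.IsSolvable G := by
  have h1 : derivedSeries G 1 ≤ A := by
    rw [derivedSeries_one, commutator_def, Subgroup.commutator_le]
    intro g _ k _
    rw [commutatorElement_def]
    exact h g k
  have h2 : derivedSeries G (1 + 1) = ⊥ := by
    rw [derivedSeries_succ, eq_bot_iff]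
    refine (Subgroup.commutator_mono h1 h1).trans ?_
    rw [Subgroup.commutator_le]
    intro a ha b hb
    rw [commutatorElement_def, Subgroup.mem_bot, hA a ha b hb]
    group
  exact ⟨⟨2, h2⟩⟩

theorem ms_index_two_comm {G : Type*} [Group G] (A : Subgroup G) (h2 : A.index = 2) (g k : G) :
    g * k * g⁻¹ * k⁻¹ ∈ A := by
  have hn : A.Normal := Subgroup.normal_of_index_eq_two h2
  rw [Subgroup.mul_mem_iff_of_index_two h2, Subgroup.inv_mem_iff]
  constructor
  · intro hx
    have h5 := hn.conj_mem _ hx g⁻¹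
    have e : g⁻¹ * (g * k * g⁻¹) * g⁻¹⁻¹ = k := by group
    rw [e] at h5
    exact h5
  · intro hx
    exact hn.conj_mem _ hx g

theorem ms_solv_index_two {G : Type*} [Group G] [Finite G] (A : Subgroup G)
    (hA : ∀ a ∈ A, ∀ b ∈ A, a * b = b * a) (hc : Nat.card G ≤ 2 * Nat.card A) :
    Group.IsSolvable G := by
  have hidx := A.index_mul_card
  have hpos : 0 < Nat.card A := Nat.card_pos
  have hipos : A.index ≠ 0 := Subgroup.index_ne_zero_of_finite
  have hi : A.index = 1 ∨ A.index = 2 := by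
    have h3 : A.index ≤ 2 := by
      by_contra hh
      have h4 : 3 ≤ A.index := by omega
      have h5 : 3 * Nat.card A ≤ A.index * Nat.card A := Nat.mul_le_mul_right _ h4
      omega
    omega
  rcases hi with h1 | h2
  · have htop : A = ⊤ := Subgroup.index_eq_one.mp h1
    exact Group.isSolvable_of_comm
      (fun a b => hA a (by rw [htop]; exact Subgroup.mem_top _) b
        (by rw [htop]; exact Subgroup.mem_top _))
  · exact ms_solv_comm A hA (ms_index_two_comm A h2)

theorem ms_solv_equiv {G H : Type*} [Group G] [Group H] (e : G ≃* H) (h : Group.IsSolvable H) :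
    Group.IsSolvable G := by
  haveI := h
  exact Group.isSolvable_of_isSolvable_injective (f := e.toMonoidHom) e.injective

theorem ms_solv_dihedral (n : ℕ) : Group.IsSolvable (DihedralGroup n) := by
  let A : Subgroup (DihedralGroup n) :=
    { carrier := {x | ∃ i, x = DihedralGroup.r i}
      mul_mem' := by rintro _ _ ⟨i, rfl⟩ ⟨j, rfl⟩; exact ⟨i + j, rfl⟩
      one_mem' := ⟨0, rfl⟩
      inv_mem' := by rintro _ ⟨i, rfl⟩; exact ⟨-i, rfl⟩ }
  apply ms_solv_comm A
  · rintro _ ⟨i, rfl⟩ _ ⟨j, rfl⟩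
    rw [DihedralGroup.r_mul_r, DihedralGroup.r_mul_r, add_comm]
  · rintro (a | a) (b | b)
    · show ∃ i, _ = DihedralGroup.r i
      exact ⟨_, rfl⟩
    · show ∃ i, _ = DihedralGroup.r i
      exact ⟨_, rfl⟩
    · show ∃ i, _ = DihedralGroup.r i
      exact ⟨_, rfl⟩
    · show ∃ i, _ = DihedralGroup.r i
      exact ⟨_, rfl⟩

theorem ms_solv6 {G : Type*} [Group G] [Finite G] (h : Nat.card G = 6) : Group.IsSolvable G :=
  Cfsg.Agent.Helper24.isSolvable_of_card_prime_pow_mul 2 3 1 1 Nat.prime_two Nat.prime_three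
    (h.trans (by norm_num))

theorem ms_solv12 {G : Type*} [Group G] [Finite G] (h : Nat.card G = 12) : Group.IsSolvable G :=
  Cfsg.Agent.Helper24.isSolvable_of_card_prime_pow_mul 2 3 2 1 Nat.prime_two Nat.prime_three
    (h.trans (by norm_num))

theorem ms_solv24 {G : Type*} [Group G] [Finite G] (h : Nat.card G = 24) : Group.IsSolvable G :=
  Cfsg.Agent.Helper24.isSolvable_of_card_prime_pow_mul 2 3 3 1 Nat.prime_two Nat.prime_three
    (h.trans (by norm_num))

theorem ms_solv48 {G : Type*} [Group G] [Finite G] (h : Nat.card G = 48) : Group.IsSolvable G :=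
  Cfsg.Agent.Helper24.isSolvable_of_card_prime_pow_mul 2 3 4 1 Nat.prime_two Nat.prime_three
    (h.trans (by norm_num))

theorem ms_a5_nonsolv : ¬ Group.IsSolvable (alternatingGroup (Fin 5)) := by
  intro h
  have := h
  exact Equiv.Perm.not_isSolvable_fin_5
    (Group.isSolvable_of_ker_le_range (alternatingGroup (Fin 5)).subtype Equiv.Perm.sign
      (by rw [Subgroup.range_subtype]; exact le_of_eq rfl))

theorem ms_a5_card : Nat.card (alternatingGroup (Fin 5)) = 60 := by
  have h := nat_card_alternatingGroup (α := Fin 5)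
  rw [Nat.card_fin] at h
  exact h.trans (by decide)

theorem ms_no5_mod (x : ℕ) (h : x % 5 = 2 ∨ x % 5 = 3) : ¬ 5 ∣ x * (x ^ 2 - 1) := by
  intro hd
  have h4 : x ^ 2 % 5 = 4 := by
    rw [pow_two, Nat.mul_mod]
    rcases h with h | h <;> simp [h]
  rcases (Nat.Prime.dvd_mul (by norm_num : Nat.Prime 5)).mp hd with h1 | h1
  · omega
  · omega

theorem ms_mod_no5 (x : ℕ) (h : ¬ 5 ∣ x * (x ^ 2 - 1)) : x % 5 = 2 ∨ x % 5 = 3 := by
  by_contra hc
  apply h
  have h5 : x % 5 = 0 ∨ x % 5 = 1 ∨ x % 5 = 4 := by omega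
  rcases h5 with h5 | h5 | h5
  · exact Dvd.dvd.mul_right (Nat.dvd_of_mod_eq_zero h5) _
  · apply Dvd.dvd.mul_left
    have h4 : x ^ 2 % 5 = 1 := by rw [pow_two, Nat.mul_mod]; simp [h5]
    omega
  · apply Dvd.dvd.mul_left
    have h4 : x ^ 2 % 5 = 1 := by rw [pow_two, Nat.mul_mod]; simp [h5]
    omega

theorem ms_pow3_mod5 (r : ℕ) (hr : Odd r) : 3 ^ r % 5 = 2 ∨ 3 ^ r % 5 = 3 := by
  obtain ⟨k, rfl⟩ := hr
  induction k with
  | zero => right; norm_num
  | succ k ih =>
    have e : 3 ^ (2 * (k + 1) + 1) = 3 ^ (2 * k + 1) * 9 := by ring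
    rw [e]
    generalize 3 ^ (2 * k + 1) = m at ih ⊢
    omega

theorem ms_pow3_mod4 (r : ℕ) (hr : Odd r) : 3 ^ r % 4 = 3 := by
  obtain ⟨k, rfl⟩ := hr
  induction k with
  | zero => norm_num
  | succ k ih =>
    have e : 3 ^ (2 * (k + 1) + 1) = 3 ^ (2 * k + 1) * 9 := by ring
    rw [e]
    generalize 3 ^ (2 * k + 1) = m at ih ⊢
    omega

theorem ms_sub_arith (r r' c : ℕ) (hr : r.Prime) (hr' : r'.Prime) (hc2 : c ≠ 2)
    (h : c ^ r' = 2 ^ r) : False := by
  have h1 : c ∣ 2 ^ r := by rw [← h]; exact dvd_pow_self c hr'.ne_zero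
  obtain ⟨a, -, rfl⟩ := (Nat.dvd_prime_pow Nat.prime_two).mp h1
  rw [← pow_mul] at h
  have h2 : a * r' = r := Nat.pow_right_injective (le_refl 2) h
  rcases (Nat.dvd_prime hr).mp ⟨r', h2.symm⟩ with h3 | h3
  · apply hc2; rw [h3, pow_one]
  · rw [h3] at h2
    have h4 : r' = 1 := Nat.eq_of_mul_eq_mul_left hr.pos (h2.trans (mul_one r).symm)
    exact absurd h4 (Nat.Prime.one_lt hr').ne'

theorem ms_card60 (q : ℕ) (h : q * (q ^ 2 - 1) = 60) : q = 2 ^ 2 := by
  have hq : q ≤ 4 := by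
    by_contra hh
    have h1 : 5 ≤ q := by omega
    have h2 : 24 ≤ q ^ 2 - 1 := by
      have : 25 ≤ q ^ 2 := by nlinarith
      omega
    have := Nat.mul_le_mul h1 h2
    omega
  interval_cases q <;> omega

theorem ms_card120 (q : ℕ) (h : q * (q ^ 2 - 1) = 120) : q = 5 := by
  have hq : q ≤ 5 := by
    by_contra hh
    have h1 : 6 ≤ q := by omega
    have h2 : 35 ≤ q ^ 2 - 1 := by
      have : 36 ≤ q ^ 2 := by nlinarith
      omega
    have := Nat.mul_le_mul h1 h2
    omega
  interval_cases q <;> omega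

theorem ms_mono (a b : ℕ) (ha : 1 ≤ a) (h : a < b) : a * (a ^ 2 - 1) < b * (b ^ 2 - 1) :=
  Nat.mul_lt_mul'' h (Nat.sub_lt_sub_right (Nat.one_le_pow 2 a ha)
    (Nat.pow_lt_pow_left h (by norm_num)))

end toolkit

section sl2

variable {K : Type*} [Field K]

theorem ms_solv_upper (L : Subgroup (SL2 K))
    (h : ∀ g ∈ L, ((g : SL2 K) : M2 K) 1 0 = 0) : Group.IsSolvable L := by
  have hB : ∀ g : L, g ∈ BU L := fun g => mem_BU.mpr (h g g.2)
  apply ms_solv_comm (PU L)
  · intro a ha b hb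
    apply Subtype.ext
    show (a : SL2 K) * (b : SL2 K) = (b : SL2 K) * (a : SL2 K)
    rw [PU_eq_sl2U ha, PU_eq_sl2U hb, sl2U_mul, sl2U_mul, add_comm]
  · intro g k
    exact comm_mem_PU g k (hB g) (hB k)

theorem ms_solv_conj (L : Subgroup (SL2 K)) (D : SL2 K)
    (h : ∀ g ∈ L, ((D * g * D⁻¹ : SL2 K) : M2 K) 1 0 = 0) : Group.IsSolvable L := by
  have h1 : Group.IsSolvable (L.map (MulAut.conj D).toMonoidHom) := by
    apply ms_solv_upper
    rintro _ ⟨g, hg, rfl⟩
    exact h g hg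
  exact ms_solv_equiv ((MulAut.conj D).subgroupMap L) h1

theorem ms_sq_wit [Fintype K] (hF : 4 ≤ Fintype.card K) :
    ∃ a : K, a ≠ 0 ∧ a ^ 2 - 1 ≠ 0 := by
  classical
  by_contra hall
  push Not at hall
  have hsub : (Finset.univ : Finset K) ⊆ {0, 1, -1} := by
    intro a _
    by_cases ha : a = 0
    · simp [ha]
    · have h1 := hall a ha
      have h2 : (a - 1) * (a + 1) = 0 := by linear_combination h1
      rcases mul_eq_zero.mp h2 with h3 | h3
      · have h4 : a = 1 := by linear_combination h3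
        simp [h4]
      · have h4 : a = -1 := by linear_combination h3
        simp [h4]
  have hcard := Finset.card_le_card hsub
  rw [Finset.card_univ] at hcard
  have h3 : ({0, 1, -1} : Finset K).card ≤ 3 := Finset.card_le_three
  omega

theorem ms_perfect [Fintype K] (h4 : 4 ≤ Fintype.card K) : commutator (SL2 K) = ⊤ := by
  obtain ⟨a, ha0, ha1⟩ := ms_sq_wit h4
  have hn10 : ((sl2diag (Units.mk0 a ha0) : SL2 K) : M2 K) 1 0 = 0 := by rw [sl2diag_val]; rfl
  have hn00 : ((sl2diag (Units.mk0 a ha0) : SL2 K) : M2 K) 0 0 = a := by rw [sl2diag_val]; rfl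
  have key : ∀ y : K, sl2U y ∈ commutator (SL2 K) := by
    intro y
    have h1 := conj_U_upper (sl2diag (Units.mk0 a ha0)) hn10 (y / (a ^ 2 - 1))
    rw [hn00] at h1
    have e : a ^ 2 * (y / (a ^ 2 - 1)) + -(y / (a ^ 2 - 1)) = y := by
      have e1 : a ^ 2 * (y / (a ^ 2 - 1)) + -(y / (a ^ 2 - 1)) =
          y / (a ^ 2 - 1) * (a ^ 2 - 1) := by ring
      rw [e1, div_mul_cancel₀ y ha1]
    have h2 : sl2U y = ⁅sl2diag (Units.mk0 a ha0), sl2U (y / (a ^ 2 - 1))⁆ := by
      rw [commutatorElement_def, h1, ← sl2U_neg_eq_inv, sl2U_mul, e]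
    rw [h2, commutator_def]
    exact Subgroup.commutator_mem_commutator (Subgroup.mem_top _) (Subgroup.mem_top _)
  have hnorm : (commutator (SL2 K)).Normal := inferInstance
  exact sl2_generate (lo 1) (by rw [lo_10]; exact one_ne_zero) _ key
    (fun y => hnorm.conj_mem _ (key y) _)

theorem ms_simple [Fintype K] (h4 : 4 ≤ Fintype.card K) :
    IsSimpleGroup (Matrix.ProjectiveSpecialLinearGroup (Fin 2) K) :=
  Cfsg.Agent.Helper2.SLGen.isSimpleGroup_PSL (ms_perfect h4)

theorem ms_noncomm :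
    ¬ ∀ a b : Matrix.ProjectiveSpecialLinearGroup (Fin 2) K, a * b = b * a := by
  intro h
  have h1 := h (pr (sl2U 1)) (pr (lo 1))
  rw [← (pr (F := K)).map_mul, ← (pr (F := K)).map_mul, pr_eq_iff] at h1
  have e00 : ((sl2NegOne : SL2 K) : M2 K) 0 0 = -1 := rfl
  have e01 : ((sl2NegOne : SL2 K) : M2 K) 0 1 = 0 := rfl
  have e10 : ((sl2NegOne : SL2 K) : M2 K) 1 0 = 0 := rfl
  have e11 : ((sl2NegOne : SL2 K) : M2 K) 1 1 = -1 := rfl
  rcases h1 with h1 | h1
  · have h2 := congrArg (fun g : SL2 K => (g : M2 K) 0 0) h1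
    simp only [mul00, sl2U_00, sl2U_01, sl2U_10, lo_00, lo_01, lo_10] at h2
    exact one_ne_zero (by linear_combination h2 : (1 : K) = 0)
  · have h2 := congrArg (fun g : SL2 K => (g : M2 K) 0 0) h1
    have h3 := congrArg (fun g : SL2 K => (g : M2 K) 1 0) h1
    simp only [mul00, mul10, sl2U_00, sl2U_01, sl2U_10, sl2U_11, lo_00, lo_01, lo_10, lo_11,
      e00, e01, e10, e11] at h2 h3
    exact one_ne_zero (by linear_combination h2 - h3 : (1 : K) = 0)

theorem ms_index_two_top [Fintype K] (h4 : 4 ≤ Fintype.card K) (L : Subgroup (SL2 K))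
    (hidx : L.index = 2) : L = ⊤ := by
  have hle : commutator (SL2 K) ≤ L := by
    rw [commutator_def, Subgroup.commutator_le]
    intro g _ k _
    rw [commutatorElement_def]
    exact ms_index_two_comm L hidx g k
  rw [ms_perfect h4] at hle
  exact top_le_iff.mp hle

theorem ms_char [Fintype K] (p : ℕ) (hp : p.Prime) (r : ℕ) (hK : Fintype.card K = p ^ r) :
    CharP K p := by
  obtain ⟨p', hp'⟩ := CharP.exists K
  haveI := hp'
  obtain ⟨n, hpp, hq⟩ := FiniteField.card K p'
  have h1 : p' ∣ p ^ r := by rw [← hK, hq]; exact dvd_pow_self p' n.ne_zero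
  have h2 : p' = p := (Nat.prime_dvd_prime_iff_eq hpp hp).mp (hpp.dvd_of_dvd_pow h1)
  rw [← h2]; exact hp'

end sl2

end Cfsg.Agent.Helper18.Dickson
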