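import Mathlib
import Cfsg.Agent.Helper18.MinSimp1

/-!
# Minimal simple `PSL₂(q)`: proper subgroups of `SL₂(q)` for the odd `q` of the list (helper18)
-/

set_option autoImplicit false

namespace Cfsg.Agent.Helper18.Dickson

open Matrix Cfsg.Agent.Helper12 Cfsg.Agent.Helper18.OutPSL2

local notation "SL2" => Matrix.SpecialLinearGroup (Fin 2)
local notation "M2" => Matrix (Fin 2) (Fin 2)

theorem ms_zmod3 : ∀ k : ZMod 3, k = 0 ∨ k = 1 ∨ k = -1 := by decide

section odd

variable {K : Type*} [Field K]

/-- the additive group of the `y` with `[[1, y / t], [0, 1]] ∈ L` -/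
def msA (L : Subgroup (SL2 K)) (t : K) : AddSubgroup K where
  carrier := {y | sl2U (y / t) ∈ L}
  zero_mem' := by
    show sl2U ((0 : K) / t) ∈ L
    rw [zero_div, sl2U_zero]; exact L.one_mem
  add_mem' := by
    intro a b ha hb
    show sl2U ((a + b) / t) ∈ L
    rw [add_div, ← sl2U_mul]; exact L.mul_mem ha hb
  neg_mem' := by
    intro a ha
    show sl2U ((-a) / t) ∈ L
    rw [neg_div, sl2U_neg_eq_inv]; exact L.inv_mem ha

theorem mem_msA {L : Subgroup (SL2 K)} {t y : K} : y ∈ msA L t ↔ sl2U (y / t) ∈ L := Iff.rfl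

theorem ms_setup_prime [Fintype K] {L : Subgroup (SL2 K)} {s t : K} (S : Setup L s t)
    (hp : (Fintype.card K).Prime) : L = ⊤ := by
  classical
  have hsA : s ∈ msA L 1 := by
    rw [mem_msA, div_one, ← S.hU]; exact S.U.2
  have hAtop : msA L (1 : K) = ⊤ := by
    have hdvd : Nat.card (msA L (1 : K)) ∣ Nat.card K := AddSubgroup.card_addSubgroup_dvd_card _
    rw [Nat.card_eq_fintype_card (α := K)] at hdvd
    rcases (Nat.dvd_prime hp).mp hdvd with h1 | h1
    · exfalso
      have h5 : msA L (1 : K) = ⊥ := AddSubgroup.eq_bot_of_card_eq _ h1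
      rw [h5, AddSubgroup.mem_bot] at hsA
      exact S.hs hsA
    · exact AddSubgroup.eq_top_of_card_eq _ (by rw [h1, Nat.card_eq_fintype_card])
  have hall : ∀ y : K, sl2U y ∈ L := by
    intro y
    have h5 : y ∈ msA L (1 : K) := by rw [hAtop]; exact AddSubgroup.mem_top y
    rw [mem_msA, div_one] at h5
    exact h5
  have hY : lo t ∈ L := by rw [← S.hY]; exact S.Y.2
  exact sl2_generate (lo t) (by rw [lo_10]; exact S.ht) L hall
    (fun y => L.mul_mem (L.mul_mem hY (hall y)) (L.inv_mem hY))

theorem ms_setup_three [Fintype K] (r : ℕ) (hr : r.Prime) (hr2 : r ≠ 2)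
    (hK : Fintype.card K = 3 ^ r) {L : Subgroup (SL2 K)} {s t : K} (S : Setup L s t)
    (hL : L ≠ ⊤) : Group.IsSolvable L := by
  classical
  have hrodd : Odd r := hr.odd_of_ne_two hr2
  haveI : Fact (Nat.Prime 3) := ⟨Nat.prime_three⟩
  haveI hch : CharP K 3 := ms_char 3 Nat.prime_three r hK
  have h2 : (2 : K) ≠ 0 := two_ne_zero_of_char 3 (by norm_num)
  have h3 : (3 : K) = 0 := by exact_mod_cast CharP.cast_eq_zero K 3
  have hz := card_center_le_two h2 S
  have hz1 : 0 < Nat.card (Subgroup.center L) := Nat.card_pos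
  have ht := S.ht
  have hY : lo t ∈ L := by rw [← S.hY]; exact S.Y.2
  have h5 : ¬ 5 ∣ Nat.card L := by
    intro h
    have h6 : 5 ∣ Nat.card (SL2 K) := h.trans (Subgroup.card_subgroup_dvd_card L)
    rw [sl2_card, hK] at h6
    exact ms_no5_mod _ (ms_pow3_mod5 r hrodd) h6
  rcases struct_cases 3 (by norm_num) S with ⟨ha, hG⟩ | hBr | ⟨ha, hG, -⟩
  · rcases (by omega : Nat.card (Subgroup.center L) = 1 ∨ Nat.card (Subgroup.center L) = 2)
      with hz' | hz'
    · exact ms_solv12 (by omega)
    · exact ms_solv24 (by omega)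
  · have h1A : (1 : K) ∈ msA L t := by
      have hg : (lo t)⁻¹ ∈ L := L.inv_mem hY
      obtain ⟨α, hα, hrel⟩ := bruhat_ratio S hBr _ hg
        (by rw [inv10, lo_10]; exact neg_ne_zero.mpr ht)
      rw [inv00, inv10, lo_11, lo_10] at hrel
      have h6 : t * (α * t - 1) = 0 := by linear_combination hrel - t * h3
      have h7 : α * t = 1 := sub_eq_zero.mp ((mul_eq_zero.mp h6).resolve_left ht)
      have e : 1 / t = α := by rw [div_eq_iff ht]; exact h7.symm
      rw [mem_msA, e]; exact hα
    have hinvA : ∀ y ∈ msA L t, y ≠ 0 → y⁻¹ ∈ msA L t := by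
      intro y hy hy0
      have hg : lo t * (sl2U (y / t) * (lo t)⁻¹) ∈ L :=
        L.mul_mem hY (L.mul_mem hy (L.inv_mem hY))
      have e1 : y / t * t = y := div_mul_cancel₀ y ht
      have h10 : ((lo t * (sl2U (y / t) * (lo t)⁻¹) : SL2 K) : M2 K) 1 0 = -(t * y) := by
        rw [mul10, mul00, mul10, inv00, inv10, lo_10, lo_11, sl2U_00, sl2U_01, sl2U_10, sl2U_11]
        linear_combination (-t) * e1
      have h00 : ((lo t * (sl2U (y / t) * (lo t)⁻¹) : SL2 K) : M2 K) 0 0 = 1 - y := by
        rw [mul00, mul00, mul10, inv00, inv10, lo_00, lo_01, lo_10, lo_11, sl2U_00, sl2U_01,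
          sl2U_10, sl2U_11]
        linear_combination (-1 : K) * e1
      obtain ⟨α, hα, hrel⟩ := bruhat_ratio S hBr _ hg
        (by rw [h10]; exact neg_ne_zero.mpr (mul_ne_zero ht hy0))
      rw [h00, h10] at hrel
      have h6 : t * (1 + α * t * y) = 0 := by linear_combination hrel
      have h7 : 1 + α * t * y = 0 := (mul_eq_zero.mp h6).resolve_left ht
      have h8 : α * t = -y⁻¹ := by
        have h9 : α * t * y = -1 := by linear_combination h7
        calc α * t = α * t * y * y⁻¹ := by
              rw [mul_assoc (α * t), mul_inv_cancel₀ hy0, mul_one]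
          _ = -y⁻¹ := by rw [h9]; ring
      have e : (-y⁻¹) / t = α := by rw [div_eq_iff ht]; exact h8.symm
      have hneg : -y⁻¹ ∈ msA L t := by rw [mem_msA, e]; exact hα
      have h10' := (msA L t).neg_mem hneg
      rw [neg_neg] at h10'
      exact h10'
    have hmulA := hua_mul 3 (by norm_num) (msA L t) h1A hinvA
    let f : ZMod 3 →+* K := ZMod.castHom (dvd_refl 3) K
    have hfA : ∀ k : ZMod 3, f k ∈ msA L t := by
      intro k
      have h6 : f k = ((k.val : ℕ) : K) := by
        have h7 := map_natCast f k.val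
        rwa [ZMod.natCast_zmod_val] at h7
      rw [h6, ← nsmul_one]
      exact (msA L t).nsmul_mem h1A _
    have hKc : Fintype.card K = Fintype.card (ZMod 3) ^ r := by rw [ZMod.card, hK]
    have hinvA' : ∀ x ∈ ((msA L t : AddSubgroup K) : Set K),
        x⁻¹ ∈ ((msA L t : AddSubgroup K) : Set K) := by
      intro x hx
      by_cases hx0 : x = 0
      · rw [hx0, _root_.inv_zero]; exact (msA L t).zero_mem
      · exact hinvA x hx hx0
    rcases sub_dichotomy f r hr hKc ((msA L t : AddSubgroup K) : Set K) h1A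
      (fun x hx y hy => (msA L t).add_mem hx hy) hmulA (msA L t).zero_mem hinvA' hfA
      with hsmall | hbig
    · obtain ⟨a, z, B, G, kU, hh, rr, ha, hz', hBd, hGd, hkUd, ha3, hpa, hz1', hh1, hr1, hB,
        hcompl, hG, hnd, hkU⟩ := base_counts 3 (by norm_num) S
      have hPU : ∀ u : PU L, ∃ k : ZMod 3, f k = t * (((u : L) : SL2 K) : M2 K) 0 1 := by
        intro u
        apply hsmall
        show sl2U (t * (((u : L) : SL2 K) : M2 K) 0 1 / t) ∈ L
        rw [mul_div_cancel_left₀ _ ht, ← PU_eq_sl2U u.2]
        exact (u : L).2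
      choose φ hφ using hPU
      have hφinj : Function.Injective φ := by
        intro u u' h
        have h6 : t * (((u : L) : SL2 K) : M2 K) 0 1 = t * (((u' : L) : SL2 K) : M2 K) 0 1 := by
          rw [← hφ u, ← hφ u', h]
        have h7 := mul_left_cancel₀ ht h6
        apply Subtype.ext
        apply Subtype.ext
        rw [PU_eq_sl2U u.2, PU_eq_sl2U u'.2, h7]
      have ha3' : a = 3 := by
        have h6 := Nat.card_le_card_of_injective φ hφinj
        rw [ha, Nat.card_eq_fintype_card, ZMod.card] at h6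
        omega
      have h1A' : sl2U (1 / t) ∈ L := h1A
      have hBc : BU L ≤ cz S.U := by
        intro g hg
        rw [czU_iff S g]
        have hg10 := mem_BU.mp hg
        refine ⟨hg10, ?_⟩
        have h6 := conj_U_upper (g : SL2 K) hg10 (1 / t)
        have h7 : (((g : SL2 K) : M2 K) 0 0) ^ 2 ∈ msA L t := by
          rw [mem_msA, div_eq_mul_one_div, ← h6]
          exact L.mul_mem (L.mul_mem g.2 h1A') (L.inv_mem g.2)
        obtain ⟨k, hk⟩ := hsmall _ h7
        have hdet := det_upper (g : SL2 K) hg10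
        rcases ms_zmod3 k with rfl | rfl | rfl
        · exfalso
          rw [map_zero] at hk
          have h8 : ((g : SL2 K) : M2 K) 0 0 = 0 := (pow_eq_zero_iff two_ne_zero).mp hk.symm
          rw [h8, zero_mul] at hdet
          exact zero_ne_one hdet
        · rw [map_one] at hk
          linear_combination (-(((g : SL2 K) : M2 K) 0 0)) * hdet +
            (((g : SL2 K) : M2 K) 1 1) * hk.symm
        · exfalso
          rw [map_neg, map_one] at hk
          have hsq : IsSquare (-1 : K) := ⟨((g : SL2 K) : M2 K) 0 0, by rw [hk, pow_two]⟩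
          have h8 := FiniteField.isSquare_neg_one_iff.mp hsq
          rw [hK] at h8
          exact h8 (ms_pow3_mod4 r hrodd)
      have hrr : rr = 1 := by
        have hBr' := hBr
        choose! u hu n hn hgun using hBr'
        have hψ : Function.Injective (fun g : {g : L // g ∉ BU L} =>
            ((⟨u g.1, hu g.1 g.2⟩, ⟨n g.1, hn g.1 g.2⟩) : PU L × BU L)) := by
          intro g g' h
          have h1 : u g.1 = u g'.1 := congrArg (fun x : PU L × BU L => (x.1 : L)) h
          have h2' : n g.1 = n g'.1 := congrArg (fun x : PU L × BU L => (x.2 : L)) h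
          apply Subtype.ext
          calc (g : L) = u g.1 * S.Y * n g.1 := hgun g.1 g.2
            _ = u g'.1 * S.Y * n g'.1 := by rw [h1, h2']
            _ = (g' : L) := (hgun g'.1 g'.2).symm
        have hle := Nat.card_le_card_of_injective _ hψ
        rw [Nat.card_prod, hcompl, ha, hBd] at hle
        have hBpos : 0 < B := by rw [← hBd]; exact Nat.card_pos
        have hpos : 0 < a * B := Nat.mul_pos (by omega) hBpos
        by_contra hne
        have h6 : 2 ≤ rr := by omega
        have h7 : 2 * (a * B) ≤ rr * (a * B) := Nat.mul_le_mul_right _ h6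
        omega
      have hBeq : B = z * a := by
        have h6 : BU L = cz S.U := le_antisymm hBc (by rw [← nzU_eq S]; exact cz_le_nz _)
        rw [← hBd, h6, card_czU 3 (by norm_num) S, hz', ha]
      have hG12 : Nat.card L = 12 * z := by
        rw [hGd, hG, hBeq, hrr, ha3']; ring
      rw [hz'] at hz
      rcases (by omega : z = 1 ∨ z = 2) with hz2 | hz2
      · exact ms_solv12 (by omega)
      · exact ms_solv24 (by omega)
    · exfalso
      apply hL
      have hall : ∀ y : K, sl2U y ∈ L := by
        intro y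
        have h6 : sl2U (y * t / t) ∈ L := hbig (y * t)
        rw [mul_div_cancel_right₀ y ht] at h6
        exact h6
      exact sl2_generate (lo t) (by rw [lo_10]; exact ht) L hall
        (fun y => L.mul_mem (L.mul_mem hY (hall y)) (L.inv_mem hY))
  · exact (h5 (by rw [hG]; exact ⟨12 * Nat.card (Subgroup.center L), by ring⟩)).elim

/-- proper subgroups of `SL₂(q)` are solvable for `q = 3^r` (`r` an odd prime), `q` a prime with
`5 ∤ q (q² - 1)`, and `q = 5` -/
theorem ms_odd_solv [Fintype K] (h2 : (2 : K) ≠ 0)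
    (hq : (∃ r : ℕ, r.Prime ∧ r ≠ 2 ∧ Fintype.card K = 3 ^ r) ∨
      ((Fintype.card K).Prime ∧ ¬ 5 ∣ Fintype.card K * (Fintype.card K ^ 2 - 1)) ∨
      Fintype.card K = 5)
    (L : Subgroup (SL2 K)) (hL : L ≠ ⊤) : Group.IsSolvable L := by
  classical
  have hz1 : 0 < Nat.card (Subgroup.center L) := Nat.card_pos
  have hcardSL := sl2_card (F := K)
  have hdvd : Nat.card L ∣ Nat.card (SL2 K) := Subgroup.card_subgroup_dvd_card L
  have h60 : Nat.card (Subgroup.center L) ≤ 2 →
      Nat.card L = 60 * Nat.card (Subgroup.center L) → False := by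
    intro hz hc
    have h5L : 5 ∣ Nat.card L := ⟨12 * Nat.card (Subgroup.center L), by rw [hc]; ring⟩
    rcases hq with ⟨r, hr, hr2, hK⟩ | ⟨hp, h5⟩ | h5
    · have h6 := h5L.trans hdvd
      rw [hcardSL, hK] at h6
      exact ms_no5_mod _ (ms_pow3_mod5 r (hr.odd_of_ne_two hr2)) h6
    · have h6 := h5L.trans hdvd
      rw [hcardSL] at h6
      exact h5 h6
    · have hS : Nat.card (SL2 K) = 120 := by
        rw [h5] at hcardSL
        omega
      rcases (by omega : Nat.card (Subgroup.center L) = 1 ∨ Nat.card (Subgroup.center L) = 2)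
        with hz' | hz'
      · have hidx : L.index = 2 := by
          have h6 := L.index_mul_card
          rw [hc, hz', hS] at h6
          omega
        exact hL (ms_index_two_top (by rw [h5]; norm_num) L hidx)
      · exact hL (Subgroup.eq_top_of_card_eq L (by rw [hc, hz', hS]))
  rcases odd_proper h2 L with ⟨D, hD⟩ | hab | ⟨g, hg, hc⟩ | ⟨hz, hc⟩ | ⟨D, s, t, ⟨S⟩⟩
  · exact ms_solv_conj L D hD
  · exact Group.isSolvable_of_comm (fun a b => hab a b)
  · apply ms_solv_index_two (cz g) _ hc
    intro a ha b hb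
    exact (ct_gen L a g b hg (mem_cz.mp ha) (mem_cz.mp hb).symm).eq
  · rcases (by omega : Nat.card (Subgroup.center L) = 1 ∨ Nat.card (Subgroup.center L) = 2)
      with hz' | hz'
    · rcases hc with hc | hc | hc
      · exact ms_solv12 (by omega)
      · exact ms_solv24 (by omega)
      · exact (h60 hz hc).elim
    · rcases hc with hc | hc | hc
      · exact ms_solv24 (by omega)
      · exact ms_solv48 (by omega)
      · exact (h60 hz hc).elim
  · have hL' : L.map (MulAut.conj D).toMonoidHom ≠ ⊤ := by
      intro h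
      apply hL
      rw [eq_top_iff]
      intro x _
      have h6 : (MulAut.conj D).toMonoidHom x ∈ L.map (MulAut.conj D).toMonoidHom := by
        rw [h]; exact Subgroup.mem_top _
      obtain ⟨y, hy, hyx⟩ := h6
      have h7 : y = x := (MulAut.conj D).injective hyx
      rw [← h7]; exact hy
    have hsol : Group.IsSolvable (L.map (MulAut.conj D).toMonoidHom) := by
      rcases hq with ⟨r, hr, hr2, hK⟩ | ⟨hp, h5⟩ | h5
      · exact ms_setup_three r hr hr2 hK S hL'
      · exact (hL' (ms_setup_prime S hp)).elim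
      · exact (hL' (ms_setup_prime S (by rw [h5]; norm_num))).elim
    exact ms_solv_equiv ((MulAut.conj D).subgroupMap L) hsol

end odd

end Cfsg.Agent.Helper18.Dickson
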