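import Mathlib
import Cfsg.Agent.Helper18.MinSimp2

/-!
# Minimal simple `PSL₂(q)`: proper subgroups of `SL₂(2^r)`, `r` prime (helper18)
-/

set_option autoImplicit false

namespace Cfsg.Agent.Helper18.Dickson

open Matrix Cfsg.Agent.Helper12 Cfsg.Agent.Helper18.OutPSL2

local notation "SL2" => Matrix.SpecialLinearGroup (Fin 2)
local notation "M2" => Matrix (Fin 2) (Fin 2)

section even

variable {K : Type*} [Field K]

theorem ms_even_coatom [Fintype K] [CharP K 2] (r : ℕ) (hr : r.Prime)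
    (hK : Fintype.card K = 2 ^ r) (L : Subgroup (SL2 K)) (hL : IsCoatom L) :
    Group.IsSolvable L := by
  classical
  have h2 : (2 : K) = 0 := char2_two_eq_zero
  have h4 : 4 ≤ Fintype.card K := by
    rw [hK]
    calc 4 = 2 ^ 2 := by norm_num
      _ ≤ 2 ^ r := Nat.pow_le_pow_right (by norm_num) hr.two_le
  have hdih : ∀ M : Subgroup (SL2 K),
      (Nonempty (M ≃* DihedralGroup (Fintype.card K - 1)) ∨
        Nonempty (M ≃* DihedralGroup (Fintype.card K + 1))) → Group.IsSolvable M := by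
    rintro M (⟨⟨e⟩⟩ | ⟨⟨e⟩⟩)
    · exact ms_solv_equiv e (ms_solv_dihedral _)
    · exact ms_solv_equiv e (ms_solv_dihedral _)
  have hborel : borel K ≠ ⊤ := by
    intro h
    have h5 : lo (1 : K) ∈ borel K := by rw [h]; exact Subgroup.mem_top _
    rw [mem_borel, lo_10] at h5
    exact one_ne_zero h5
  by_cases hU : ∀ x ∈ L, (x : M2 K).trace = 0 → x = 1
  · have hbot : L ≠ ⊥ := by
      intro h
      have hlt : L < borel K := by
        rw [h]
        apply bot_lt_iff_ne_bot.mpr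
        intro hb
        have h5 : sl2U (1 : K) ∈ borel K := by rw [mem_borel, sl2U_10]
        rw [hb, Subgroup.mem_bot] at h5
        exact sl2U_ne_one one_ne_zero h5
      exact hborel (hL.2 _ hlt)
    obtain ⟨k, hkL, hk, hn⟩ := wit_odd L hbot hU
    exact hdih L (max_torus2 h4 L hL k hk hn)
  · obtain ⟨u, hu⟩ := not_forall.mp hU
    obtain ⟨huL, hu'⟩ := Classical.not_imp.mp hu
    obtain ⟨hutr, hu1⟩ := Classical.not_imp.mp hu'
    have hutr2 : (u : M2 K).trace = 2 := by rw [hutr, h2]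
    by_cases hcomm : ∀ y ∈ L, (y : M2 K).trace = 2 → u * y = y * u
    · obtain ⟨D, hD⟩ := borel_struct L u huL hutr2 hu1 hcomm
      exact ms_solv_conj L D hD
    · obtain ⟨y, hy⟩ := not_forall.mp hcomm
      obtain ⟨hyL, hy'⟩ := Classical.not_imp.mp hy
      obtain ⟨hytr, hxy⟩ := Classical.not_imp.mp hy'
      obtain ⟨D, s, t, hs, ht, hDx, hDy⟩ := nfG u y hutr2 hytr hxy
      obtain ⟨θ, hθ⟩ : ∃ θ : SL2 K ≃* SL2 K,
          ∀ g, θ g = thetaZ (Units.mk0 t ht) (RingHom.id K) g :=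
        ⟨MulEquiv.ofBijective (thetaZ (Units.mk0 t ht) (RingHom.id K))
          (Finite.injective_iff_bijective.mp (thetaZ_inj _ _)), fun g => rfl⟩
      obtain ⟨E, hE⟩ : ∃ E : SL2 K ≃* SL2 K, ∀ g, E g = θ (D * g * D⁻¹) :=
        ⟨(MulAut.conj D).trans θ, fun g => rfl⟩
      have hEu : E u = sl2U (t * s) := by
        rw [hE, hDx, hθ, thetaZ_U, RingHom.id_apply, Units.val_mk0]
      have hEy : E y = lo 1 := by
        rw [hE, hDy, hθ, thetaZ_L, RingHom.id_apply, Units.val_inv_eq_inv_val, Units.val_mk0,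
          inv_mul_cancel₀ ht]
      have hco := coatom_map E L hL
      have hUm : sl2U (t * s) ∈ L.map E.toMonoidHom := ⟨u, huL, hEu⟩
      have hYm : lo (1 : K) ∈ L.map E.toMonoidHom := ⟨y, hyL, hEy⟩
      obtain ⟨S⟩ : Nonempty (Setup (L.map E.toMonoidHom) (t * s) 1) :=
        ⟨⟨mul_ne_zero ht hs, one_ne_zero, ⟨_, hUm⟩, ⟨_, hYm⟩, rfl, rfl⟩⟩
      have eL : L ≃* L.map E.toMonoidHom := E.subgroupMap L
      by_cases ha4 : 4 ≤ Nat.card (PU (L.map E.toMonoidHom))
      · exfalso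
        obtain ⟨F₀, i1, i2, r', hr', h2', hc, -⟩ := sub_case S ha4 hco
        exact ms_sub_arith r r' (Fintype.card F₀) hr hr' h2' (by rw [← hc, hK])
      · have ha2 : Nat.card (PU (L.map E.toMonoidHom)) = 2 := by
          obtain ⟨a, z, B, G, kU, hh, r0, ha, hz, hBd, hGd, hkUd, ha2', hpa, -⟩ :=
            base_counts2' S
          rw [ha] at ha4 ⊢
          obtain ⟨i, hi⟩ := hpa
          omega
        obtain ⟨k, hkL, hk, hn⟩ := wit_a2 S ha2
        exact ms_solv_equiv eL (hdih _ (max_torus2 h4 _ hco k hk hn))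

theorem ms_even_solv [Fintype K] [CharP K 2] (r : ℕ) (hr : r.Prime)
    (hK : Fintype.card K = 2 ^ r) (L : Subgroup (SL2 K)) (hL : L ≠ ⊤) :
    Group.IsSolvable L := by
  rcases eq_top_or_exists_le_coatom L with h | ⟨M, hM, hLM⟩
  · exact (hL h).elim
  · haveI := ms_even_coatom r hr hK M hM
    exact Group.isSolvable_of_isSolvable_injective (f := Subgroup.inclusion hLM)
      (Subgroup.inclusion_injective hLM)

end even

end Cfsg.Agent.Helper18.Dickson
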