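import Mathlib
import Cfsg.Prelude.Def_CaseTheorems
import Cfsg.Agent.Helper18.MinSimp3
import Cfsg.Agent.S0804
import Cfsg.Agent.S0805

/-!
# `PSL₂(q)` is minimal simple exactly for the `q` of the list (helper18)
-/

set_option autoImplicit false

namespace Cfsg.Agent.Helper18.Dickson

open Matrix Cfsg.Agent.Helper12 Cfsg.Agent.Helper18.OutPSL2

local notation "SL2" => Matrix.SpecialLinearGroup (Fin 2)
local notation "M2" => Matrix (Fin 2) (Fin 2)

section main

/-- a proper subfield with at least four elements gives a proper non-solvable subgroup -/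
theorem ms_subfield {F K₀ : Type*} [Field F] [Fintype F] [Field K₀] [Fintype K₀]
    (m : ℕ) (hm : 2 ≤ m) (hc : Fintype.card K₀ ^ m = Fintype.card F)
    (h4 : 4 ≤ Fintype.card K₀) :
    ∃ H : Subgroup (Matrix.ProjectiveSpecialLinearGroup (Fin 2) F),
      H ≠ ⊤ ∧ ¬ Group.IsSolvable H := by
  obtain ⟨f⟩ := Cfsg.Agent.S0805.exists_ringHom m (by omega) hc
  obtain ⟨H, ⟨e⟩⟩ := Cfsg.Agent.S0805.part1 f
  refine ⟨H, ?_, ?_⟩
  · intro htop
    have hcard : Nat.card (Matrix.ProjectiveSpecialLinearGroup (Fin 2) K₀) =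
        Nat.card (Matrix.ProjectiveSpecialLinearGroup (Fin 2) F) := by
      rw [← Nat.card_congr e.toEquiv, htop]
      exact Nat.card_congr Subgroup.topEquiv.toEquiv
    have hlt : Fintype.card K₀ < Fintype.card F := by
      rw [← hc]
      calc Fintype.card K₀ = Fintype.card K₀ ^ 1 := (pow_one _).symm
        _ < Fintype.card K₀ ^ m := Nat.pow_lt_pow_right (by omega) (by omega)
    have hmono := ms_mono _ _ (by omega : 1 ≤ Fintype.card K₀) hlt
    by_cases h2 : (2 : F) = 0
    · have h2' : (2 : K₀) = 0 := by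
        apply f.injective
        rw [map_ofNat, map_zero]; exact h2
      have e1 := psl2_card_char2 h2
      have e2 := psl2_card_char2 h2'
      rw [hcard, e1] at e2
      exact absurd e2.symm (ne_of_lt hmono)
    · have h2' : (2 : K₀) ≠ 0 := by
        intro h
        apply h2
        rw [← map_ofNat f 2, h, map_zero]
      have e1 := psl2_card_odd h2
      have e2 := psl2_card_odd h2'
      rw [hcard, e1] at e2
      exact absurd e2.symm (ne_of_lt hmono)
  · intro hsol
    haveI := hsol
    have hs : Group.IsSolvable (Matrix.ProjectiveSpecialLinearGroup (Fin 2) K₀) :=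
      Group.isSolvable_of_surjective (f := e.toMonoidHom) e.surjective
    haveI := ms_simple h4
    exact ms_noncomm (IsSimpleGroup.comm_iff_isSolvable.mpr hs)

theorem ms_of_list {F : Type*} [Field F] [Fintype F]
    (h : (∃ r : ℕ, r.Prime ∧ Fintype.card F = 2 ^ r) ∨
      (∃ r : ℕ, r.Prime ∧ r ≠ 2 ∧ Fintype.card F = 3 ^ r) ∨
      ((Fintype.card F).Prime ∧ 5 < Fintype.card F ∧
        (Fintype.card F % 5 = 2 ∨ Fintype.card F % 5 = 3)) ∨ Fintype.card F = 5) :
    Cfsg.IsMinimalSimple (Matrix.ProjectiveSpecialLinearGroup (Fin 2) F) := by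
  have h4 : 4 ≤ Fintype.card F := by
    rcases h with ⟨r, hr, hc⟩ | ⟨r, hr, hr2, hc⟩ | ⟨hp, h5, -⟩ | hc
    · rw [hc]
      calc 4 = 2 ^ 2 := by norm_num
        _ ≤ 2 ^ r := Nat.pow_le_pow_right (by norm_num) hr.two_le
    · rw [hc]
      calc 4 ≤ 3 ^ 2 := by norm_num
        _ ≤ 3 ^ r := Nat.pow_le_pow_right (by norm_num) hr.two_le
    · omega
    · omega
  have hsolvL : ∀ L : Subgroup (SL2 F), L ≠ ⊤ → Group.IsSolvable L := by
    intro L hL
    rcases h with ⟨r, hr, hc⟩ | hodd
    · haveI : CharP F 2 := ms_char 2 Nat.prime_two r hc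
      exact ms_even_solv r hr hc L hL
    · have hoddc : Odd (Fintype.card F) := by
        rcases hodd with ⟨r, hr, hr2, hc⟩ | ⟨hp, h5, hmod⟩ | hc
        · rw [hc]; exact Odd.pow ⟨1, rfl⟩
        · exact hp.odd_of_ne_two (by omega)
        · rw [hc]; exact ⟨2, rfl⟩
      have h2 : (2 : F) ≠ 0 := two_ne_zero_of_odd hoddc
      apply ms_odd_solv h2 _ L hL
      rcases hodd with ⟨r, hr, hr2, hc⟩ | ⟨hp, h5, hmod⟩ | hc
      · exact Or.inl ⟨r, hr, hr2, hc⟩
      · exact Or.inr (Or.inl ⟨hp, ms_no5_mod _ hmod⟩)
      · exact Or.inr (Or.inr hc)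
  refine ⟨ms_simple h4, fun hc => ms_noncomm (fun a b => hc.is_comm.comm a b), ?_⟩
  intro H hH
  have hL : H.comap (pr (F := F)) ≠ ⊤ := by
    intro htop
    apply hH
    rw [eq_top_iff]
    intro x _
    obtain ⟨g, rfl⟩ := pr_surj x
    have h6 : g ∈ H.comap (pr (F := F)) := by rw [htop]; exact Subgroup.mem_top _
    exact h6
  haveI := hsolvL _ hL
  apply Group.isSolvable_of_surjective
    (f := ((pr (F := F)).comp (H.comap (pr (F := F))).subtype).codRestrict H (fun x => x.2))
  rintro ⟨x, hx⟩
  obtain ⟨g, rfl⟩ := pr_surj x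
  exact ⟨⟨g, hx⟩, rfl⟩

theorem ms_only {F : Type*} [Field F] [Fintype F]
    (hmin : Cfsg.IsMinimalSimple (Matrix.ProjectiveSpecialLinearGroup (Fin 2) F)) :
    (∃ r : ℕ, r.Prime ∧ Fintype.card F = 2 ^ r) ∨
      (∃ r : ℕ, r.Prime ∧ r ≠ 2 ∧ Fintype.card F = 3 ^ r) ∨
      ((Fintype.card F).Prime ∧ 5 < Fintype.card F ∧
        (Fintype.card F % 5 = 2 ∨ Fintype.card F % 5 = 3)) ∨ Fintype.card F = 5 := by
  classical
  obtain ⟨hsimp, hnc, hsub⟩ := hmin
  haveI := hsimp
  have hnc' : ¬ ∀ a b : Matrix.ProjectiveSpecialLinearGroup (Fin 2) F, a * b = b * a :=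
    fun h => hnc ⟨⟨h⟩⟩
  have hns : ¬ Group.IsSolvable (Matrix.ProjectiveSpecialLinearGroup (Fin 2) F) :=
    fun h => hnc' (IsSimpleGroup.comm_iff_isSolvable.mpr h)
  obtain ⟨p, hpF⟩ := CharP.exists F
  haveI := hpF
  obtain ⟨n, hp, hq⟩ := FiniteField.card F p
  haveI : Fact p.Prime := ⟨hp⟩
  have hn1 : 1 ≤ (n : ℕ) := n.pos
  by_cases h5 : 5 ∣ Fintype.card F * (Fintype.card F ^ 2 - 1)
  · obtain ⟨H, ⟨e⟩⟩ := (Cfsg.Agent.S0804.result (F := F) rfl).mpr h5
    have hHtop : H = ⊤ := by
      by_contra hne
      haveI := hsub H hne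
      exact ms_a5_nonsolv (Group.isSolvable_of_surjective (f := e.toMonoidHom) e.surjective)
    have hcard : Nat.card (Matrix.ProjectiveSpecialLinearGroup (Fin 2) F) = 60 := by
      have h1 : Nat.card H = 60 := by rw [Nat.card_congr e.toEquiv]; exact ms_a5_card
      rw [← h1, hHtop]
      exact (Nat.card_congr Subgroup.topEquiv.toEquiv).symm
    by_cases h2 : (2 : F) = 0
    · have h6 := psl2_card_char2 h2
      rw [hcard] at h6
      left
      exact ⟨2, Nat.prime_two, ms_card60 _ h6.symm⟩
    · have h6 := psl2_card_odd h2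
      rw [hcard] at h6
      right; right; right
      exact ms_card120 _ (h6.symm.trans (by norm_num))
  · have hmod : Fintype.card F % 5 = 2 ∨ Fintype.card F % 5 = 3 := ms_mod_no5 _ h5
    by_cases hn : (n : ℕ) = 1
    · have hqp : Fintype.card F = p := by rw [hq, hn, pow_one]
      by_cases hp5 : 5 < p
      · right; right; left
        exact ⟨by rw [hqp]; exact hp, by rw [hqp]; exact hp5, hmod⟩
      · exfalso
        have hp2 := hp.two_le
        have hp4 : p ≠ 4 := by
          intro h
          rw [h] at hp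
          exact absurd hp (by norm_num)
        have hp5' : p ≠ 5 := by
          intro h
          rw [hqp, h] at hmod
          omega
        have hp23 : p = 2 ∨ p = 3 := by omega
        apply hns
        rcases hp23 with h23 | h23
        · have h2 : (2 : F) = 0 := by
            have h7 : ((p : ℕ) : F) = 0 := CharP.cast_eq_zero F p
            rw [h23] at h7
            exact_mod_cast h7
          have h6 := psl2_card_char2 h2
          rw [hqp, h23] at h6
          exact ms_solv6 (by omega)
        · have h2 : (2 : F) ≠ 0 := two_ne_zero_of_char p (by omega)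
          have h6 := psl2_card_odd h2
          rw [hqp, h23] at h6
          exact ms_solv12 (by omega)
    · have hn2 : 2 ≤ (n : ℕ) := by omega
      by_cases hp5 : 5 ≤ p
      · exfalso
        haveI : NeZero p := ⟨hp.ne_zero⟩
        obtain ⟨H, hH, hHs⟩ := ms_subfield (F := F) (K₀ := ZMod p) n hn2
          (by rw [ZMod.card, ← hq]) (by rw [ZMod.card]; omega)
        exact hHs (hsub H hH)
      · have hp2 := hp.two_le
        have hp4 : p ≠ 4 := by
          intro h
          rw [h] at hp
          exact absurd hp (by norm_num)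
        have hp23 : p = 2 ∨ p = 3 := by omega
        by_cases hnp : (n : ℕ).Prime
        · rcases hp23 with h23 | h23
          · left
            exact ⟨(n : ℕ), hnp, by rw [hq, h23]⟩
          · right; left
            refine ⟨(n : ℕ), hnp, ?_, by rw [hq, h23]⟩
            intro hn2'
            apply h5
            rw [hq, h23, hn2']
            norm_num
        · exfalso
          obtain ⟨a, b, ha, hb, hab⟩ := (Nat.not_prime_iff_exists_mul_eq hn2).mp hnp
          have ha2 : 2 ≤ a := by
            by_contra hlt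
            have h01 : a = 0 ∨ a = 1 := by omega
            rcases h01 with h0 | h0
            · rw [h0, zero_mul] at hab; omega
            · rw [h0, one_mul] at hab; omega
          have hb2 : 2 ≤ b := by
            by_contra hlt
            have h01 : b = 0 ∨ b = 1 := by omega
            rcases h01 with h0 | h0
            · rw [h0, mul_zero] at hab; omega
            · rw [h0, mul_one] at hab; omega
          obtain ⟨instG⟩ : Nonempty (Fintype (GaloisField p a)) := ⟨Fintype.ofFinite _⟩
          have hcG : Fintype.card (GaloisField p a) = p ^ a := by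
            rw [← Nat.card_eq_fintype_card]; exact GaloisField.card p a (by omega)
          obtain ⟨H, hH, hHs⟩ := ms_subfield (F := F) (K₀ := GaloisField p a) b hb2
            (by rw [hcG, ← pow_mul, hab, ← hq])
            (by
              rw [hcG]
              calc 4 = 2 ^ 2 := by norm_num
                _ ≤ p ^ 2 := Nat.pow_le_pow_left hp2 2
                _ ≤ p ^ a := Nat.pow_le_pow_right hp.pos ha2)
          exact hHs (hsub H hH)

end main

end Cfsg.Agent.Helper18.Dickson
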