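import Mathlib
import Cfsg.Agent.Helper18.MinSimp4
import Cfsg.Agent.Helper12.PSL2Class
import Cfsg.Agent.Helper12.SL2Trace
import Cfsg.Agent.Helper1.Hall

/-!
# Subgroups of `SL₂(q)`, `q` odd, without unipotent elements: their orders (helper18)
-/

set_option autoImplicit false

namespace Cfsg.Agent.Helper18.Dickson

open Matrix Cfsg.Agent.Helper12 Cfsg.Agent.Helper18.OutPSL2

local notation "SL2" => Matrix.SpecialLinearGroup (Fin 2)
local notation "M2" => Matrix (Fin 2) (Fin 2)

/-- the `{2,3}`-part and the `{2,3}'`-part of a positive integer -/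
theorem hp_decomp (N : ℕ) (hN : N ≠ 0) :
    ∃ c, N = 2 ^ N.factorization 2 * 3 ^ N.factorization 3 * c ∧ ¬ 2 ∣ c ∧ ¬ 3 ∣ c := by
  have h2 := Nat.ordProj_mul_ordCompl_eq_self N 2
  have h2' := Nat.not_dvd_ordCompl Nat.prime_two hN
  have h3 : 3 ^ N.factorization 3 ∣ 2 ^ N.factorization 2 * (N / 2 ^ N.factorization 2) := by
    rw [h2]; exact Nat.ordProj_dvd N 3
  have hcop : Nat.Coprime (3 ^ N.factorization 3) (2 ^ N.factorization 2) :=
    Nat.Coprime.pow _ _ (by norm_num)
  have h4 : 3 ^ N.factorization 3 ∣ N / 2 ^ N.factorization 2 := hcop.dvd_of_dvd_mul_left h3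
  obtain ⟨c, hc⟩ := h4
  have hN' : N = 2 ^ N.factorization 2 * 3 ^ N.factorization 3 * c := by
    rw [mul_assoc, ← hc]; exact h2.symm
  refine ⟨c, hN', ?_, ?_⟩
  · intro h
    apply h2'
    rw [hc]
    exact Dvd.dvd.mul_left h _
  · rintro ⟨d, hd⟩
    apply Nat.pow_succ_factorization_not_dvd hN Nat.prime_three
    refine ⟨2 ^ N.factorization 2 * d, ?_⟩
    calc N = 2 ^ N.factorization 2 * 3 ^ N.factorization 3 * c := hN'
      _ = 3 ^ (N.factorization 3 + 1) * (2 ^ N.factorization 2 * d) := by rw [hd]; ring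

theorem hp_unique_le (a b a' b' m m' : ℕ) (h : 2 ^ a * 3 ^ b * m = 2 ^ a' * 3 ^ b' * m')
    (h2' : ¬ 2 ∣ m') (h3' : ¬ 3 ∣ m') : a ≤ a' ∧ b ≤ b' := by
  constructor
  · have h5 : 2 ^ a ∣ 2 ^ a' * (3 ^ b' * m') := ⟨3 ^ b * m, by rw [← mul_assoc, ← h]; ring⟩
    have hc : Nat.Coprime (2 ^ a) (3 ^ b' * m') := by
      apply Nat.Coprime.pow_left
      apply Nat.Coprime.mul_right
      · exact Nat.Coprime.pow_right _ (by norm_num)
      · exact (Nat.Prime.coprime_iff_not_dvd Nat.prime_two).mpr h2'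
    have h6 := hc.dvd_of_dvd_mul_right h5
    exact (Nat.pow_dvd_pow_iff_le_right (by norm_num)).mp h6
  · have h5 : 3 ^ b ∣ 3 ^ b' * (2 ^ a' * m') := ⟨2 ^ a * m, by
      calc 3 ^ b' * (2 ^ a' * m') = 2 ^ a' * 3 ^ b' * m' := by ring
        _ = 2 ^ a * 3 ^ b * m := h.symm
        _ = 3 ^ b * (2 ^ a * m) := by ring⟩
    have hc : Nat.Coprime (3 ^ b) (2 ^ a' * m') := by
      apply Nat.Coprime.pow_left
      apply Nat.Coprime.mul_right
      · exact Nat.Coprime.pow_right _ (by norm_num)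
      · exact (Nat.Prime.coprime_iff_not_dvd Nat.prime_three).mpr h3'
    have h6 := hc.dvd_of_dvd_mul_right h5
    exact (Nat.pow_dvd_pow_iff_le_right (by norm_num)).mp h6

theorem hp_unique (a b a' b' m m' : ℕ) (h : 2 ^ a * 3 ^ b * m = 2 ^ a' * 3 ^ b' * m')
    (h2 : ¬ 2 ∣ m) (h3 : ¬ 3 ∣ m) (h2' : ¬ 2 ∣ m') (h3' : ¬ 3 ∣ m') : a = a' ∧ b = b' := by
  have h1 := hp_unique_le a b a' b' m m' h h2' h3'
  have h4 := hp_unique_le a' b' a b m' m h.symm h2 h3
  exact ⟨le_antisymm h1.1 h4.1, le_antisymm h1.2 h4.2⟩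

/-- a positive `{2,3}`-number -/
theorem hp_pi_number (h : ℕ) (h0 : h ≠ 0)
    (hpi : ∀ r : ℕ, r.Prime → r ∣ h → r ∈ ({2, 3} : Set ℕ)) :
    h = 2 ^ h.factorization 2 * 3 ^ h.factorization 3 := by
  obtain ⟨c, hc, hc2, hc3⟩ := hp_decomp h h0
  have h1 : c = 1 := by
    by_contra hne
    obtain ⟨r, hr, hrc⟩ := Nat.exists_prime_and_dvd hne
    have hrh : r ∣ h := by rw [hc]; exact Dvd.dvd.mul_left hrc _
    have h5 := hpi r hr hrh
    simp only [Set.mem_insert_iff, Set.mem_singleton_iff] at h5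
    rcases h5 with rfl | rfl
    · exact hc2 hrc
    · exact hc3 hrc
  rw [h1, mul_one] at hc
  exact hc

/-- a Hall `{2,3}`-subgroup of a soluble subgroup of index prime to 6 -/
theorem hp_hall_of_sub {G : Type*} [Group G] [Finite G] (H₀ : Subgroup G)
    (hs : Group.IsSolvable H₀) (hidx2 : ¬ 2 ∣ H₀.index) (hidx3 : ¬ 3 ∣ H₀.index) :
    ∃ H : Subgroup G, Cfsg.IsPiHall ({2, 3} : Set ℕ) H := by
  haveI := hs
  have hn0 : Nat.card H₀ ≠ 0 := Nat.card_pos.ne'
  obtain ⟨c, hc, hc2, hc3⟩ := hp_decomp (Nat.card H₀) hn0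
  generalize (Nat.card H₀).factorization 2 = a at hc
  generalize (Nat.card H₀).factorization 3 = b at hc
  have hcop : Nat.Coprime (2 ^ a * 3 ^ b) c := by
    apply Nat.Coprime.mul_left
    · exact Nat.Coprime.pow_left _ ((Nat.Prime.coprime_iff_not_dvd Nat.prime_two).mpr hc2)
    · exact Nat.Coprime.pow_left _ ((Nat.Prime.coprime_iff_not_dvd Nat.prime_three).mpr hc3)
  obtain ⟨⟨K₀, hK₀⟩, -⟩ :=
    Cfsg.Agent.Helper1.hall_aux (Nat.card H₀) H₀ rfl (2 ^ a * 3 ^ b) c hc hcop
  have hKc : Nat.card (K₀.map H₀.subtype) = 2 ^ a * 3 ^ b := by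
    rw [Subgroup.card_map_of_injective H₀.subtype_injective, hK₀]
  refine ⟨K₀.map H₀.subtype, ?_, ?_⟩
  · intro r hr hdvd
    rw [hKc] at hdvd
    simp only [Set.mem_insert_iff, Set.mem_singleton_iff]
    rcases (Nat.Prime.dvd_mul hr).mp hdvd with h | h
    · left
      exact (Nat.prime_dvd_prime_iff_eq hr Nat.prime_two).mp (hr.dvd_of_dvd_pow h)
    · right
      exact (Nat.prime_dvd_prime_iff_eq hr Nat.prime_three).mp (hr.dvd_of_dvd_pow h)
  · intro r hr hmem
    have h1 := (K₀.map H₀.subtype).card_mul_index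
    have h2 := H₀.card_mul_index
    rw [hKc] at h1
    rw [hc] at h2
    have h3 : (K₀.map H₀.subtype).index = c * H₀.index := by
      have hpos : 0 < 2 ^ a * 3 ^ b := by positivity
      apply Nat.eq_of_mul_eq_mul_left hpos
      rw [h1, ← h2]; ring
    rw [h3]
    intro hdvd
    simp only [Set.mem_insert_iff, Set.mem_singleton_iff] at hmem
    rcases hmem with rfl | rfl
    · rcases (Nat.Prime.dvd_mul Nat.prime_two).mp hdvd with h | h
      · exact hc2 h
      · exact hidx2 h
    · rcases (Nat.Prime.dvd_mul Nat.prime_three).mp hdvd with h | h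
      · exact hc3 h
      · exact hidx3 h

section hall

variable {K : Type*} [Field K]

/-- order of the centraliser of a regular semisimple element of `SL₂(q)`, `q` odd -/
theorem hp_card_cz [Fintype K] (h2 : (2 : K) ≠ 0) (g : SL2 K) (ht : (g : M2 K).trace ^ 2 ≠ 4) :
    Nat.card (Subgroup.centralizer ({g} : Set (SL2 K))) = Fintype.card K - 1 ∨
      Nat.card (Subgroup.centralizer ({g} : Set (SL2 K))) = Fintype.card K + 1 := by
  have hodd : Odd (Fintype.card K) := (field_parity (K := K)).1 h2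
  have h1 := (Subgroup.centralizer ({g} : Set (SL2 K))).index_mul_card
  rw [index_centralizer_eq_card_carrier, sl2_odd_card_carrier hodd g ht, sl2_card] at h1
  have hq1 : 1 < Fintype.card K := Fintype.one_lt_card
  obtain ⟨q, hq'⟩ : ∃ q, Fintype.card K = q + 1 := ⟨Fintype.card K - 1, by omega⟩
  rw [hq'] at h1 ⊢
  have hq0 : 0 < q := by omega
  have e : (q + 1) ^ 2 - 1 = q * (q + 2) := by
    have : (q + 1) ^ 2 = q * (q + 2) + 1 := by ring
    omega
  have e1 : q + 1 - 1 = q := by omega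
  rw [e, e1] at h1
  generalize Nat.card (Subgroup.centralizer ({g} : Set (SL2 K))) = c at h1 ⊢
  rcases card_roots_zero_or_two _ ht with h0 | h0
  · right
    rw [h0] at h1
    have h3 : (q + 1) * q * c = (q + 1) * q * (q + 2) := by linarith
    have hpos : 0 < (q + 1) * q := by positivity
    have := Nat.eq_of_mul_eq_mul_left hpos h3
    omega
  · left
    rw [h0] at h1
    have h3 : (q + 1) * (q + 2) * c = (q + 1) * (q + 2) * q := by linarith
    have hpos : 0 < (q + 1) * (q + 2) := by positivity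
    have := Nat.eq_of_mul_eq_mul_left hpos h3
    omega

/-- orders of the subgroups of `SL₂(q)`, `q` odd, that contain `-1` and no unipotent element -/
theorem hp_orders [Fintype K] (h2 : (2 : K) ≠ 0) (L : Subgroup (SL2 K))
    (hU : ∀ x ∈ L, (x : M2 K).trace = 2 → x = 1) (hneg : (sl2NegOne : SL2 K) ∈ L) :
    Nat.card L ∣ 2 * (Fintype.card K - 1) ∨ Nat.card L ∣ 2 * (Fintype.card K + 1) ∨
      Nat.card L = 24 ∨ Nat.card L = 48 ∨ Nat.card L = 120 := by
  classical
  have hss : ∀ g ∈ L, ¬ Sl2Scalar g → (g : M2 K).trace ^ 2 ≠ 4 := pprime_ss L hU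
  have hab : (∀ a b : L, a * b = b * a) →
      Nat.card L ∣ 2 * (Fintype.card K - 1) ∨ Nat.card L ∣ 2 * (Fintype.card K + 1) := by
    intro hab
    by_cases hsc : ∀ g ∈ L, Sl2Scalar g
    · left
      have hle : L ≤ Subgroup.center (SL2 K) := fun g hg => sl2Scalar_mem_center g (hsc g hg)
      have h3 := Subgroup.card_dvd_of_le hle
      rw [sl2_center_card_odd h2] at h3
      exact Dvd.dvd.mul_right h3 _
    · push Not at hsc
      obtain ⟨g, hg, hns⟩ := hsc
      have hle : L ≤ Subgroup.centralizer ({g} : Set (SL2 K)) := by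
        intro x hx
        rw [Subgroup.mem_centralizer_singleton_iff]
        exact congrArg Subtype.val (hab ⟨x, hx⟩ ⟨g, hg⟩)
      have h3 := Subgroup.card_dvd_of_le hle
      rcases hp_card_cz h2 g (hss g hg hns) with h4 | h4
      · left; rw [h4] at h3; exact Dvd.dvd.mul_left h3 _
      · right; rw [h4] at h3; exact Dvd.dvd.mul_left h3 _
  rcases odd_proper h2 L with ⟨D, hD⟩ | hab' | ⟨g, hg, hc⟩ | ⟨hz, hc⟩ | ⟨D, s, t, ⟨S⟩⟩
  · have hcomm : ∀ a b : L, a * b = b * a := by
      intro a b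
      have h3 := upper_comm_tr (D * (a : SL2 K) * D⁻¹) (D * (b : SL2 K) * D⁻¹) (hD a a.2) (hD b b.2)
      have h4 : (D * (a : SL2 K) * D⁻¹) * (D * (b : SL2 K) * D⁻¹) * (D * (a : SL2 K) * D⁻¹)⁻¹ *
          (D * (b : SL2 K) * D⁻¹)⁻¹ =
          D * ((a : SL2 K) * b * (a : SL2 K)⁻¹ * (b : SL2 K)⁻¹) * D⁻¹ := by group
      rw [h4, sl2_trace_conj] at h3
      have h5 := hU _ (L.mul_mem (L.mul_mem (L.mul_mem a.2 b.2) (L.inv_mem a.2)) (L.inv_mem b.2)) h3
      apply Subtype.ext
      have h6 : (a : SL2 K) * b = b * a := by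
        calc (a : SL2 K) * b
            = ((a : SL2 K) * b * (a : SL2 K)⁻¹ * (b : SL2 K)⁻¹) * (b * a) := by group
          _ = b * a := by rw [h5, one_mul]
      exact h6
    rcases hab hcomm with h | h
    · left; exact h
    · right; left; exact h
  · rcases hab hab' with h | h
    · left; exact h
    · right; left; exact h
  · have hns : ¬ Sl2Scalar (g : SL2 K) := fun h => hg (sc_center L g h)
    have htr := hss g g.2 hns
    have hdvd : Nat.card (cz g) ∣
        Nat.card (Subgroup.centralizer ({(g : SL2 K)} : Set (SL2 K))) := by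
      let f : cz g →* Subgroup.centralizer ({(g : SL2 K)} : Set (SL2 K)) :=
        { toFun := fun x => ⟨((x : L) : SL2 K), by
            rw [Subgroup.mem_centralizer_singleton_iff]
            have h7 := (mem_cz.mp x.2).eq
            exact congrArg Subtype.val h7⟩
          map_one' := rfl
          map_mul' := fun _ _ => rfl }
      have hinj : Function.Injective f := by
        intro x y hxy
        apply Subtype.ext
        apply Subtype.ext
        exact congrArg
          (fun z : Subgroup.centralizer ({(g : SL2 K)} : Set (SL2 K)) => (z : SL2 K)) hxy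
      exact Subgroup.card_dvd_of_injective f hinj
    obtain ⟨i, hi⟩ := (cz g).card_subgroup_dvd_card
    have hpos : 0 < Nat.card (cz g) := Nat.card_pos
    have hLpos : 0 < Nat.card L := Nat.card_pos
    have hi2 : i ≤ 2 := by
      by_contra h
      push Not at h
      have : 3 * Nat.card (cz g) ≤ Nat.card (cz g) * i := by nlinarith
      omega
    have hi0 : i ≠ 0 := by
      rintro rfl
      omega
    have hdvd2 : Nat.card L ∣
        2 * Nat.card (Subgroup.centralizer ({(g : SL2 K)} : Set (SL2 K))) := by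
      rw [hi]
      rcases (by omega : i = 1 ∨ i = 2) with rfl | rfl
      · rw [mul_one]; exact Dvd.dvd.mul_left hdvd 2
      · rw [mul_comm]; exact Nat.mul_dvd_mul_left 2 hdvd
    rcases hp_card_cz h2 (g : SL2 K) htr with h4 | h4
    · left; rw [h4] at hdvd2; exact hdvd2
    · right; left; rw [h4] at hdvd2; exact hdvd2
  · have hz2 : 1 < Nat.card (Subgroup.center L) := by
      have hne : Subgroup.center L ≠ ⊥ := by
        intro h
        have h3 : (⟨sl2NegOne, hneg⟩ : L) ∈ Subgroup.center L :=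
          sc_center L _ ⟨by simp [sl2NegOne], by simp [sl2NegOne], by simp [sl2NegOne]⟩
        rw [h, Subgroup.mem_bot] at h3
        exact sl2NegOne_ne_one h2 (congrArg Subtype.val h3)
      exact (Subgroup.one_lt_card_iff_ne_bot _).mpr hne
    have hz' : Nat.card (Subgroup.center L) = 2 := by omega
    rw [hz'] at hc
    right; right
    rcases hc with hc | hc | hc
    · left; omega
    · right; left; omega
    · right; right; omega
  · exfalso
    have h3 : (S.U : SL2 K) ∈ L.map (MulAut.conj D).toMonoidHom := S.U.2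
    obtain ⟨x, hx, hxU⟩ := h3
    have h5 : D * x * D⁻¹ = sl2U s := by rw [← S.hU]; exact hxU
    have h4 : (x : M2 K).trace = 2 := by
      rw [← sl2_trace_conj D x, h5, sl2U_val]
      simp [Matrix.trace_fin_two]
      norm_num
    have h6 := hU x hx h4
    rw [h6] at h5
    have h7 : (sl2U s : SL2 K) = 1 := by rw [← h5]; group
    exact sl2U_ne_one S.hs h7

end hall

end Cfsg.Agent.Helper18.Dickson
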