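import Mathlib
import Cfsg.Agent.Helper18.HallPSL1
import Cfsg.Agent.S0803

/-!
# Hall `{2,3}`-subgroups of `PSL₂(q)`, characteristic at least 5 (helper18)
-/

set_option autoImplicit false

namespace Cfsg.Agent.Helper18.Dickson

open Matrix Cfsg.Agent.Helper12 Cfsg.Agent.Helper18.OutPSL2

local notation "SL2" => Matrix.SpecialLinearGroup (Fin 2)
local notation "M2" => Matrix (Fin 2) (Fin 2)

theorem hp_N_ne (q : ℕ) (hq5 : 5 ≤ q) : q ^ 2 - 1 ≠ 0 := by
  have : 5 * 5 ≤ q ^ 2 := by nlinarith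
  omega

theorem hp_arith_fwd (q h idx : ℕ) (hq2 : ¬ 2 ∣ q) (hq3 : ¬ 3 ∣ q) (hq5 : 5 ≤ q)
    (hpi : ∀ r : ℕ, r.Prime → r ∣ h → r ∈ ({2, 3} : Set ℕ)) (hi2 : ¬ 2 ∣ idx) (hi3 : ¬ 3 ∣ idx)
    (hcard : h * idx * 2 = q * (q ^ 2 - 1)) :
    2 * h = 2 ^ (q ^ 2 - 1).factorization 2 * 3 ^ (q ^ 2 - 1).factorization 3 := by
  have hN := hp_N_ne q hq5
  have h0 : h ≠ 0 := by
    rintro rfl
    have : 0 < q * (q ^ 2 - 1) := by positivity
    omega
  obtain ⟨c, hc, hc2, hc3⟩ := hp_decomp (q ^ 2 - 1) hN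
  have hh := hp_pi_number h h0 hpi
  generalize (q ^ 2 - 1).factorization 2 = f2 at hc ⊢
  generalize (q ^ 2 - 1).factorization 3 = f3 at hc ⊢
  generalize h.factorization 2 = a at hh
  generalize h.factorization 3 = b at hh
  rw [hc, hh] at hcard
  have h5 : 2 ^ (a + 1) * 3 ^ b * idx = 2 ^ f2 * 3 ^ f3 * (q * c) := by
    rw [pow_succ]; linarith
  have hqc2 : ¬ 2 ∣ q * c := by
    intro h; rcases (Nat.Prime.dvd_mul Nat.prime_two).mp h with h | h
    · exact hq2 h
    · exact hc2 h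
  have hqc3 : ¬ 3 ∣ q * c := by
    intro h; rcases (Nat.Prime.dvd_mul Nat.prime_three).mp h with h | h
    · exact hq3 h
    · exact hc3 h
  obtain ⟨e1, e2⟩ := hp_unique (a + 1) b f2 f3 idx (q * c) h5 hi2 hi3 hqc2 hqc3
  rw [hh, ← e1, ← e2, pow_succ]; ring

theorem hp_arith_concl (q : ℕ) (hq2 : ¬ 2 ∣ q) (hq3 : ¬ 3 ∣ q) (hq5 : 5 ≤ q) (P : ℕ)
    (hP : P = 2 ^ (q ^ 2 - 1).factorization 2 * 3 ^ (q ^ 2 - 1).factorization 3)
    (h : P ∣ 2 * (q - 1) ∨ P ∣ 2 * (q + 1) ∨ P = 24 ∨ P = 48 ∨ P = 120) :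
    (3 ∣ q - 1 ∧ q % 4 = 1) ∨ (3 ∣ q + 1 ∧ q % 4 = 3) ∨ P = 24 ∨ P = 48 := by
  have hN := hp_N_ne q hq5
  have h25 : 5 * 5 ≤ q ^ 2 := by nlinarith
  have h8 : q ^ 2 % 8 = 1 := by
    rw [Nat.pow_mod]
    have : q % 8 = 1 ∨ q % 8 = 3 ∨ q % 8 = 5 ∨ q % 8 = 7 := by omega
    rcases this with h | h | h | h <;> rw [h]
  have h3 : q ^ 2 % 3 = 1 := by
    rw [Nat.pow_mod]
    have : q % 3 = 1 ∨ q % 3 = 2 := by omega
    rcases this with h | h <;> rw [h]
  have hd8 : 2 ^ 3 ∣ q ^ 2 - 1 := by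
    apply Nat.dvd_of_mod_eq_zero; omega
  have hd3 : 3 ^ 1 ∣ q ^ 2 - 1 := by
    apply Nat.dvd_of_mod_eq_zero; omega
  have hf2 := (Nat.Prime.pow_dvd_iff_le_factorization Nat.prime_two hN).mp hd8
  have hf3 := (Nat.Prime.pow_dvd_iff_le_factorization Nat.prime_three hN).mp hd3
  generalize (q ^ 2 - 1).factorization 2 = f2 at hP hf2
  generalize (q ^ 2 - 1).factorization 3 = f3 at hP hf3
  have hP8 : 8 ∣ P := by
    rw [hP]
    exact Dvd.dvd.mul_right (pow_dvd_pow 2 hf2) _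
  have hP3 : 3 ∣ P := by
    rw [hP]
    exact Dvd.dvd.mul_left (dvd_pow_self 3 (by omega)) _
  rcases h with h | h | h | h | h
  · left
    have h1 := hP8.trans h
    have h2 := hP3.trans h
    constructor <;> omega
  · right; left
    have h1 := hP8.trans h
    have h2 := hP3.trans h
    constructor <;> omega
  · right; right; left; exact h
  · right; right; right; exact h
  · exfalso
    have h5 : 5 ∣ 2 ^ f2 * 3 ^ f3 := by rw [← hP, h]; norm_num
    rcases (Nat.Prime.dvd_mul (by norm_num : Nat.Prime 5)).mp h5 with h6 | h6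
    · have := Nat.le_of_dvd (by norm_num) (Nat.Prime.dvd_of_dvd_pow (by norm_num : Nat.Prime 5) h6)
      omega
    · have := Nat.le_of_dvd (by norm_num) (Nat.Prime.dvd_of_dvd_pow (by norm_num : Nat.Prime 5) h6)
      omega

theorem hp_arith_split (q idx : ℕ) (hq5 : 5 ≤ q) (h3 : 3 ∣ q - 1) (h4 : q % 4 = 1)
    (hcard : (q - 1) * idx * 2 = q * (q ^ 2 - 1)) : ¬ 2 ∣ idx ∧ ¬ 3 ∣ idx := by
  obtain ⟨j, rfl⟩ : ∃ j, q = 12 * j + 1 := ⟨(q - 1) / 12, by omega⟩
  have hj : 0 < j := by omega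
  have e : (12 * j + 1) ^ 2 - 1 = 12 * j * (12 * j + 2) := by
    have : (12 * j + 1) ^ 2 = 12 * j * (12 * j + 2) + 1 := by ring
    omega
  have e1 : 12 * j + 1 - 1 = 12 * j := by omega
  rw [e, e1] at hcard
  have h5 : 12 * j * (idx * 2) = 12 * j * ((6 * (12 * j * j + 3 * j) + 1) * 2) := by
    linarith
  have h6 := Nat.eq_of_mul_eq_mul_left (by positivity : 0 < 12 * j) h5
  constructor <;> omega

theorem hp_arith_nonsplit (q idx : ℕ) (hq5 : 5 ≤ q) (h3 : 3 ∣ q + 1) (h4 : q % 4 = 3)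
    (hcard : (q + 1) * idx * 2 = q * (q ^ 2 - 1)) : ¬ 2 ∣ idx ∧ ¬ 3 ∣ idx := by
  obtain ⟨j, rfl⟩ : ∃ j, q = 12 * j + 11 := ⟨(q - 11) / 12, by omega⟩
  have e : (12 * j + 11) ^ 2 - 1 = (12 * j + 10) * (12 * j + 12) := by
    have : (12 * j + 11) ^ 2 = (12 * j + 10) * (12 * j + 12) + 1 := by ring
    omega
  rw [e] at hcard
  have h5 : (12 * j + 12) * (idx * 2) = (12 * j + 12) * ((6 * (12 * j * j + 21 * j + 9) + 1) * 2) := by
    linarith
  have h6 := Nat.eq_of_mul_eq_mul_left (by positivity : 0 < 12 * j + 12) h5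
  constructor <;> omega

theorem hp_arith_exc (q idx n : ℕ) (hq2 : ¬ 2 ∣ q) (hq3 : ¬ 3 ∣ q) (hq5 : 5 ≤ q)
    (hP : 2 ^ (q ^ 2 - 1).factorization 2 * 3 ^ (q ^ 2 - 1).factorization 3 = 2 * n) (hn : 0 < n)
    (hcard : n * idx * 2 = q * (q ^ 2 - 1)) : ¬ 2 ∣ idx ∧ ¬ 3 ∣ idx := by
  have hN := hp_N_ne q hq5
  obtain ⟨c, hc, hc2, hc3⟩ := hp_decomp (q ^ 2 - 1) hN
  rw [hP] at hc
  rw [hc] at hcard
  have h5 : 2 * n * idx = 2 * n * (q * c) := by linarith
  have h6 := Nat.eq_of_mul_eq_mul_left (by positivity : 0 < 2 * n) h5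
  rw [h6]
  constructor
  · intro h; rcases (Nat.Prime.dvd_mul Nat.prime_two).mp h with h | h
    · exact hq2 h
    · exact hc2 h
  · intro h; rcases (Nat.Prime.dvd_mul Nat.prime_three).mp h with h | h
    · exact hq3 h
    · exact hc3 h

theorem hp_a4_card : Nat.card (alternatingGroup (Fin 4)) = 12 := by
  have h := nat_card_alternatingGroup (α := Fin 4)
  rw [Nat.card_fin] at h
  exact h.trans (by decide)

theorem hp_s4_card : Nat.card (Equiv.Perm (Fin 4)) = 24 := by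
  rw [Nat.card_perm, Nat.card_fin]
  decide

section hall

variable {K : Type*} [Field K]

theorem hp_main [Fintype K] (p : ℕ) [Fact p.Prime] [CharP K p] (hp : 5 ≤ p) :
    (∃ H : Subgroup (Matrix.ProjectiveSpecialLinearGroup (Fin 2) K),
        Cfsg.IsPiHall ({2, 3} : Set ℕ) H) ↔
      (3 ∣ Fintype.card K - 1 ∧ Fintype.card K % 4 = 1) ∨
      (3 ∣ Fintype.card K + 1 ∧ Fintype.card K % 4 = 3) ∨
        2 ^ (Fintype.card K ^ 2 - 1).factorization 2 *
          3 ^ (Fintype.card K ^ 2 - 1).factorization 3 = 24 ∨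
        2 ^ (Fintype.card K ^ 2 - 1).factorization 2 *
          3 ^ (Fintype.card K ^ 2 - 1).factorization 3 = 48 := by
  classical
  have hpp : p.Prime := Fact.out
  obtain ⟨n, -, hcard⟩ := FiniteField.card K p
  have hq2 : ¬ 2 ∣ Fintype.card K := by
    rw [hcard]
    intro h
    have h1 := (Nat.prime_dvd_prime_iff_eq Nat.prime_two hpp).mp (Nat.prime_two.dvd_of_dvd_pow h)
    omega
  have hq3 : ¬ 3 ∣ Fintype.card K := by
    rw [hcard]
    intro h
    have h1 := (Nat.prime_dvd_prime_iff_eq Nat.prime_three hpp).mp (Nat.prime_three.dvd_of_dvd_pow h)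
    omega
  have hq5 : 5 ≤ Fintype.card K := by
    rw [hcard]
    exact hp.trans (Nat.le_self_pow n.ne_zero p)
  have hodd : Odd (Fintype.card K) := Nat.odd_iff.mpr (by omega)
  have h2 : (2 : K) ≠ 0 := two_ne_zero_of_odd hodd
  haveI : Finite (Matrix.ProjectiveSpecialLinearGroup (Fin 2) K) :=
    Finite.of_surjective _ (pr_surj (F := K))
  have hG := psl2_card_odd (F := K) h2
  constructor
  · rintro ⟨H, hpi, hidx⟩
    have hci := H.card_mul_index
    have hi2 : ¬ 2 ∣ H.index := hidx 2 Nat.prime_two (by simp)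
    have hi3 : ¬ 3 ∣ H.index := hidx 3 Nat.prime_three (by simp)
    have hP := hp_arith_fwd (Fintype.card K) (Nat.card H) H.index hq2 hq3 hq5 hpi hi2 hi3
      (by rw [hci]; exact hG)
    have hL := comap_card_odd h2 H
    have hU : ∀ x ∈ H.comap pr, (x : M2 K).trace = 2 → x = 1 := by
      intro x hx htr
      by_contra hx1
      obtain ⟨D, s, hs, hD⟩ := unip_conj x htr hx1
      have ho : orderOf x = p := by
        rw [← orderOf_sl2U p hs, ← hD]
        exact (orderOf_injective (MulAut.conj D).toMonoidHom (MulAut.conj D).injective x).symm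
      have hdvd : p ∣ Nat.card (H.comap pr) := by
        rw [← ho]; exact Subgroup.orderOf_dvd_natCard _ hx
      rw [hL, hP] at hdvd
      rcases (Nat.Prime.dvd_mul hpp).mp hdvd with h6 | h6
      · have := Nat.le_of_dvd (by norm_num) (hpp.dvd_of_dvd_pow h6)
        omega
      · have := Nat.le_of_dvd (by norm_num) (hpp.dvd_of_dvd_pow h6)
        omega
    have hneg : (sl2NegOne : SL2 K) ∈ H.comap pr := by
      rw [Subgroup.mem_comap, (pr_eq_one_iff _).mpr sl2NegOne_mem_center]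
      exact H.one_mem
    have hord := hp_orders h2 (H.comap pr) hU hneg
    rw [hL] at hord
    have := hp_arith_concl (Fintype.card K) hq2 hq3 hq5 (2 * Nat.card H) hP hord
    rw [← hP]
    exact this
  · intro hcases
    have key : ∀ H₀ : Subgroup (Matrix.ProjectiveSpecialLinearGroup (Fin 2) K),
        Nat.card H₀ * H₀.index * 2 = Fintype.card K * (Fintype.card K ^ 2 - 1) := by
      intro H₀
      rw [H₀.card_mul_index]; exact hG
    rcases hcases with ⟨h3, h4⟩ | ⟨h3, h4⟩ | hP | hP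
    · obtain ⟨H₀, -, ⟨e⟩⟩ := split_dihedral (K := K) (by omega) (fun _ => by omega)
      have hc : Nat.card H₀ = Fintype.card K - 1 := by
        rw [Nat.card_congr e.toEquiv, DihedralGroup.nat_card, gcd_two_of_odd _ hodd]
        omega
      have hk := key H₀
      rw [hc] at hk
      obtain ⟨i2, i3⟩ := hp_arith_split _ _ hq5 h3 h4 hk
      exact hp_hall_of_sub H₀ (ms_solv_equiv e (ms_solv_dihedral _)) i2 i3
    · obtain ⟨H₀, -, ⟨e⟩⟩ := nonsplit_dihedral (K := K) (by omega) (fun _ => by omega)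
      have hc : Nat.card H₀ = Fintype.card K + 1 := by
        rw [Nat.card_congr e.toEquiv, DihedralGroup.nat_card, gcd_two_of_odd _ hodd]
        omega
      have hk := key H₀
      rw [hc] at hk
      obtain ⟨i2, i3⟩ := hp_arith_nonsplit _ _ hq5 h3 h4 hk
      exact hp_hall_of_sub H₀ (ms_solv_equiv e (ms_solv_dihedral _)) i2 i3
    · obtain ⟨H₀, ⟨e⟩⟩ := psl2_exists_a4_of_odd (F := K) hodd
      have hc : Nat.card H₀ = 12 := by
        rw [Nat.card_congr e.toEquiv, hp_a4_card]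
      have hk := key H₀
      rw [hc] at hk
      obtain ⟨i2, i3⟩ := hp_arith_exc _ _ 12 hq2 hq3 hq5 (hP.trans (by norm_num)) (by norm_num) hk
      exact hp_hall_of_sub H₀ (ms_solv12 hc) i2 i3
    · have h16 : Fintype.card K ^ 2 % 16 = 1 := by
        have hN := hp_N_ne _ hq5
        have h25 : 5 * 5 ≤ Fintype.card K ^ 2 := by nlinarith
        have hd := Nat.ordProj_dvd (Fintype.card K ^ 2 - 1) 2
        have hu := hp_unique ((Fintype.card K ^ 2 - 1).factorization 2)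
          ((Fintype.card K ^ 2 - 1).factorization 3) 4 1 1 1 (by rw [mul_one, hP]; norm_num)
          (by norm_num) (by norm_num) (by norm_num) (by norm_num)
        rw [hu.1] at hd
        omega
      obtain ⟨H₀, ⟨e⟩⟩ := (Cfsg.Agent.S0803.result (F := K) rfl).mpr h16
      have hc : Nat.card H₀ = 24 := by
        rw [Nat.card_congr e.toEquiv, hp_s4_card]
      have hk := key H₀
      rw [hc] at hk
      obtain ⟨i2, i3⟩ := hp_arith_exc _ _ 24 hq2 hq3 hq5 (hP.trans (by norm_num)) (by norm_num) hk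
      exact hp_hall_of_sub H₀ (ms_solv24 hc) i2 i3

end hall

end Cfsg.Agent.Helper18.Dickson
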