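import Mathlib
import Cfsg.Agent.Helper18.MinSimp4

/-!
# Two-generated proper subgroups of `SL₂(2^r)`, `r` prime (helper18)
-/

set_option autoImplicit false

namespace Cfsg.Agent.Helper18.Dickson

open Matrix Cfsg.Agent.Helper12 Cfsg.Agent.Helper18.OutPSL2

local notation "SL2" => Matrix.SpecialLinearGroup (Fin 2)
local notation "M2" => Matrix (Fin 2) (Fin 2)

section solub

variable {K : Type*} [Field K]

/-- the `(1,0)` entry of a conjugate -/
theorem sb_conj10 (D g : SL2 K) :
    ((D * g * D⁻¹ : SL2 K) : M2 K) 1 0 =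
      (D : M2 K) 1 0 * (D : M2 K) 1 1 * ((g : M2 K) 0 0 - (g : M2 K) 1 1) -
        (D : M2 K) 1 0 ^ 2 * (g : M2 K) 0 1 + (D : M2 K) 1 1 ^ 2 * (g : M2 K) 1 0 := by
  obtain ⟨a, b, c, d, hD, hdet⟩ := sl2_eta D
  obtain ⟨a', b', c', d', hg, hdet'⟩ := sl2_eta g
  rw [Matrix.SpecialLinearGroup.coe_mul, Matrix.SpecialLinearGroup.coe_mul,
    Matrix.SpecialLinearGroup.coe_inv, hD, hg, Matrix.adjugate_fin_two_of,
    Matrix.mul_fin_two, Matrix.mul_fin_two]
  simp
  ring

/-- the elements conjugating `k` to `k` or `k⁻¹` -/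
def sbN (k : SL2 K) : Subgroup (SL2 K) where
  carrier := {g | g * k * g⁻¹ = k ∨ g * k * g⁻¹ = k⁻¹}
  one_mem' := Or.inl (by group)
  mul_mem' := by
    intro a b ha hb
    have e : a * b * k * (a * b)⁻¹ = a * (b * k * b⁻¹) * a⁻¹ := by group
    show a * b * k * (a * b)⁻¹ = k ∨ a * b * k * (a * b)⁻¹ = k⁻¹
    rw [e]
    rcases hb with hb | hb
    · rw [hb]; exact ha
    · rw [hb]
      have e2 : a * k⁻¹ * a⁻¹ = (a * k * a⁻¹)⁻¹ := by group
      rw [e2]
      rcases ha with ha | ha
      · right; rw [ha]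
      · left; rw [ha, inv_inv]
  inv_mem' := by
    intro a ha
    show a⁻¹ * k * a⁻¹⁻¹ = k ∨ a⁻¹ * k * a⁻¹⁻¹ = k⁻¹
    rcases ha with ha | ha
    · left
      calc a⁻¹ * k * a⁻¹⁻¹ = a⁻¹ * (a * k * a⁻¹) * a := by rw [ha]; group
        _ = k := by group
    · right
      have h1 : (a⁻¹ * k * a⁻¹⁻¹)⁻¹ = a⁻¹ * (a * k * a⁻¹) * a := by rw [ha]; group
      have h2 : a⁻¹ * (a * k * a⁻¹) * a = k := by group
      rw [← inv_inv (a⁻¹ * k * a⁻¹⁻¹), h1, h2]

theorem mem_sbN {k g : SL2 K} : g ∈ sbN k ↔ g * k * g⁻¹ = k ∨ g * k * g⁻¹ = k⁻¹ := Iff.rfl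

theorem sb_N_ne_top [Fintype K] [CharP K 2] (h4 : 4 ≤ Fintype.card K) (k : SL2 K)
    (hk : (k : M2 K).trace ≠ 0) : sbN k ≠ ⊤ := by
  intro htop
  have hcard := sl2_char2_card_carrier k hk
  have hsub : (ConjClasses.mk k).carrier ⊆ ({k, k⁻¹} : Set (SL2 K)) := by
    intro a ha
    rw [ConjClasses.mem_carrier_iff_mk_eq, ConjClasses.mk_eq_mk_iff_isConj, isConj_iff] at ha
    obtain ⟨c, hc⟩ := ha
    have hmem : c⁻¹ ∈ sbN k := by rw [htop]; exact Subgroup.mem_top _
    have e : a = c⁻¹ * k * c⁻¹⁻¹ := by rw [← hc]; group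
    rw [mem_sbN] at hmem
    rcases hmem with h | h
    · left; rw [e, h]
    · right; rw [e, h]; rfl
  have h1 := Nat.card_mono (Set.toFinite ({k, k⁻¹} : Set (SL2 K))) hsub
  have h3 : Nat.card (({k, k⁻¹} : Set (SL2 K))) ≤ 2 := by
    rw [Nat.card_coe_set_eq]
    have := Set.ncard_insert_le k ({k⁻¹} : Set (SL2 K))
    rw [Set.ncard_singleton] at this
    exact this
  have h5 : 4 * 3 ≤ Fintype.card K * (Fintype.card K - 1) :=
    Nat.mul_le_mul h4 (by omega)
  omega

/-- structure of the maximal subgroups of `SL₂(2^r)`, `r` prime -/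
theorem sb_coatom [Fintype K] [CharP K 2] (r : ℕ) (hr : r.Prime)
    (hK : Fintype.card K = 2 ^ r) (L : Subgroup (SL2 K)) (hL : IsCoatom L) :
    (∃ D : SL2 K, ∀ g ∈ L, ((D * g * D⁻¹ : SL2 K) : M2 K) 1 0 = 0) ∨
    (∃ k ∈ L, (k : M2 K).trace ≠ 0 ∧ ∀ x ∈ L, (x * k * x⁻¹) * k = k * (x * k * x⁻¹)) := by
  classical
  have h2 : (2 : K) = 0 := char2_two_eq_zero
  have h4 : 4 ≤ Fintype.card K := by
    rw [hK]
    calc 4 = 2 ^ 2 := by norm_num
      _ ≤ 2 ^ r := Nat.pow_le_pow_right (by norm_num) hr.two_le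
  have hborel : borel K ≠ ⊤ := by
    intro h
    have h5 : lo (1 : K) ∈ borel K := by rw [h]; exact Subgroup.mem_top _
    rw [mem_borel, lo_10] at h5
    exact one_ne_zero h5
  by_cases hU : ∀ x ∈ L, (x : M2 K).trace = 0 → x = 1
  · have hbot : L ≠ ⊥ := by
      intro h
      have hlt : L < borel K := by
        rw [h]
        apply bot_lt_iff_ne_bot.mpr
        intro hb
        have h5 : sl2U (1 : K) ∈ borel K := by rw [mem_borel, sl2U_10]
        rw [hb, Subgroup.mem_bot] at h5
        exact sl2U_ne_one one_ne_zero h5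
      exact hborel (hL.2 _ hlt)
    obtain ⟨k, hkL, hk, hn⟩ := wit_odd L hbot hU
    right
    exact ⟨k, hkL, hk, hn⟩
  · obtain ⟨u, hu⟩ := not_forall.mp hU
    obtain ⟨huL, hu'⟩ := Classical.not_imp.mp hu
    obtain ⟨hutr, hu1⟩ := Classical.not_imp.mp hu'
    have hutr2 : (u : M2 K).trace = 2 := by rw [hutr, h2]
    by_cases hcomm : ∀ y ∈ L, (y : M2 K).trace = 2 → u * y = y * u
    · left
      exact borel_struct L u huL hutr2 hu1 hcomm
    · obtain ⟨y, hy⟩ := not_forall.mp hcomm
      obtain ⟨hyL, hy'⟩ := Classical.not_imp.mp hy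
      obtain ⟨hytr, hxy⟩ := Classical.not_imp.mp hy'
      obtain ⟨D, s, t, hs, ht, hDx, hDy⟩ := nfG u y hutr2 hytr hxy
      obtain ⟨θ, hθ⟩ : ∃ θ : SL2 K ≃* SL2 K,
          ∀ g, θ g = thetaZ (Units.mk0 t ht) (RingHom.id K) g :=
        ⟨MulEquiv.ofBijective (thetaZ (Units.mk0 t ht) (RingHom.id K))
          (Finite.injective_iff_bijective.mp (thetaZ_inj _ _)), fun g => rfl⟩
      obtain ⟨E, hE⟩ : ∃ E : SL2 K ≃* SL2 K, ∀ g, E g = θ (D * g * D⁻¹) :=
        ⟨(MulAut.conj D).trans θ, fun g => rfl⟩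
      have hEu : E u = sl2U (t * s) := by
        rw [hE, hDx, hθ, thetaZ_U, RingHom.id_apply, Units.val_mk0]
      have hEy : E y = lo 1 := by
        rw [hE, hDy, hθ, thetaZ_L, RingHom.id_apply, Units.val_inv_eq_inv_val, Units.val_mk0,
          inv_mul_cancel₀ ht]
      have hco := coatom_map E L hL
      have hUm : sl2U (t * s) ∈ L.map E.toMonoidHom := ⟨u, huL, hEu⟩
      have hYm : lo (1 : K) ∈ L.map E.toMonoidHom := ⟨y, hyL, hEy⟩
      obtain ⟨S⟩ : Nonempty (Setup (L.map E.toMonoidHom) (t * s) 1) :=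
        ⟨⟨mul_ne_zero ht hs, one_ne_zero, ⟨_, hUm⟩, ⟨_, hYm⟩, rfl, rfl⟩⟩
      by_cases ha4 : 4 ≤ Nat.card (PU (L.map E.toMonoidHom))
      · exfalso
        obtain ⟨F₀, i1, i2, r', hr', h2', hc, -⟩ := sub_case S ha4 hco
        exact ms_sub_arith r r' (Fintype.card F₀) hr hr' h2' (by rw [← hc, hK])
      · have ha2 : Nat.card (PU (L.map E.toMonoidHom)) = 2 := by
          obtain ⟨a, z, B, G, kU, hh, r0, ha, hz, hBd, hGd, hkUd, ha2', hpa, -⟩ :=
            base_counts2' S
          rw [ha] at ha4 ⊢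
          obtain ⟨i, hi⟩ := hpa
          omega
        obtain ⟨k', hkL', hk', hn'⟩ := wit_a2 S ha2
        obtain ⟨k, hkL, rfl⟩ := hkL'
        right
        refine ⟨k, hkL, ?_, ?_⟩
        · intro h0
          apply hk'
          apply tr0_of_sq2 h2
          have h5 := sq_one2 h2 k h0
          show E k * E k = 1
          rw [← map_mul, h5, map_one]
        · intro x hx
          have h5 := hn' (E x) ⟨x, hx, rfl⟩
          apply E.injective
          have e1 : E (x * k * x⁻¹ * k) = E x * E k * (E x)⁻¹ * E k := by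
            simp only [map_mul, map_inv]
          have e2 : E (k * (x * k * x⁻¹)) = E k * (E x * E k * (E x)⁻¹) := by
            simp only [map_mul, map_inv]
          rw [e1, e2]
          exact h5

theorem sb_h4 [Fintype K] (r : ℕ) (hr : r.Prime) (hK : Fintype.card K = 2 ^ r) :
    4 ≤ Fintype.card K := by
  rw [hK]
  calc 4 = 2 ^ 2 := by norm_num
    _ ≤ 2 ^ r := Nat.pow_le_pow_right (by norm_num) hr.two_le

theorem sb_pair_le (H : Subgroup (SL2 K)) (x y : SL2 K) (hx : x ∈ H) (hy : y ∈ H) :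
    Subgroup.closure ({x, y} : Set (SL2 K)) ≤ H := by
  rw [Subgroup.closure_le]
  intro z hz
  rcases hz with rfl | hz
  · exact hx
  · rw [Set.mem_singleton_iff] at hz
    rw [hz]; exact hy

/-- two elements normalising a torus do not generate -/
theorem sb_N_closure [Fintype K] [CharP K 2] (h4 : 4 ≤ Fintype.card K) (k : SL2 K)
    (hk : (k : M2 K).trace ≠ 0) (x y : SL2 K) (hx : x ∈ sbN k) (hy : y ∈ sbN k) :
    Subgroup.closure ({x, y} : Set (SL2 K)) ≠ ⊤ := by
  intro htop
  apply sb_N_ne_top h4 k hk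
  rw [eq_top_iff, ← htop]
  exact sb_pair_le _ x y hx hy

theorem sb_borel_ne_top : borel K ≠ ⊤ := by
  intro h
  have h5 : lo (1 : K) ∈ borel K := by rw [h]; exact Subgroup.mem_top _
  rw [mem_borel, lo_10] at h5
  exact one_ne_zero h5

/-- the solubilizer of an involution -/
theorem sb_unip_iff [Fintype K] [CharP K 2] (r : ℕ) (hr : r.Prime)
    (hK : Fintype.card K = 2 ^ r) (s : K) (hs : s ≠ 0) (y : SL2 K) :
    Subgroup.closure ({sl2U s, y} : Set (SL2 K)) ≠ ⊤ ↔
      (y : M2 K) 1 0 = 0 ∨ (y : M2 K).trace = 0 ∨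
        ((sl2U s * y : SL2 K) : M2 K).trace = 0 := by
  have h2 : (2 : K) = 0 := char2_two_eq_zero
  have h4 := sb_h4 r hr hK
  have hutr : ((sl2U s : SL2 K) : M2 K).trace = 0 := by
    rw [sl2U_val, Matrix.trace_fin_two_of]
    linear_combination h2
  have huu : sl2U s * sl2U s = 1 := sq_one2 h2 _ hutr
  have huinv : (sl2U s)⁻¹ = sl2U s := inv_eq_of_mul_eq_one_right huu
  have hnc : ∀ w : SL2 K, sl2U s * w = w * sl2U s → (w : M2 K).trace = 0 := by
    intro w hw
    have h5 := (sl2U_comm_iff hs w).mp hw.symm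
    rw [Matrix.trace_fin_two, h5.2]
    linear_combination (w : M2 K) 1 1 * h2
  have hB : (y : M2 K) 1 0 = 0 → Subgroup.closure ({sl2U s, y} : Set (SL2 K)) ≠ ⊤ := by
    intro h htop
    apply sb_borel_ne_top (K := K)
    rw [eq_top_iff, ← htop]
    exact sb_pair_le _ _ _ (sl2U_10 s) h
  have h3 : ((sl2U s * y : SL2 K) : M2 K).trace = 0 →
      Subgroup.closure ({sl2U s, y} : Set (SL2 K)) ≠ ⊤ := by
    intro h
    have hsq : sl2U s * y * (sl2U s * y) = 1 := sq_one2 h2 _ h
    by_cases hy0 : (y : M2 K).trace = 0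
    · have hyy : y * y = 1 := sq_one2 h2 y hy0
      have hc : y * sl2U s = sl2U s * y := by
        calc y * sl2U s = (sl2U s * sl2U s) * (y * sl2U s) * (y * y) := by
              rw [huu, hyy, one_mul, mul_one]
          _ = sl2U s * (sl2U s * y * (sl2U s * y)) * y := by group
          _ = sl2U s * y := by rw [hsq, mul_one]
      exact hB ((sl2U_comm_iff hs y).mp hc).1
    · apply sb_N_closure h4 y hy0
      · right
        rw [huinv]
        calc sl2U s * y * sl2U s = (sl2U s * y * (sl2U s * y)) * y⁻¹ := by group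
          _ = y⁻¹ := by rw [hsq, one_mul]
      · left; group
  constructor
  · intro hne
    obtain ⟨M, hM, hle⟩ := (eq_top_or_exists_le_coatom _).resolve_left hne
    have huM : sl2U s ∈ M := hle (Subgroup.subset_closure (by simp))
    have hyM : y ∈ M := hle (Subgroup.subset_closure (by simp))
    rcases sb_coatom r hr hK M hM with ⟨D, hD⟩ | ⟨k, hkM, hk, hn⟩
    · left
      have h1 := hD _ huM
      rw [sb_conj10, sl2U_val] at h1
      simp at h1
      have hdet := D.det_coe
      rw [Matrix.det_fin_two] at hdet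
      have hc0 : (D : M2 K) 1 0 = 0 := by
        rcases h1 with h1 | h1
        · exact h1
        · exact (hs h1).elim
      have hd : (D : M2 K) 1 1 ≠ 0 := by
        intro hd
        rw [hc0, hd] at hdet
        simp at hdet
      have h6 := hD _ hyM
      rw [sb_conj10, hc0] at h6
      simp at h6
      rcases h6 with h6 | h6
      · exact (hd h6).elim
      · exact h6
    · have hss := ss_of_tr2 h2 k hk
      have hcj : ∀ g ∈ M, g * k * g⁻¹ = k ∨ g * k * g⁻¹ = k⁻¹ := fun g hg =>
        semis_conj2 h2 k (g * k * g⁻¹) hss (hn g hg).symm (tr_conj g k)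
      have hns : ¬ Sl2Scalar k := not_scalar_of_tr h2 k hk
      have huk : sl2U s * k * (sl2U s)⁻¹ = k⁻¹ := by
        rcases hcj _ huM with h | h
        · exfalso
          exact hk (hnc k (mul_inv_eq_iff_eq_mul.mp h))
        · exact h
      have hH : ∀ w : SL2 K, w * k = k * w →
          (w : M2 K).trace = 0 ∨ sl2U s * w * (sl2U s)⁻¹ = w⁻¹ := by
        intro w hw
        by_cases hw0 : (w : M2 K).trace = 0
        · left; exact hw0
        · right
          have h1 : Commute (sl2U s * w * (sl2U s)⁻¹) k⁻¹ := by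
            show sl2U s * w * (sl2U s)⁻¹ * k⁻¹ = k⁻¹ * (sl2U s * w * (sl2U s)⁻¹)
            rw [← huk]
            calc sl2U s * w * (sl2U s)⁻¹ * (sl2U s * k * (sl2U s)⁻¹)
                = sl2U s * (w * k) * (sl2U s)⁻¹ := by group
              _ = sl2U s * (k * w) * (sl2U s)⁻¹ := by rw [hw]
              _ = sl2U s * k * (sl2U s)⁻¹ * (sl2U s * w * (sl2U s)⁻¹) := by group
          have h3' : (sl2U s * w * (sl2U s)⁻¹) * k = k * (sl2U s * w * (sl2U s)⁻¹) :=
            (Commute.inv_right_iff.mp h1).eq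
          have h4' : (sl2U s * w * (sl2U s)⁻¹) * w = w * (sl2U s * w * (sl2U s)⁻¹) :=
            ct_sl _ k w hns h3' hw.symm
          rcases semis_conj2 h2 w _ (ss_of_tr2 h2 w hw0) h4'.symm (tr_conj _ w) with h5 | h5
          · exfalso
            exact hw0 (hnc w (mul_inv_eq_iff_eq_mul.mp h5))
          · exact h5
      rcases hcj y hyM with h | h
      · rcases hH y (mul_inv_eq_iff_eq_mul.mp h) with h5 | h5
        · right; left; exact h5
        · right; right
          apply tr0_of_sq2 h2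
          rw [huinv] at h5
          calc sl2U s * y * (sl2U s * y) = (sl2U s * y * sl2U s) * y := by group
            _ = 1 := by rw [h5]; group
      · have hw : (sl2U s * y) * k = k * (sl2U s * y) := by
          have e1 : sl2U s * y * k = sl2U s * (y * k * y⁻¹) * y := by group
          have e2 : sl2U s * k⁻¹ * y = (sl2U s * k * (sl2U s)⁻¹)⁻¹ * (sl2U s * y) := by group
          rw [e1, h, e2, huk, inv_inv]
        rcases hH _ hw with h5 | h5
        · right; right; exact h5
        · right; left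
          apply tr0_of_sq2 h2
          rw [huinv] at h5
          have h6 : y * sl2U s = y⁻¹ * sl2U s := by
            calc y * sl2U s = (sl2U s * sl2U s) * y * sl2U s := by rw [huu, one_mul]
              _ = sl2U s * (sl2U s * y) * sl2U s := by group
              _ = (sl2U s * y)⁻¹ := h5
              _ = y⁻¹ * (sl2U s)⁻¹ := by group
              _ = y⁻¹ * sl2U s := by rw [huinv]
          have h7 : y = y⁻¹ := mul_right_cancel h6
          have h8 : y * y = y * y⁻¹ := congrArg (fun z => y * z) h7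
          rw [h8, mul_inv_cancel]
  · rintro (h | h | h)
    · exact hB h
    · have hyy : y * y = 1 := sq_one2 h2 y h
      have hyinv : y⁻¹ = y := inv_eq_of_mul_eq_one_right hyy
      by_cases hk : ((sl2U s * y : SL2 K) : M2 K).trace = 0
      · exact h3 hk
      · apply sb_N_closure h4 (sl2U s * y) hk
        · right
          rw [huinv]
          calc sl2U s * (sl2U s * y) * sl2U s = (sl2U s * sl2U s) * y * sl2U s := by group
            _ = y * sl2U s := by rw [huu, one_mul]
            _ = y⁻¹ * (sl2U s)⁻¹ := by rw [hyinv, huinv]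
            _ = (sl2U s * y)⁻¹ := by group
        · right
          calc y * (sl2U s * y) * y⁻¹ = y * sl2U s := by group
            _ = y⁻¹ * (sl2U s)⁻¹ := by rw [hyinv, huinv]
            _ = (sl2U s * y)⁻¹ := by group
    · exact h3 h

/-- the solubilizer of a semisimple element -/
theorem sb_ss_iff [Fintype K] [CharP K 2] (r : ℕ) (hr : r.Prime)
    (hK : Fintype.card K = 2 ^ r) (x : SL2 K) (hx : (x : M2 K).trace ≠ 0) (y : SL2 K) :
    Subgroup.closure ({x, y} : Set (SL2 K)) ≠ ⊤ ↔
      (∃ D : SL2 K, ((D * x * D⁻¹ : SL2 K) : M2 K) 1 0 = 0 ∧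
        ((D * y * D⁻¹ : SL2 K) : M2 K) 1 0 = 0) ∨ y * x * y⁻¹ = x ∨ y * x * y⁻¹ = x⁻¹ := by
  have h2 : (2 : K) = 0 := char2_two_eq_zero
  have h4 := sb_h4 r hr hK
  constructor
  · intro hne
    obtain ⟨M, hM, hle⟩ := (eq_top_or_exists_le_coatom _).resolve_left hne
    have hxM : x ∈ M := hle (Subgroup.subset_closure (by simp))
    have hyM : y ∈ M := hle (Subgroup.subset_closure (by simp))
    rcases sb_coatom r hr hK M hM with ⟨D, hD⟩ | ⟨k, hkM, hk, hn⟩
    · left
      exact ⟨D, hD x hxM, hD y hyM⟩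
    · right
      have hss := ss_of_tr2 h2 k hk
      have hcj : ∀ g ∈ M, g * k * g⁻¹ = k ∨ g * k * g⁻¹ = k⁻¹ := fun g hg =>
        semis_conj2 h2 k (g * k * g⁻¹) hss (hn g hg).symm (tr_conj g k)
      have hns : ¬ Sl2Scalar k := not_scalar_of_tr h2 k hk
      have hxk : x * k = k * x := by
        rcases hcj x hxM with h | h
        · exact mul_inv_eq_iff_eq_mul.mp h
        · exfalso
          have hx2 : (x * x) * k = k * (x * x) := by
            have e1 : x * x * k = x * (x * k * x⁻¹) * x := by group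
            have e2 : x * k⁻¹ * x = (x * k * x⁻¹)⁻¹ * (x * x) := by group
            rw [e1, h, e2, h, inv_inv]
          have hns2 : ¬ Sl2Scalar (x * x) := by
            apply not_scalar_of_tr h2
            have h5 := sq_tr x
            rw [pow_two] at h5
            rw [h5]
            intro h6
            apply hx
            have h7 : (x : M2 K).trace ^ 2 = 0 := by linear_combination h6 + h2
            exact pow_eq_zero_iff (two_ne_zero) |>.mp h7
          have hc := ct_sl x (x * x) k hns2 (by group) hx2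
          have h8 : k = k⁻¹ := by
            rw [← h]
            exact (mul_inv_eq_iff_eq_mul.mpr hc).symm
          apply hk
          apply tr0_of_sq2 h2
          have h9 : k * k = k * k⁻¹ := congrArg (fun z => k * z) h8
          rw [h9, mul_inv_cancel]
      have h1 : (y * x * y⁻¹) * (y * k * y⁻¹) = (y * k * y⁻¹) * (y * x * y⁻¹) := by
        calc y * x * y⁻¹ * (y * k * y⁻¹) = y * (x * k) * y⁻¹ := by group
          _ = y * (k * x) * y⁻¹ := by rw [hxk]
          _ = y * k * y⁻¹ * (y * x * y⁻¹) := by group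
      have hns' : ¬ Sl2Scalar (y * k * y⁻¹) :=
        not_scalar_of_tr h2 _ (by rw [tr_conj]; exact hk)
      have h5 : (y * x * y⁻¹) * k = k * (y * x * y⁻¹) :=
        ct_sl _ (y * k * y⁻¹) k hns' h1 (hn y hyM)
      have h6 : (y * x * y⁻¹) * x = x * (y * x * y⁻¹) :=
        ct_sl _ k x hns h5 hxk.symm
      exact semis_conj2 h2 x _ (ss_of_tr2 h2 x hx) h6.symm (tr_conj y x)
  · rintro (⟨D, h1, h1'⟩ | h | h)
    · intro htop
      have hle : Subgroup.closure ({x, y} : Set (SL2 K)) ≤
          (borel K).comap (MulAut.conj D).toMonoidHom :=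
        sb_pair_le _ x y h1 h1'
      have h5 : D⁻¹ * lo (1 : K) * D ∈ (borel K).comap (MulAut.conj D).toMonoidHom := by
        apply hle
        rw [htop]; exact Subgroup.mem_top _
      have h6 : ((D * (D⁻¹ * lo (1 : K) * D) * D⁻¹ : SL2 K) : M2 K) 1 0 = 0 := h5
      have e : D * (D⁻¹ * lo (1 : K) * D) * D⁻¹ = lo 1 := by group
      rw [e, lo_10] at h6
      exact one_ne_zero h6
    · exact sb_N_closure h4 x hx x y (Or.inl (by group)) (Or.inl h)
    · exact sb_N_closure h4 x hx x y (Or.inl (by group)) (Or.inr h)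

end solub

end Cfsg.Agent.Helper18.Dickson
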