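import Mathlib
import Cfsg.Agent.Helper18.Solub1
import Cfsg.Agent.Helper12.SL2Trace
import Cfsg.Agent.Helper12.PSL2Class

/-!
# Counting the solubilizers in `SL₂(2^r)` (helper18)
-/

set_option autoImplicit false

namespace Cfsg.Agent.Helper18.Dickson

open Matrix Cfsg.Agent.Helper12 Cfsg.Agent.Helper18.OutPSL2

local notation "SL2" => Matrix.SpecialLinearGroup (Fin 2)
local notation "M2" => Matrix (Fin 2) (Fin 2)

theorem sb_card2 {α : Type*} [Finite α] (A B : α → Prop) (hAB : ∀ y, A y → ¬ B y) :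
    Nat.card {y // A y ∨ B y} = Nat.card {y // A y} + Nat.card {y // B y} := by
  classical
  have hd : Disjoint A B := by
    intro x hxA hxB y hxy
    exact hAB y (hxA y hxy) (hxB y hxy)
  rw [Nat.card_congr (subtypeOrEquiv A B hd), Nat.card_sum]

theorem sb_card3 {α : Type*} [Finite α] (A B C : α → Prop) (hAB : ∀ y, A y → ¬ B y)
    (hAC : ∀ y, A y → ¬ C y) (hBC : ∀ y, B y → ¬ C y) :
    Nat.card {y // A y ∨ B y ∨ C y} =
      Nat.card {y // A y} + Nat.card {y // B y} + Nat.card {y // C y} := by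
  rw [sb_card2 A (fun y => B y ∨ C y) (fun y hA h => h.elim (hAB y hA) (hAC y hA)),
    sb_card2 B C hBC, add_assoc]

section solub2

variable {K : Type*} [Field K]

theorem sb_mul_entry (a b : SL2 K) (i j : Fin 2) :
    ((a * b : SL2 K) : M2 K) i j =
      (a : M2 K) i 0 * (b : M2 K) 0 j + (a : M2 K) i 1 * (b : M2 K) 1 j := by
  rw [Matrix.SpecialLinearGroup.coe_mul, Matrix.mul_apply, Fin.sum_univ_two]

theorem sb_inv_val (a : SL2 K) :
    ((a⁻¹ : SL2 K) : M2 K) =
      !![(a : M2 K) 1 1, -(a : M2 K) 0 1; -(a : M2 K) 1 0, (a : M2 K) 0 0] := by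
  rw [Matrix.SpecialLinearGroup.coe_inv, Matrix.adjugate_fin_two]

theorem sb_inv_tr (a : SL2 K) : ((a⁻¹ : SL2 K) : M2 K).trace = (a : M2 K).trace := by
  rw [sb_inv_val, Matrix.trace_fin_two_of, Matrix.trace_fin_two]
  ring

theorem sb_det (a : SL2 K) :
    (a : M2 K) 0 0 * (a : M2 K) 1 1 - (a : M2 K) 0 1 * (a : M2 K) 1 0 = 1 := by
  have h := a.det_coe
  rw [Matrix.det_fin_two] at h
  exact h

theorem sb_tr_u (s : K) (y : SL2 K) :
    ((sl2U s * y : SL2 K) : M2 K).trace =
      (y : M2 K) 0 0 + s * (y : M2 K) 1 0 + (y : M2 K) 1 1 := by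
  rw [Matrix.trace_fin_two, sb_mul_entry, sb_mul_entry, sl2U_val]
  simp

/-- elements with non-zero `(1,0)` entry and `(1,1)` entry prescribed by the first column -/
theorem sb_count [Fintype K] (g : K → K → K) :
    Nat.card {y : SL2 K // (y : M2 K) 1 0 ≠ 0 ∧
        (y : M2 K) 1 1 = g ((y : M2 K) 1 0) ((y : M2 K) 0 0)} =
      (Fintype.card K - 1) * Fintype.card K := by
  classical
  let f : Kˣ × K → {y : SL2 K // (y : M2 K) 1 0 ≠ 0 ∧
        (y : M2 K) 1 1 = g ((y : M2 K) 1 0) ((y : M2 K) 0 0)} :=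
    fun p => ⟨sl2mk p.2 ((p.2 * g (p.1 : K) p.2 - 1) / (p.1 : K)) (p.1 : K) (g (p.1 : K) p.2) (by
        have hc : (p.1 : K) ≠ 0 := p.1.ne_zero
        rw [div_mul_cancel₀ _ hc]; ring), by
      constructor
      · rw [sl2mk_val]
        exact p.1.ne_zero
      · rw [sl2mk_val]
        rfl⟩
  have hinj : Function.Injective f := by
    rintro ⟨c, a⟩ ⟨c', a'⟩ h
    have hm : ((f (c, a)).1 : M2 K) = ((f (c', a')).1 : M2 K) := by rw [h]
    simp only [f, sl2mk_val] at hm
    obtain ⟨h00, h01, h10, h11⟩ := mat2_inj hm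
    exact Prod.ext (Units.ext h10) h00
  have hsurj : Function.Surjective f := by
    rintro ⟨y, hy1, hy2⟩
    refine ⟨(Units.mk0 _ hy1, (y : M2 K) 0 0), ?_⟩
    apply Subtype.ext
    apply Subtype.ext
    show (!![(y : M2 K) 0 0,
        ((y : M2 K) 0 0 * g ((y : M2 K) 1 0) ((y : M2 K) 0 0) - 1) / (y : M2 K) 1 0;
        (y : M2 K) 1 0, g ((y : M2 K) 1 0) ((y : M2 K) 0 0)] : M2 K) = (y : M2 K)
    conv_rhs => rw [Matrix.eta_fin_two (y : M2 K)]
    refine mat2_ext rfl ?_ rfl hy2.symm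
    rw [← hy2, div_eq_iff hy1]
    linear_combination sb_det y
  rw [← Nat.card_congr (Equiv.ofBijective f ⟨hinj, hsurj⟩), Nat.card_prod, Nat.card_units,
    Nat.card_eq_fintype_card]

theorem sb_card_upper [Fintype K] :
    Nat.card {y : SL2 K // (y : M2 K) 1 0 = 0} = Fintype.card K * (Fintype.card K - 1) := by
  rw [← card_borel (K := K)]
  exact Nat.card_congr (Equiv.subtypeEquivRight (fun y => Iff.rfl))

/-- the solubilizer of an involution has `3q(q-1)` elements -/
theorem sb_count_unip [Fintype K] [CharP K 2] (s : K) (hs : s ≠ 0) :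
    Nat.card {y : SL2 K // (y : M2 K) 1 0 = 0 ∨ (y : M2 K).trace = 0 ∨
        ((sl2U s * y : SL2 K) : M2 K).trace = 0} =
      3 * Fintype.card K * (Fintype.card K - 1) := by
  have hiff : ∀ y : SL2 K, ((y : M2 K) 1 0 = 0 ∨ (y : M2 K).trace = 0 ∨
        ((sl2U s * y : SL2 K) : M2 K).trace = 0) ↔
      ((y : M2 K) 1 0 = 0 ∨
        ((y : M2 K) 1 0 ≠ 0 ∧ (y : M2 K) 1 1 = -(y : M2 K) 0 0) ∨
        ((y : M2 K) 1 0 ≠ 0 ∧ (y : M2 K) 1 1 = -(s * (y : M2 K) 1 0) - (y : M2 K) 0 0)) := by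
    intro y
    rw [sb_tr_u, Matrix.trace_fin_two]
    by_cases hc : (y : M2 K) 1 0 = 0
    · simp [hc]
    · simp only [hc, false_or, ne_eq, not_false_eq_true, true_and]
      constructor
      · rintro (h | h)
        · left; linear_combination h
        · right; linear_combination h
      · rintro (h | h)
        · left; linear_combination h
        · right; linear_combination h
  have h3 : Nat.card {y : SL2 K // (y : M2 K) 1 0 = 0 ∨
        ((y : M2 K) 1 0 ≠ 0 ∧ (y : M2 K) 1 1 = -(y : M2 K) 0 0) ∨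
        ((y : M2 K) 1 0 ≠ 0 ∧ (y : M2 K) 1 1 = -(s * (y : M2 K) 1 0) - (y : M2 K) 0 0)} =
      Nat.card {y : SL2 K // (y : M2 K) 1 0 = 0} +
      Nat.card {y : SL2 K // (y : M2 K) 1 0 ≠ 0 ∧ (y : M2 K) 1 1 = -(y : M2 K) 0 0} +
      Nat.card {y : SL2 K // (y : M2 K) 1 0 ≠ 0 ∧
        (y : M2 K) 1 1 = -(s * (y : M2 K) 1 0) - (y : M2 K) 0 0} :=
    sb_card3 (fun y : SL2 K => (y : M2 K) 1 0 = 0)
      (fun y : SL2 K => (y : M2 K) 1 0 ≠ 0 ∧ (y : M2 K) 1 1 = -(y : M2 K) 0 0)
      (fun y : SL2 K => (y : M2 K) 1 0 ≠ 0 ∧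
        (y : M2 K) 1 1 = -(s * (y : M2 K) 1 0) - (y : M2 K) 0 0)
      (fun y hA hB => hB.1 hA) (fun y hA hC => hC.1 hA)
      (fun y hB hC => by
        apply hB.1
        have h5 : s * (y : M2 K) 1 0 = 0 := by linear_combination hC.2 - hB.2
        rcases mul_eq_zero.mp h5 with h6 | h6
        · exact (hs h6).elim
        · exact h6)
  have cB : Nat.card {y : SL2 K // (y : M2 K) 1 0 ≠ 0 ∧ (y : M2 K) 1 1 = -(y : M2 K) 0 0} =
      (Fintype.card K - 1) * Fintype.card K := sb_count (fun _ a => -a)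
  have cC : Nat.card {y : SL2 K // (y : M2 K) 1 0 ≠ 0 ∧
        (y : M2 K) 1 1 = -(s * (y : M2 K) 1 0) - (y : M2 K) 0 0} =
      (Fintype.card K - 1) * Fintype.card K := sb_count (fun c a => -(s * c) - a)
  rw [Nat.card_congr (Equiv.subtypeEquivRight hiff), h3, sb_card_upper, cB, cC]
  ring

/-- the solubilizer of a split semisimple element has `2q(q-1)` elements -/
theorem sb_count_split [Fintype K] (x : SL2 K) (h01 : (x : M2 K) 0 1 = 0)
    (h10 : (x : M2 K) 1 0 = 0) (hne : (x : M2 K) 0 0 ≠ (x : M2 K) 1 1) :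
    Nat.card {y : SL2 K // (∃ D : SL2 K, ((D * x * D⁻¹ : SL2 K) : M2 K) 1 0 = 0 ∧
        ((D * y * D⁻¹ : SL2 K) : M2 K) 1 0 = 0) ∨ y * x * y⁻¹ = x ∨ y * x * y⁻¹ = x⁻¹} =
      2 * Fintype.card K * (Fintype.card K - 1) := by
  have hsub : (x : M2 K) 0 0 - (x : M2 K) 1 1 ≠ 0 := sub_ne_zero.mpr hne
  have hiff : ∀ y : SL2 K, ((∃ D : SL2 K, ((D * x * D⁻¹ : SL2 K) : M2 K) 1 0 = 0 ∧
        ((D * y * D⁻¹ : SL2 K) : M2 K) 1 0 = 0) ∨ y * x * y⁻¹ = x ∨ y * x * y⁻¹ = x⁻¹) ↔
      ((y : M2 K) 1 0 = 0 ∨ ((y : M2 K) 1 0 ≠ 0 ∧ (y : M2 K) 1 1 = ((y : M2 K) 0 0)⁻¹)) := by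
    intro y
    have hdy := sb_det y
    constructor
    · rintro (⟨D, h1, h2⟩ | h | h)
      · rw [sb_conj10, h01, h10] at h1
        rw [sb_conj10] at h2
        have hdD := sb_det D
        have h5 : (D : M2 K) 1 0 * (D : M2 K) 1 1 = 0 := by
          have h6 : (D : M2 K) 1 0 * (D : M2 K) 1 1 * ((x : M2 K) 0 0 - (x : M2 K) 1 1) = 0 := by
            linear_combination h1
          rcases mul_eq_zero.mp h6 with h7 | h7
          · exact h7
          · exact (hsub h7).elim
        rcases mul_eq_zero.mp h5 with hc | hd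
        · left
          rw [hc] at h2 hdD
          have hd : (D : M2 K) 1 1 ≠ 0 := by
            intro hd
            rw [hd] at hdD
            simp at hdD
          have h8 : (D : M2 K) 1 1 ^ 2 * (y : M2 K) 1 0 = 0 := by linear_combination h2
          rcases mul_eq_zero.mp h8 with h9 | h9
          · exact (hd (pow_eq_zero_iff two_ne_zero |>.mp h9)).elim
          · exact h9
        · rw [hd] at h2 hdD
          have hc : (D : M2 K) 1 0 ≠ 0 := by
            intro hc
            rw [hc] at hdD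
            simp at hdD
          have h8 : (D : M2 K) 1 0 ^ 2 * (y : M2 K) 0 1 = 0 := by linear_combination -h2
          have hy01 : (y : M2 K) 0 1 = 0 := by
            rcases mul_eq_zero.mp h8 with h9 | h9
            · exact (hc (pow_eq_zero_iff two_ne_zero |>.mp h9)).elim
            · exact h9
          by_cases hy10 : (y : M2 K) 1 0 = 0
          · left; exact hy10
          · right
            refine ⟨hy10, ?_⟩
            rw [hy01] at hdy
            exact eq_inv_of_mul_eq_one_right (by linear_combination hdy)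
      · left
        have h5 : y * x = x * y := mul_inv_eq_iff_eq_mul.mp h
        have h6 := congrArg (fun z : SL2 K => (z : M2 K) 1 0) h5
        simp only [sb_mul_entry, h10, h01] at h6
        have h7 : (y : M2 K) 1 0 * ((x : M2 K) 0 0 - (x : M2 K) 1 1) = 0 := by
          linear_combination h6
        rcases mul_eq_zero.mp h7 with h8 | h8
        · exact h8
        · exact (hsub h8).elim
      · right
        have h5 : y * x = x⁻¹ * y := mul_inv_eq_iff_eq_mul.mp h
        have h6 := congrArg (fun z : SL2 K => (z : M2 K) 0 0) h5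
        have h7 := congrArg (fun z : SL2 K => (z : M2 K) 1 1) h5
        simp only [sb_mul_entry, sb_inv_val, h10, h01] at h6 h7
        simp at h6 h7
        have h00 : (y : M2 K) 0 0 = 0 := by
          have h8 : (y : M2 K) 0 0 * ((x : M2 K) 0 0 - (x : M2 K) 1 1) = 0 := by
            linear_combination h6
          rcases mul_eq_zero.mp h8 with h9 | h9
          · exact h9
          · exact (hsub h9).elim
        have h11 : (y : M2 K) 1 1 = 0 := by
          have h8 : (y : M2 K) 1 1 * ((x : M2 K) 0 0 - (x : M2 K) 1 1) = 0 := by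
            linear_combination -h7
          rcases mul_eq_zero.mp h8 with h9 | h9
          · exact h9
          · exact (hsub h9).elim
        refine ⟨?_, ?_⟩
        · intro hc
          rw [h00, hc] at hdy
          simp at hdy
        · rw [h11, h00, _root_.inv_zero]
    · rintro (h | ⟨hc, h⟩)
      · left
        refine ⟨1, ?_, ?_⟩
        · rw [one_mul, inv_one, mul_one]; exact h10
        · rw [one_mul, inv_one, mul_one]; exact h
      · by_cases h00 : (y : M2 K) 0 0 = 0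
        · right; right
          have h11 : (y : M2 K) 1 1 = 0 := by rw [h, h00, _root_.inv_zero]
          rw [mul_inv_eq_iff_eq_mul]
          apply Subtype.ext
          ext i j
          fin_cases i <;> fin_cases j <;>
            simp [sb_mul_entry, Matrix.adjugate_fin_two, h00, h11, h01, h10, mul_comm]
        · left
          have h5 : (y : M2 K) 0 0 * (y : M2 K) 1 1 = 1 := by rw [h]; exact mul_inv_cancel₀ h00
          have hy01 : (y : M2 K) 0 1 = 0 := by
            have h6 : (y : M2 K) 0 1 * (y : M2 K) 1 0 = 0 := by linear_combination h5 - hdy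
            rcases mul_eq_zero.mp h6 with h7 | h7
            · exact h7
            · exact (hc h7).elim
          refine ⟨sl2mk 0 1 (-1) 0 (by ring), ?_, ?_⟩
          · rw [sb_conj10, sl2mk_val, h01, h10]
            simp
          · rw [sb_conj10, sl2mk_val, hy01]
            simp
  have h3 : Nat.card {y : SL2 K // (y : M2 K) 1 0 = 0 ∨
        ((y : M2 K) 1 0 ≠ 0 ∧ (y : M2 K) 1 1 = ((y : M2 K) 0 0)⁻¹)} =
      Nat.card {y : SL2 K // (y : M2 K) 1 0 = 0} +
      Nat.card {y : SL2 K // (y : M2 K) 1 0 ≠ 0 ∧ (y : M2 K) 1 1 = ((y : M2 K) 0 0)⁻¹} :=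
    sb_card2 (fun y : SL2 K => (y : M2 K) 1 0 = 0)
      (fun y : SL2 K => (y : M2 K) 1 0 ≠ 0 ∧ (y : M2 K) 1 1 = ((y : M2 K) 0 0)⁻¹)
      (fun y hA hB => hB.1 hA)
  have cB : Nat.card {y : SL2 K // (y : M2 K) 1 0 ≠ 0 ∧
        (y : M2 K) 1 1 = ((y : M2 K) 0 0)⁻¹} =
      (Fintype.card K - 1) * Fintype.card K := sb_count (fun _ a => a⁻¹)
  rw [Nat.card_congr (Equiv.subtypeEquivRight hiff), h3, sb_card_upper, cB]
  ring

/-- centraliser orders in characteristic 2 -/
theorem sb_card_cz [Fintype K] [CharP K 2] (g : SL2 K) (ht : (g : M2 K).trace ≠ 0) :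
    (Nat.card {a : K // a ^ 2 - (g : M2 K).trace * a + 1 = 0} = 0 ∧
      Nat.card (Subgroup.centralizer ({g} : Set (SL2 K))) = Fintype.card K + 1) ∨
    (Nat.card {a : K // a ^ 2 - (g : M2 K).trace * a + 1 = 0} = 2 ∧
      Nat.card (Subgroup.centralizer ({g} : Set (SL2 K))) = Fintype.card K - 1) := by
  have h2 : (2 : K) = 0 := char2_two_eq_zero
  have h1 := (Subgroup.centralizer ({g} : Set (SL2 K))).index_mul_card
  rw [index_centralizer_eq_card_carrier, sl2_char2_card_carrier g ht, sl2_card] at h1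
  have hq1 : 1 < Fintype.card K := Fintype.one_lt_card
  obtain ⟨q, hq'⟩ : ∃ q, Fintype.card K = q + 1 := ⟨Fintype.card K - 1, by omega⟩
  rw [hq'] at h1 ⊢
  have hq0 : 0 < q := by omega
  have e : (q + 1) ^ 2 - 1 = q * (q + 2) := by
    have : (q + 1) ^ 2 = q * (q + 2) + 1 := by ring
    omega
  have e1 : q + 1 - 1 = q := by omega
  rw [e, e1] at h1
  generalize Nat.card (Subgroup.centralizer ({g} : Set (SL2 K))) = c at h1 ⊢
  rcases card_roots_zero_or_two _ (ss_of_tr2 h2 g ht) with h0 | h0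
  · left
    refine ⟨h0, ?_⟩
    rw [h0] at h1
    have h3 : (q + 1) * q * c = (q + 1) * q * (q + 2) := by linarith
    have hpos : 0 < (q + 1) * q := by positivity
    have := Nat.eq_of_mul_eq_mul_left hpos h3
    omega
  · right
    refine ⟨h0, ?_⟩
    rw [h0] at h1
    have h3 : (q + 1) * (q + 2) * c = (q + 1) * (q + 2) * q := by linarith
    have hpos : 0 < (q + 1) * (q + 2) := by positivity
    have := Nat.eq_of_mul_eq_mul_left hpos h3
    omega

/-- the solubilizer of a non-split semisimple element has `2(q+1)` elements -/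
theorem sb_count_nonsplit [Fintype K] [CharP K 2] (x : SL2 K) (hx : (x : M2 K).trace ≠ 0)
    (hno : ∀ a : K, a ^ 2 - (x : M2 K).trace * a + 1 ≠ 0)
    (hcz : Nat.card (Subgroup.centralizer ({x} : Set (SL2 K))) = Fintype.card K + 1) :
    Nat.card {y : SL2 K // (∃ D : SL2 K, ((D * x * D⁻¹ : SL2 K) : M2 K) 1 0 = 0 ∧
        ((D * y * D⁻¹ : SL2 K) : M2 K) 1 0 = 0) ∨ y * x * y⁻¹ = x ∨ y * x * y⁻¹ = x⁻¹} =
      2 * (Fintype.card K + 1) := by
  have h2 : (2 : K) = 0 := char2_two_eq_zero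
  have hiff : ∀ y : SL2 K, ((∃ D : SL2 K, ((D * x * D⁻¹ : SL2 K) : M2 K) 1 0 = 0 ∧
        ((D * y * D⁻¹ : SL2 K) : M2 K) 1 0 = 0) ∨ y * x * y⁻¹ = x ∨ y * x * y⁻¹ = x⁻¹) ↔
      (y * x * y⁻¹ = x ∨ y * x * y⁻¹ = x⁻¹) := by
    intro y
    constructor
    · rintro (⟨D, h1, -⟩ | h)
      · exfalso
        apply hno (((D * x * D⁻¹ : SL2 K) : M2 K) 0 0)
        have h5 := sb_det (D * x * D⁻¹)
        rw [h1] at h5
        have h6 := tr_conj D x
        rw [Matrix.trace_fin_two] at h6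
        rw [← h6]
        linear_combination -h5
      · exact h
    · intro h
      right; exact h
  have hxx : x ≠ x⁻¹ := by
    intro h
    apply hx
    apply tr0_of_sq2 h2
    have h9 : x * x = x * x⁻¹ := congrArg (fun z => x * z) h
    rw [h9, mul_inv_cancel]
  have h3 : Nat.card {y : SL2 K // y * x * y⁻¹ = x ∨ y * x * y⁻¹ = x⁻¹} =
      Nat.card {y : SL2 K // y * x * y⁻¹ = x} + Nat.card {y : SL2 K // y * x * y⁻¹ = x⁻¹} :=
    sb_card2 (fun y : SL2 K => y * x * y⁻¹ = x) (fun y : SL2 K => y * x * y⁻¹ = x⁻¹)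
      (fun y hA hB => hxx (hA.symm.trans hB))
  have cA : Nat.card {y : SL2 K // y * x * y⁻¹ = x} = Fintype.card K + 1 := by
    rw [← hcz]
    apply Nat.card_congr
    apply Equiv.subtypeEquivRight
    intro y
    rw [Subgroup.mem_centralizer_singleton_iff]
    exact mul_inv_eq_iff_eq_mul
  obtain ⟨w, hw⟩ := conj_ss2 x⁻¹ x (by rw [sb_inv_tr]; exact hx) (sb_inv_tr x).symm
  have cB : Nat.card {y : SL2 K // y * x * y⁻¹ = x⁻¹} = Nat.card {y : SL2 K // y * x * y⁻¹ = x} := by
    symm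
    apply Nat.card_congr
    refine Equiv.subtypeEquiv (Equiv.mulLeft w) ?_
    intro y
    have e : w * y * x * (w * y)⁻¹ = w * (y * x * y⁻¹) * w⁻¹ := by group
    show y * x * y⁻¹ = x ↔ w * y * x * (w * y)⁻¹ = x⁻¹
    rw [e]
    constructor
    · intro h
      rw [h, hw]
    · intro h
      rw [← hw] at h
      exact mul_left_cancel (mul_right_cancel h)
  rw [Nat.card_congr (Equiv.subtypeEquivRight hiff), h3, cB, cA]
  ring

end solub2

end Cfsg.Agent.Helper18.Dickson
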