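import Mathlib
import Cfsg.Agent.Helper18.Solub2

/-!
# Solubilizer sizes in `PSL₂(2^p)`, `p` prime (helper18)
-/

set_option autoImplicit false

namespace Cfsg.Agent.Helper18.Dickson

open Matrix Cfsg.Agent.Helper12 Cfsg.Agent.Helper18.OutPSL2

local notation "SL2" => Matrix.SpecialLinearGroup (Fin 2)
local notation "M2" => Matrix (Fin 2) (Fin 2)

theorem sb_map_closure {G H : Type*} [Group G] [Group H] (e : G ≃* H) (x y : G) :
    Subgroup.closure ({e x, e y} : Set H) =
      (Subgroup.closure ({x, y} : Set G)).map e.toMonoidHom := by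
  rw [MonoidHom.map_closure, Set.image_pair]
  rfl

theorem sb_map_top {G H : Type*} [Group G] [Group H] (e : G ≃* H) (x y : G) :
    Subgroup.closure ({e x, e y} : Set H) = ⊤ ↔ Subgroup.closure ({x, y} : Set G) = ⊤ := by
  rw [sb_map_closure]
  constructor
  · intro h
    apply Subgroup.map_injective (f := e.toMonoidHom) e.injective
    rw [h, Subgroup.map_top_of_surjective _ e.surjective]
  · intro h
    rw [h, Subgroup.map_top_of_surjective _ e.surjective]

section solub3

variable {K : Type*} [Field K]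

theorem sb_solv_iff [Fintype K] [CharP K 2] (r : ℕ) (hr : r.Prime)
    (hK : Fintype.card K = 2 ^ r) (x y : SL2 K) :
    Group.IsSolvable (Subgroup.closure ({x, y} : Set (SL2 K))) ↔
      Subgroup.closure ({x, y} : Set (SL2 K)) ≠ ⊤ := by
  have h4 := sb_h4 r hr hK
  constructor
  · intro hsol htop
    rw [htop] at hsol
    have h1 : Group.IsSolvable (SL2 K) := ms_solv_equiv Subgroup.topEquiv.symm hsol
    haveI := h1
    have h2 : Group.IsSolvable (Matrix.ProjectiveSpecialLinearGroup (Fin 2) K) :=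
      Group.isSolvable_of_surjective (f := pr (F := K)) pr_surj
    haveI := ms_simple (K := K) h4
    exact ms_noncomm (K := K) (IsSimpleGroup.comm_iff_isSolvable.mpr h2)
  · exact ms_even_solv r hr hK _

theorem sb_conj_count (D x : SL2 K) :
    Nat.card {y : SL2 K // Subgroup.closure ({D * x * D⁻¹, y} : Set (SL2 K)) ≠ ⊤} =
      Nat.card {y : SL2 K // Subgroup.closure ({x, y} : Set (SL2 K)) ≠ ⊤} := by
  symm
  apply Nat.card_congr
  refine Equiv.subtypeEquiv (MulAut.conj D).toEquiv ?_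
  intro y
  show Subgroup.closure ({x, y} : Set (SL2 K)) ≠ ⊤ ↔
    Subgroup.closure ({D * x * D⁻¹, D * y * D⁻¹} : Set (SL2 K)) ≠ ⊤
  exact not_congr (sb_map_top (MulAut.conj D) x y).symm

theorem sb_main_sl [Fintype K] [CharP K 2] (p : ℕ) (hp : p.Prime)
    (hK : Fintype.card K = 2 ^ p) (x : SL2 K) :
    (orderOf x = 2 → Nat.card {y : SL2 K // Subgroup.closure ({x, y} : Set (SL2 K)) ≠ ⊤} =
      3 * 2 ^ p * (2 ^ p - 1)) ∧
    (x ≠ 1 → orderOf x ∣ 2 ^ p - 1 →
      Nat.card {y : SL2 K // Subgroup.closure ({x, y} : Set (SL2 K)) ≠ ⊤} =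
        2 * 2 ^ p * (2 ^ p - 1)) ∧
    (x ≠ 1 → orderOf x ∣ 2 ^ p + 1 →
      Nat.card {y : SL2 K // Subgroup.closure ({x, y} : Set (SL2 K)) ≠ ⊤} =
        2 * (2 ^ p + 1)) := by
  have h2 : (2 : K) = 0 := char2_two_eq_zero
  have h4 := sb_h4 p hp hK
  have hq4 : 4 ≤ 2 ^ p := by rw [← hK]; exact h4
  obtain ⟨m, hm⟩ : ∃ m, 2 ^ p = 2 * m := by
    obtain ⟨j, rfl⟩ : ∃ j, p = j + 1 := ⟨p - 1, by have := hp.pos; omega⟩
    exact ⟨2 ^ j, by rw [pow_succ]; ring⟩
  have hss : x ≠ 1 → (orderOf x ∣ 2 ^ p - 1 ∨ orderOf x ∣ 2 ^ p + 1) →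
      (x : M2 K).trace ≠ 0 := by
    intro hx1 hdvd h0
    have h5 := sq_one2 h2 x h0
    have h6 : orderOf x ∣ 2 := orderOf_dvd_of_pow_eq_one (by rw [pow_two]; exact h5)
    rcases (Nat.dvd_prime Nat.prime_two).mp h6 with h7 | h7
    · exact hx1 (orderOf_eq_one_iff.mp h7)
    · rw [h7] at hdvd
      rcases hdvd with h | h <;> omega
  have hboth : x ≠ 1 → orderOf x ∣ 2 ^ p - 1 → orderOf x ∣ 2 ^ p + 1 → False := by
    intro hx1 h5 h6
    have h7 : orderOf x ∣ 2 := by
      have h8 := Nat.dvd_sub h6 h5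
      have e : 2 ^ p + 1 - (2 ^ p - 1) = 2 := by omega
      rw [e] at h8; exact h8
    rcases (Nat.dvd_prime Nat.prime_two).mp h7 with h9 | h9
    · exact hx1 (orderOf_eq_one_iff.mp h9)
    · rw [h9] at h5; omega
  have hcz : orderOf x ∣ Nat.card (Subgroup.centralizer ({x} : Set (SL2 K))) :=
    Subgroup.orderOf_dvd_natCard _ (Subgroup.mem_centralizer_singleton_iff.mpr rfl)
  refine ⟨?_, ?_, ?_⟩
  · intro ho
    have hx1 : x ≠ 1 := by
      rintro rfl
      rw [orderOf_one] at ho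
      omega
    have hxx : x * x = 1 := by
      have h5 := pow_orderOf_eq_one x
      rw [ho, pow_two] at h5
      exact h5
    have htr : (x : M2 K).trace = 2 := by rw [tr0_of_sq2 h2 x hxx, h2]
    obtain ⟨D, s, hs, hD⟩ := unip_conj x htr hx1
    rw [← sb_conj_count D x, hD,
      Nat.card_congr (Equiv.subtypeEquivRight (sb_unip_iff p hp hK s hs)), sb_count_unip s hs, hK]
  · intro hx1 hdvd
    have htr := hss hx1 (Or.inl hdvd)
    rcases sb_card_cz x htr with ⟨hR, hc⟩ | ⟨hR, hc⟩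
    · exfalso
      rw [hc, hK] at hcz
      exact hboth hx1 hdvd hcz
    · have hne : Nonempty {a : K // a ^ 2 - (x : M2 K).trace * a + 1 = 0} := by
        by_contra hemp
        rw [not_nonempty_iff] at hemp
        rw [Nat.card_of_isEmpty] at hR
        omega
      obtain ⟨⟨l, hl⟩⟩ := hne
      have hdet : l * ((x : M2 K).trace - l) - 0 * 0 = 1 := by linear_combination -hl
      have hne' : l ≠ (x : M2 K).trace - l := by
        intro h
        apply htr
        have h5 : (x : M2 K).trace = l + l := by linear_combination -h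
        rw [h5]; linear_combination l * h2
      have hk' : ((sl2mk l 0 0 ((x : M2 K).trace - l) hdet : SL2 K) : M2 K).trace ≠ 0 := by
        rw [sl2mk_val, Matrix.trace_fin_two_of]
        intro h
        apply htr
        linear_combination h
      obtain ⟨D, hD⟩ := conj_ss2 (sl2mk l 0 0 ((x : M2 K).trace - l) hdet) x hk'
        (by rw [sl2mk_val, Matrix.trace_fin_two_of]; ring)
      rw [← sb_conj_count D x, hD,
        Nat.card_congr (Equiv.subtypeEquivRight (sb_ss_iff p hp hK _ hk')),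
        sb_count_split _ rfl rfl hne', hK]
  · intro hx1 hdvd
    have htr := hss hx1 (Or.inr hdvd)
    rcases sb_card_cz x htr with ⟨hR, hc⟩ | ⟨hR, hc⟩
    · have hno : ∀ a : K, a ^ 2 - (x : M2 K).trace * a + 1 ≠ 0 := by
        intro a ha
        haveI : Nonempty {a : K // a ^ 2 - (x : M2 K).trace * a + 1 = 0} := ⟨⟨a, ha⟩⟩
        have h5 : 0 < Nat.card {a : K // a ^ 2 - (x : M2 K).trace * a + 1 = 0} := Nat.card_pos
        omega
      rw [Nat.card_congr (Equiv.subtypeEquivRight (sb_ss_iff p hp hK x htr)),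
        sb_count_nonsplit x htr hno hc, hK]
    · exfalso
      rw [hc, hK] at hcz
      exact hboth hx1 hcz hdvd

end solub3

/-- solubilizer sizes in `PSL₂(2^p)`, `p` prime -/
theorem sb_main (p : ℕ) (hp : p.Prime) {F : Type*} [Field F] [Fintype F]
    (hF : Fintype.card F = 2 ^ p) (x : Matrix.ProjectiveSpecialLinearGroup (Fin 2) F) :
    (orderOf x = 2 → Nat.card {y : Matrix.ProjectiveSpecialLinearGroup (Fin 2) F //
        Group.IsSolvable ↥(Subgroup.closure
          ({x, y} : Set (Matrix.ProjectiveSpecialLinearGroup (Fin 2) F)))} =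
      3 * 2 ^ p * (2 ^ p - 1)) ∧
    (x ≠ 1 → orderOf x ∣ 2 ^ p - 1 → Nat.card {y : Matrix.ProjectiveSpecialLinearGroup (Fin 2) F //
        Group.IsSolvable ↥(Subgroup.closure
          ({x, y} : Set (Matrix.ProjectiveSpecialLinearGroup (Fin 2) F)))} =
      2 * 2 ^ p * (2 ^ p - 1)) ∧
    (x ≠ 1 → orderOf x ∣ 2 ^ p + 1 → Nat.card {y : Matrix.ProjectiveSpecialLinearGroup (Fin 2) F //
        Group.IsSolvable ↥(Subgroup.closure
          ({x, y} : Set (Matrix.ProjectiveSpecialLinearGroup (Fin 2) F)))} =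
      2 * (2 ^ p + 1)) := by
  have heven : Even (Fintype.card F) := by
    rw [hF]
    exact Nat.even_pow.mpr ⟨even_two, hp.ne_zero⟩
  obtain ⟨hpo, hpe⟩ := field_parity (K := F)
  have h2 : (2 : F) = 0 := by
    by_contra h
    obtain ⟨j, hj⟩ := hpo h
    obtain ⟨i, hi⟩ := heven
    omega
  haveI : CharP F 2 := CharTwo.of_one_ne_zero_of_two_eq_zero one_ne_zero h2
  obtain ⟨e⟩ : Nonempty (SL2 F ≃* Matrix.ProjectiveSpecialLinearGroup (Fin 2) F) :=
    ⟨MulEquiv.ofBijective (pr (F := F)) ⟨pr_inj_char2 h2, pr_surj⟩⟩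
  obtain ⟨x₀, rfl⟩ := e.surjective x
  have hcount : Nat.card {y : Matrix.ProjectiveSpecialLinearGroup (Fin 2) F //
        Group.IsSolvable ↥(Subgroup.closure
          ({e x₀, y} : Set (Matrix.ProjectiveSpecialLinearGroup (Fin 2) F)))} =
      Nat.card {y : SL2 F // Subgroup.closure ({x₀, y} : Set (SL2 F)) ≠ ⊤} := by
    symm
    apply Nat.card_congr
    refine Equiv.subtypeEquiv e.toEquiv ?_
    intro y
    show Subgroup.closure ({x₀, y} : Set (SL2 F)) ≠ ⊤ ↔
      Group.IsSolvable ↥(Subgroup.closure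
        ({e x₀, e y} : Set (Matrix.ProjectiveSpecialLinearGroup (Fin 2) F)))
    rw [← sb_solv_iff p hp hF x₀ y, sb_map_closure]
    exact ⟨fun h => ms_solv_equiv (e.subgroupMap _).symm h,
      fun h => ms_solv_equiv (e.subgroupMap _) h⟩
  have ho : orderOf (e x₀) = orderOf x₀ := e.orderOf_eq x₀
  have hne : e x₀ ≠ 1 → x₀ ≠ 1 := by
    intro h h1
    apply h
    rw [h1, map_one]
  rw [hcount, ho]
  obtain ⟨h1, h2', h3⟩ := sb_main_sl p hp hF x₀
  exact ⟨h1, fun hx => h2' (hne hx), fun hx => h3 (hne hx)⟩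

end Cfsg.Agent.Helper18.Dickson
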