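import Mathlib
import Cfsg.Agent.Helper18.Solub3
import Cfsg.Agent.Helper18.HallPSL2

/-!
# Proper subgroups of `SL₂(3^r)`, `r` an odd prime (helper18)
-/

set_option autoImplicit false

namespace Cfsg.Agent.Helper18.Dickson

open Matrix Cfsg.Agent.Helper12 Cfsg.Agent.Helper18.OutPSL2

local notation "SL2" => Matrix.SpecialLinearGroup (Fin 2)
local notation "M2" => Matrix (Fin 2) (Fin 2)

theorem sq_pow3_mod16 (r : ℕ) (hr : Odd r) : 3 ^ r % 16 = 3 ∨ 3 ^ r % 16 = 11 := by
  obtain ⟨k, rfl⟩ := hr
  induction k with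
  | zero => left; norm_num
  | succ k ih =>
    have e : 3 ^ (2 * (k + 1) + 1) = 3 ^ (2 * k + 1) * 9 := by ring
    rw [e]
    generalize 3 ^ (2 * k + 1) = m at ih ⊢
    omega

theorem sq_no16 (x : ℕ) (h : x % 16 = 3 ∨ x % 16 = 11) : ¬ 16 ∣ x * (x ^ 2 - 1) := by
  intro hd
  have h4 : x ^ 2 % 16 = 9 := by
    rw [pow_two, Nat.mul_mod]
    rcases h with h | h <;> simp [h]
  have hpos : 0 < x ^ 2 := by
    rcases Nat.eq_zero_or_pos (x ^ 2) with h0 | h0
    · rw [h0] at h4; omega
    · exact h0
  have h5 : (x ^ 2 - 1) % 16 = 8 := by omega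
  have h6 : (x * (x ^ 2 - 1)) % 16 = 8 := by
    rw [Nat.mul_mod, h5]
    rcases h with h | h <;> simp [h]
  omega

section solq

variable {K : Type*} [Field K]

theorem sq_setup_three [Fintype K] (r : ℕ) (hr : r.Prime) (hr2 : r ≠ 2)
    (hK : Fintype.card K = 3 ^ r) {L : Subgroup (SL2 K)} {s t : K} (S : Setup L s t)
    (hL : L ≠ ⊤) : Nat.card L ∣ 24 := by
  classical
  have hrodd : Odd r := hr.odd_of_ne_two hr2
  haveI : Fact (Nat.Prime 3) := ⟨Nat.prime_three⟩
  haveI hch : CharP K 3 := ms_char 3 Nat.prime_three r hK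
  have h2 : (2 : K) ≠ 0 := two_ne_zero_of_char 3 (by norm_num)
  have h3 : (3 : K) = 0 := by exact_mod_cast CharP.cast_eq_zero K 3
  have hz := card_center_le_two h2 S
  have hz1 : 0 < Nat.card (Subgroup.center L) := Nat.card_pos
  have ht := S.ht
  have hY : lo t ∈ L := by rw [← S.hY]; exact S.Y.2
  have h5 : ¬ 5 ∣ Nat.card L := by
    intro h
    have h6 : 5 ∣ Nat.card (SL2 K) := h.trans (Subgroup.card_subgroup_dvd_card L)
    rw [sl2_card, hK] at h6
    exact ms_no5_mod _ (ms_pow3_mod5 r hrodd) h6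
  rcases struct_cases 3 (by norm_num) S with ⟨ha, hG⟩ | hBr | ⟨ha, hG, -⟩
  · rcases (by omega : Nat.card (Subgroup.center L) = 1 ∨ Nat.card (Subgroup.center L) = 2)
      with hz' | hz'
    · rw [hG, hz']; norm_num
    · rw [hG, hz']
  · have h1A : (1 : K) ∈ msA L t := by
      have hg : (lo t)⁻¹ ∈ L := L.inv_mem hY
      obtain ⟨α, hα, hrel⟩ := bruhat_ratio S hBr _ hg
        (by rw [inv10, lo_10]; exact neg_ne_zero.mpr ht)
      rw [inv00, inv10, lo_11, lo_10] at hrel
      have h6 : t * (α * t - 1) = 0 := by linear_combination hrel - t * h3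
      have h7 : α * t = 1 := sub_eq_zero.mp ((mul_eq_zero.mp h6).resolve_left ht)
      have e : 1 / t = α := by rw [div_eq_iff ht]; exact h7.symm
      rw [mem_msA, e]; exact hα
    have hinvA : ∀ y ∈ msA L t, y ≠ 0 → y⁻¹ ∈ msA L t := by
      intro y hy hy0
      have hg : lo t * (sl2U (y / t) * (lo t)⁻¹) ∈ L :=
        L.mul_mem hY (L.mul_mem hy (L.inv_mem hY))
      have e1 : y / t * t = y := div_mul_cancel₀ y ht
      have h10 : ((lo t * (sl2U (y / t) * (lo t)⁻¹) : SL2 K) : M2 K) 1 0 = -(t * y) := by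
        rw [mul10, mul00, mul10, inv00, inv10, lo_10, lo_11, sl2U_00, sl2U_01, sl2U_10, sl2U_11]
        linear_combination (-t) * e1
      have h00 : ((lo t * (sl2U (y / t) * (lo t)⁻¹) : SL2 K) : M2 K) 0 0 = 1 - y := by
        rw [mul00, mul00, mul10, inv00, inv10, lo_00, lo_01, lo_10, lo_11, sl2U_00, sl2U_01,
          sl2U_10, sl2U_11]
        linear_combination (-1 : K) * e1
      obtain ⟨α, hα, hrel⟩ := bruhat_ratio S hBr _ hg
        (by rw [h10]; exact neg_ne_zero.mpr (mul_ne_zero ht hy0))
      rw [h00, h10] at hrel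
      have h6 : t * (1 + α * t * y) = 0 := by linear_combination hrel
      have h7 : 1 + α * t * y = 0 := (mul_eq_zero.mp h6).resolve_left ht
      have h8 : α * t = -y⁻¹ := by
        have h9 : α * t * y = -1 := by linear_combination h7
        calc α * t = α * t * y * y⁻¹ := by
              rw [mul_assoc (α * t), mul_inv_cancel₀ hy0, mul_one]
          _ = -y⁻¹ := by rw [h9]; ring
      have e : (-y⁻¹) / t = α := by rw [div_eq_iff ht]; exact h8.symm
      have hneg : -y⁻¹ ∈ msA L t := by rw [mem_msA, e]; exact hα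
      have h10' := (msA L t).neg_mem hneg
      rw [neg_neg] at h10'
      exact h10'
    have hmulA := hua_mul 3 (by norm_num) (msA L t) h1A hinvA
    let f : ZMod 3 →+* K := ZMod.castHom (dvd_refl 3) K
    have hfA : ∀ k : ZMod 3, f k ∈ msA L t := by
      intro k
      have h6 : f k = ((k.val : ℕ) : K) := by
        have h7 := map_natCast f k.val
        rwa [ZMod.natCast_zmod_val] at h7
      rw [h6, ← nsmul_one]
      exact (msA L t).nsmul_mem h1A _
    have hKc : Fintype.card K = Fintype.card (ZMod 3) ^ r := by rw [ZMod.card, hK]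
    have hinvA' : ∀ x ∈ ((msA L t : AddSubgroup K) : Set K),
        x⁻¹ ∈ ((msA L t : AddSubgroup K) : Set K) := by
      intro x hx
      by_cases hx0 : x = 0
      · rw [hx0, _root_.inv_zero]; exact (msA L t).zero_mem
      · exact hinvA x hx hx0
    rcases sub_dichotomy f r hr hKc ((msA L t : AddSubgroup K) : Set K) h1A
      (fun x hx y hy => (msA L t).add_mem hx hy) hmulA (msA L t).zero_mem hinvA' hfA
      with hsmall | hbig
    · obtain ⟨a, z, B, G, kU, hh, rr, ha, hz', hBd, hGd, hkUd, ha3, hpa, hz1', hh1, hr1, hB,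
        hcompl, hG, hnd, hkU⟩ := base_counts 3 (by norm_num) S
      have hPU : ∀ u : PU L, ∃ k : ZMod 3, f k = t * (((u : L) : SL2 K) : M2 K) 0 1 := by
        intro u
        apply hsmall
        show sl2U (t * (((u : L) : SL2 K) : M2 K) 0 1 / t) ∈ L
        rw [mul_div_cancel_left₀ _ ht, ← PU_eq_sl2U u.2]
        exact (u : L).2
      choose φ hφ using hPU
      have hφinj : Function.Injective φ := by
        intro u u' h
        have h6 : t * (((u : L) : SL2 K) : M2 K) 0 1 = t * (((u' : L) : SL2 K) : M2 K) 0 1 := by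
          rw [← hφ u, ← hφ u', h]
        have h7 := mul_left_cancel₀ ht h6
        apply Subtype.ext
        apply Subtype.ext
        rw [PU_eq_sl2U u.2, PU_eq_sl2U u'.2, h7]
      have ha3' : a = 3 := by
        have h6 := Nat.card_le_card_of_injective φ hφinj
        rw [ha, Nat.card_eq_fintype_card, ZMod.card] at h6
        omega
      have h1A' : sl2U (1 / t) ∈ L := h1A
      have hBc : BU L ≤ cz S.U := by
        intro g hg
        rw [czU_iff S g]
        have hg10 := mem_BU.mp hg
        refine ⟨hg10, ?_⟩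
        have h6 := conj_U_upper (g : SL2 K) hg10 (1 / t)
        have h7 : (((g : SL2 K) : M2 K) 0 0) ^ 2 ∈ msA L t := by
          rw [mem_msA, div_eq_mul_one_div, ← h6]
          exact L.mul_mem (L.mul_mem g.2 h1A') (L.inv_mem g.2)
        obtain ⟨k, hk⟩ := hsmall _ h7
        have hdet := det_upper (g : SL2 K) hg10
        rcases ms_zmod3 k with rfl | rfl | rfl
        · exfalso
          rw [map_zero] at hk
          have h8 : ((g : SL2 K) : M2 K) 0 0 = 0 := (pow_eq_zero_iff two_ne_zero).mp hk.symm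
          rw [h8, zero_mul] at hdet
          exact zero_ne_one hdet
        · rw [map_one] at hk
          linear_combination (-(((g : SL2 K) : M2 K) 0 0)) * hdet +
            (((g : SL2 K) : M2 K) 1 1) * hk.symm
        · exfalso
          rw [map_neg, map_one] at hk
          have hsq : IsSquare (-1 : K) := ⟨((g : SL2 K) : M2 K) 0 0, by rw [hk, pow_two]⟩
          have h8 := FiniteField.isSquare_neg_one_iff.mp hsq
          rw [hK] at h8
          exact h8 (ms_pow3_mod4 r hrodd)
      have hrr : rr = 1 := by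
        have hBr' := hBr
        choose! u hu n hn hgun using hBr'
        have hψ : Function.Injective (fun g : {g : L // g ∉ BU L} =>
            ((⟨u g.1, hu g.1 g.2⟩, ⟨n g.1, hn g.1 g.2⟩) : PU L × BU L)) := by
          intro g g' h
          have h1 : u g.1 = u g'.1 := congrArg (fun x : PU L × BU L => (x.1 : L)) h
          have h2' : n g.1 = n g'.1 := congrArg (fun x : PU L × BU L => (x.2 : L)) h
          apply Subtype.ext
          calc (g : L) = u g.1 * S.Y * n g.1 := hgun g.1 g.2
            _ = u g'.1 * S.Y * n g'.1 := by rw [h1, h2']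
            _ = (g' : L) := (hgun g'.1 g'.2).symm
        have hle := Nat.card_le_card_of_injective _ hψ
        rw [Nat.card_prod, hcompl, ha, hBd] at hle
        have hBpos : 0 < B := by rw [← hBd]; exact Nat.card_pos
        have hpos : 0 < a * B := Nat.mul_pos (by omega) hBpos
        by_contra hne
        have h6 : 2 ≤ rr := by omega
        have h7 : 2 * (a * B) ≤ rr * (a * B) := Nat.mul_le_mul_right _ h6
        omega
      have hBeq : B = z * a := by
        have h6 : BU L = cz S.U := le_antisymm hBc (by rw [← nzU_eq S]; exact cz_le_nz _)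
        rw [← hBd, h6, card_czU 3 (by norm_num) S, hz', ha]
      have hG12 : Nat.card L = 12 * z := by
        rw [hGd, hG, hBeq, hrr, ha3']; ring
      rw [hz'] at hz
      rcases (by omega : z = 1 ∨ z = 2) with hz2 | hz2
      · rw [hG12, hz2]; norm_num
      · rw [hG12, hz2]
    · exfalso
      apply hL
      have hall : ∀ y : K, sl2U y ∈ L := by
        intro y
        have h6 : sl2U (y * t / t) ∈ L := hbig (y * t)
        rw [mul_div_cancel_right₀ y ht] at h6
        exact h6
      exact sl2_generate (lo t) (by rw [lo_10]; exact ht) L hall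
        (fun y => L.mul_mem (L.mul_mem hY (hall y)) (L.inv_mem hY))
  · exact (h5 (by rw [hG]; exact ⟨12 * Nat.card (Subgroup.center L), by ring⟩)).elim

/-- an element of exponent `24` in `SL₂(3^r)` (`r` odd) has trace in the prime field -/
theorem sq_tr_f3 [CharP K 3] (hnsq : ¬ IsSquare (-1 : K)) (g : SL2 K) (h : g ^ 24 = 1) :
    (g : M2 K).trace ^ 3 = (g : M2 K).trace := by
  haveI : Fact (Nat.Prime 3) := ⟨Nat.prime_three⟩
  have h3 : (3 : K) = 0 := by exact_mod_cast CharP.cast_eq_zero K 3
  have h8 : (g ^ 8) ^ 3 = 1 := by rw [← pow_mul]; exact h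
  have t8 := sl2_trace_eq_two_of_pow_char 3 (g ^ 8) h8
  have e2 := sq_tr g
  have e4 := sq_tr (g ^ 2)
  have e8 := sq_tr ((g ^ 2) ^ 2)
  have e : ((g ^ 2) ^ 2) ^ 2 = g ^ 8 := by rw [← pow_mul, ← pow_mul]
  rw [e, t8, e4, e2] at e8
  have hmain : (g : M2 K).trace ^ 2 * ((g : M2 K).trace ^ 2 - 1) *
      ((g : M2 K).trace ^ 2 + 1) ^ 2 = 0 := by
    linear_combination (-1 : K) * e8 + (3 * (g : M2 K).trace ^ 6 - 7 * (g : M2 K).trace ^ 4 +
      5 * (g : M2 K).trace ^ 2) * h3
  rcases mul_eq_zero.mp hmain with h5 | h5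
  · rcases mul_eq_zero.mp h5 with h6 | h6
    · have h7 : (g : M2 K).trace = 0 := (pow_eq_zero_iff two_ne_zero).mp h6
      rw [h7]; ring
    · linear_combination (g : M2 K).trace * h6
  · exfalso
    apply hnsq
    have h6 : (g : M2 K).trace ^ 2 + 1 = 0 := (pow_eq_zero_iff two_ne_zero).mp h5
    exact ⟨(g : M2 K).trace, by linear_combination (-1 : K) * h6⟩

/-- proper subgroups of `SL₂(3^r)`, `r` an odd prime: Borel type, torus normaliser type,
or all traces in the prime field -/
theorem sq_struct [Fintype K] (r : ℕ) (hr : r.Prime) (hr2 : r ≠ 2)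
    (hK : Fintype.card K = 3 ^ r) (M : Subgroup (SL2 K)) (hM : M ≠ ⊤) :
    (∃ D : SL2 K, ∀ g ∈ M, ((D * g * D⁻¹ : SL2 K) : M2 K) 1 0 = 0) ∨
    (∃ k : SL2 K, (k : M2 K).trace ^ 2 ≠ 4 ∧ ∀ x ∈ M, x ∈ sbN k) ∨
    (∀ g ∈ M, (g : M2 K).trace ^ 3 = (g : M2 K).trace) := by
  classical
  have hrodd : Odd r := hr.odd_of_ne_two hr2
  haveI : Fact (Nat.Prime 3) := ⟨Nat.prime_three⟩
  haveI hch : CharP K 3 := ms_char 3 Nat.prime_three r hK
  have h2 : (2 : K) ≠ 0 := two_ne_zero_of_char 3 (by norm_num)
  have h3 : (3 : K) = 0 := by exact_mod_cast CharP.cast_eq_zero K 3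
  have hnsq : ¬ IsSquare (-1 : K) := by
    intro hsq
    have h8 := FiniteField.isSquare_neg_one_iff.mp hsq
    rw [hK] at h8
    exact h8 (ms_pow3_mod4 r hrodd)
  have hdvd : Nat.card M ∣ Nat.card (SL2 K) := Subgroup.card_subgroup_dvd_card M
  rw [sl2_card, hK] at hdvd
  have key : ∀ g : SL2 K, ¬ Sl2Scalar g →
      (∀ n ∈ M, (n * g * n⁻¹) * g = g * (n * g * n⁻¹)) →
      (∃ D : SL2 K, ∀ g ∈ M, ((D * g * D⁻¹ : SL2 K) : M2 K) 1 0 = 0) ∨
      (∃ k : SL2 K, (k : M2 K).trace ^ 2 ≠ 4 ∧ ∀ x ∈ M, x ∈ sbN k) := by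
    intro g hns hc
    by_cases hss : (g : M2 K).trace ^ 2 = 4
    · left
      have htr' : ((g * g : SL2 K) : M2 K).trace = 2 := by
        have h5 := sq_tr g
        rw [pow_two] at h5
        rw [h5, hss]; norm_num
      have hg1 : g * g ≠ 1 := by
        intro h1
        apply hns
        have h5 := sl2_cayley g
        rw [← Matrix.SpecialLinearGroup.coe_mul, h1, Matrix.SpecialLinearGroup.coe_one] at h5
        have ht0 : (g : M2 K).trace ≠ 0 := by
          intro h0
          rw [h0] at hss
          have h4 : (4 : K) = 0 := by rw [← hss]; ring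
          apply h2
          have e : (2 : K) * 2 = 0 := by rw [← h4]; norm_num
          exact (mul_self_eq_zero.mp e)
        have e01 := congrFun (congrFun h5 0) 1
        have e10 := congrFun (congrFun h5 1) 0
        have e00 := congrFun (congrFun h5 0) 0
        have e11 := congrFun (congrFun h5 1) 1
        simp at e01 e10 e00 e11
        refine ⟨?_, ?_, ?_⟩
        · rcases e01 with h | h
          · exact (ht0 h).elim
          · exact h
        · rcases e10 with h | h
          · exact (ht0 h).elim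
          · exact h
        · apply mul_left_cancel₀ ht0
          linear_combination e11 - e00
      obtain ⟨D, s, hs, hD⟩ := unip_conj (g * g) htr' hg1
      refine ⟨D, ?_⟩
      intro n hn
      have hcc : Commute (n * g * n⁻¹) g := hc n hn
      have hcomm : Commute ((n * g * n⁻¹) * (n * g * n⁻¹)) (g * g) :=
        (hcc.mul_left hcc).mul_right (hcc.mul_left hcc)
      have e1 : (D * n * D⁻¹) * sl2U s * (D * n * D⁻¹)⁻¹ =
          D * ((n * g * n⁻¹) * (n * g * n⁻¹)) * D⁻¹ := by rw [← hD]; group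
      have e2 : (D * ((n * g * n⁻¹) * (n * g * n⁻¹)) * D⁻¹) * sl2U s =
          sl2U s * (D * ((n * g * n⁻¹) * (n * g * n⁻¹)) * D⁻¹) := by
        rw [← hD]
        calc D * ((n * g * n⁻¹) * (n * g * n⁻¹)) * D⁻¹ * (D * (g * g) * D⁻¹)
            = D * ((n * g * n⁻¹) * (n * g * n⁻¹) * (g * g)) * D⁻¹ := by group
          _ = D * ((g * g) * ((n * g * n⁻¹) * (n * g * n⁻¹))) * D⁻¹ := by rw [hcomm.eq]
          _ = D * (g * g) * D⁻¹ * (D * ((n * g * n⁻¹) * (n * g * n⁻¹)) * D⁻¹) := by group
      rw [← e1] at e2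
      have h5 := ((sl2U_comm_iff hs _).mp e2).1
      rw [sb_conj10, sl2U_val] at h5
      simp at h5
      rcases h5 with h5 | h5
      · exact h5
      · exact (hs h5).elim
    · right
      refine ⟨g, hss, fun n hn => ?_⟩
      rw [mem_sbN]
      exact semis_conj h2 g (n * g * n⁻¹) hss (hc n hn).symm (tr_conj n g)
  have hF : Nat.card M ∣ 24 → ∀ g ∈ M, (g : M2 K).trace ^ 3 = (g : M2 K).trace := by
    intro h24 g hg
    apply sq_tr_f3 hnsq
    have h5 : (⟨g, hg⟩ : M) ^ Nat.card M = 1 := pow_card_eq_one'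
    obtain ⟨c, hc⟩ := h24
    have h6 : (⟨g, hg⟩ : M) ^ 24 = 1 := by rw [hc, pow_mul, h5, one_pow]
    have h7 := congrArg (fun x : M => (x : SL2 K)) h6
    simpa using h7
  rcases odd_proper h2 M with ⟨D, hD⟩ | hab | ⟨g, hg, hc⟩ | ⟨hz, hc⟩ | ⟨D, s, t, ⟨S⟩⟩
  · left; exact ⟨D, hD⟩
  · by_cases hsc : ∀ g ∈ M, Sl2Scalar g
    · right; right
      intro g hg
      have h5 := sl2Scalar_trace_sq g (hsc g hg)
      linear_combination (g : M2 K).trace * h5 + (g : M2 K).trace * h3
    · obtain ⟨g, hg⟩ := not_forall.mp hsc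
      obtain ⟨hgM, hns⟩ := Classical.not_imp.mp hg
      have hcm : ∀ n ∈ M, (n * g * n⁻¹) * g = g * (n * g * n⁻¹) := by
        intro n hn
        have h5 := hab ⟨n, hn⟩ ⟨g, hgM⟩
        have h6 : n * g = g * n := congrArg Subtype.val h5
        calc n * g * n⁻¹ * g = (n * g) * n⁻¹ * g := by group
          _ = g * n * n⁻¹ * g := by rw [h6]
          _ = g * ((n * g) * n⁻¹) := by rw [h6]; group
          _ = g * (n * g * n⁻¹) := by group
      rcases key g hns hcm with h | h
      · left; exact h
      · right; left; exact h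
  · have hns : ¬ Sl2Scalar (g : SL2 K) := fun h => hg (sc_center M g h)
    have hidx := (cz g).index_mul_card
    have hpos : 0 < Nat.card (cz g) := Nat.card_pos
    have hi : (cz g).index = 1 ∨ (cz g).index = 2 := by
      have hipos : (cz g).index ≠ 0 := Subgroup.index_ne_zero_of_finite
      have h3' : (cz g).index ≤ 2 := by
        by_contra hh
        have h4 : 3 ≤ (cz g).index := by omega
        have h5 : 3 * Nat.card (cz g) ≤ (cz g).index * Nat.card (cz g) :=
          Nat.mul_le_mul_right _ h4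
        omega
      omega
    have hnorm : (cz g).Normal := by
      rcases hi with h1 | h2'
      · rw [Subgroup.index_eq_one.mp h1]; infer_instance
      · exact Subgroup.normal_of_index_eq_two h2'
    have hcm : ∀ n ∈ M, (n * (g : SL2 K) * n⁻¹) * (g : SL2 K) =
        (g : SL2 K) * (n * (g : SL2 K) * n⁻¹) := by
      intro n hn
      have h5 : (⟨n, hn⟩ : M) * g * (⟨n, hn⟩ : M)⁻¹ ∈ cz g :=
        hnorm.conj_mem g (mem_cz.mpr (Commute.refl g)) _
      have h6 := (mem_cz.mp h5).eq
      exact congrArg Subtype.val h6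
    rcases key _ hns hcm with h | h
    · left; exact h
    · right; left; exact h
  · right; right
    apply hF
    have hz1 : 0 < Nat.card (Subgroup.center M) := Nat.card_pos
    have h60 : Nat.card M = 60 * Nat.card (Subgroup.center M) → False := by
      intro hc'
      have h5L : 5 ∣ Nat.card M := ⟨12 * Nat.card (Subgroup.center M), by rw [hc']; ring⟩
      exact ms_no5_mod _ (ms_pow3_mod5 r hrodd) (h5L.trans hdvd)
    have h48 : Nat.card M = 48 → False := by
      intro hc'
      have h16 : 16 ∣ Nat.card M := ⟨3, by rw [hc']⟩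
      exact sq_no16 _ (sq_pow3_mod16 r hrodd) (h16.trans hdvd)
    rcases (by omega : Nat.card (Subgroup.center M) = 1 ∨ Nat.card (Subgroup.center M) = 2)
      with hz' | hz'
    · rcases hc with hc | hc | hc
      · rw [hc, hz']; norm_num
      · rw [hc, hz']
      · exact (h60 hc).elim
    · rcases hc with hc | hc | hc
      · rw [hc, hz']
      · exact (h48 (by rw [hc, hz'])).elim
      · exact (h60 hc).elim
  · right; right
    apply hF
    have hL' : M.map (MulAut.conj D).toMonoidHom ≠ ⊤ := by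
      intro h
      apply hM
      apply Subgroup.map_injective (f := (MulAut.conj D).toMonoidHom) (MulAut.conj D).injective
      rw [h, Subgroup.map_top_of_surjective _ (MulAut.conj D).surjective]
    have h5 := sq_setup_three r hr hr2 hK S hL'
    have h6 : Nat.card M = Nat.card (M.map (MulAut.conj D).toMonoidHom) :=
      Nat.card_congr ((MulAut.conj D).subgroupMap M).toEquiv
    rw [h6]; exact h5

end solq

end Cfsg.Agent.Helper18.Dickson
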