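import Mathlib
import Cfsg.Agent.Helper18.Solq1

/-!
# Two-generated proper subgroups of `SL₂(3^r)`, `r` an odd prime (helper18)
-/

set_option autoImplicit false

namespace Cfsg.Agent.Helper18.Dickson

open Matrix Cfsg.Agent.Helper12 Cfsg.Agent.Helper18.OutPSL2

local notation "SL2" => Matrix.SpecialLinearGroup (Fin 2)
local notation "M2" => Matrix (Fin 2) (Fin 2)

section solq2

variable {K : Type*} [Field K]

theorem sq_polar (X Y : M2 K) :
    Y * X = -(X * Y) + Y.trace • X + X.trace • Y +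
      ((X * Y).trace - X.trace * Y.trace) • (1 : M2 K) := by
  ext i j
  fin_cases i <;> fin_cases j <;>
    simp [Matrix.mul_apply, Fin.sum_univ_two, Matrix.trace_fin_two] <;> ring

theorem sq_lam_aux (A B : M2 K) (tA tB κ : K) (hA : A * A = tA • A - 1)
    (hB : B * B = tB • B - 1)
    (hBA : B * A = -(A * B) + tB • A + tA • B + κ • (1 : M2 K)) (a b c d : K) :
    A * (a • (1 : M2 K) + b • A + c • B + d • (A * B)) =
      (-b) • (1 : M2 K) + (a + b * tA) • A + (-d) • B + (c + d * tA) • (A * B) ∧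
    B * (a • (1 : M2 K) + b • A + c • B + d • (A * B)) =
      (b * κ - c - d * tA) • (1 : M2 K) + (b * tB + d) • A +
        (a + b * tA + c * tB + d * (tA * tB + κ)) • B + (-b) • (A * B) := by
  have hAAB : A * (A * B) = tA • (A * B) - B := by
    rw [← mul_assoc, hA, sub_mul, Matrix.smul_mul, one_mul]
  have hABB : A * B * B = tB • (A * B) - A := by
    rw [mul_assoc, hB, mul_sub, Matrix.mul_smul, mul_one]
  have hBAB : B * (A * B) = A + (tA * tB + κ) • B - tA • (1 : M2 K) := by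
    rw [← mul_assoc, hBA]
    simp only [add_mul, neg_mul, Matrix.smul_mul, one_mul, hABB, hB]
    module
  constructor
  · simp only [mul_add, Matrix.mul_smul, mul_one, hA, hAAB]
    module
  · simp only [mul_add, Matrix.mul_smul, mul_one, hBA, hB, hBAB]
    module

theorem sqP_add (h3 : (3 : K) = 0) {a b : K} (ha : a ^ 3 = a) (hb : b ^ 3 = b) :
    (a + b) ^ 3 = a + b := by
  linear_combination ha + hb + (a ^ 2 * b + a * b ^ 2) * h3

theorem sqP_mul {a b : K} (ha : a ^ 3 = a) (hb : b ^ 3 = b) : (a * b) ^ 3 = a * b := by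
  rw [mul_pow, ha, hb]

theorem sqP_neg {a : K} (ha : a ^ 3 = a) : (-a) ^ 3 = -a := by
  linear_combination (-1 : K) * ha

theorem sqP_sub (h3 : (3 : K) = 0) {a b : K} (ha : a ^ 3 = a) (hb : b ^ 3 = b) :
    (a - b) ^ 3 = a - b := by
  rw [sub_eq_add_neg]; exact sqP_add h3 ha (sqP_neg hb)

theorem sqP_two (h3 : (3 : K) = 0) : (2 : K) ^ 3 = 2 := by linear_combination 2 * h3

theorem sqP_of_sq (h3 : (3 : K) = 0) {t : K} (h : t ^ 2 = 4) : t ^ 3 = t := by
  linear_combination t * h + t * h3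

/-- the prime-field lattice spanned by `1, X, Y, XY` -/
def sqLam (X Y : M2 K) : Set (M2 K) :=
  {M | ∃ a b c d : K, a ^ 3 = a ∧ b ^ 3 = b ∧ c ^ 3 = c ∧ d ^ 3 = d ∧
    M = a • (1 : M2 K) + b • X + c • Y + d • (X * Y)}

theorem sq_lam_one (X Y : M2 K) : (1 : M2 K) ∈ sqLam X Y :=
  ⟨1, 0, 0, 0, by ring, by ring, by ring, by ring, by simp⟩

theorem sq_lam_sub (h3 : (3 : K) = 0) {X Y M M' : M2 K} (hM : M ∈ sqLam X Y)
    (hM' : M' ∈ sqLam X Y) : M - M' ∈ sqLam X Y := by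
  obtain ⟨a, b, c, d, ha, hb, hc, hd, rfl⟩ := hM
  obtain ⟨a', b', c', d', ha', hb', hc', hd', rfl⟩ := hM'
  exact ⟨a - a', b - b', c - c', d - d', sqP_sub h3 ha ha', sqP_sub h3 hb hb',
    sqP_sub h3 hc hc', sqP_sub h3 hd hd', by module⟩

theorem sq_lam_smul {X Y M : M2 K} {t : K} (ht : t ^ 3 = t) (hM : M ∈ sqLam X Y) :
    t • M ∈ sqLam X Y := by
  obtain ⟨a, b, c, d, ha, hb, hc, hd, rfl⟩ := hM
  exact ⟨t * a, t * b, t * c, t * d, sqP_mul ht ha, sqP_mul ht hb, sqP_mul ht hc,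
    sqP_mul ht hd, by module⟩

theorem sq_lam_tr (h3 : (3 : K) = 0) {X Y M : M2 K} (hX : X.trace ^ 3 = X.trace)
    (hY : Y.trace ^ 3 = Y.trace) (hXY : (X * Y).trace ^ 3 = (X * Y).trace)
    (hM : M ∈ sqLam X Y) : M.trace ^ 3 = M.trace := by
  obtain ⟨a, b, c, d, ha, hb, hc, hd, rfl⟩ := hM
  have e : (a • (1 : M2 K) + b • X + c • Y + d • (X * Y)).trace =
      a * 2 + b * X.trace + c * Y.trace + d * (X * Y).trace := by
    simp [Matrix.trace_add, Matrix.trace_smul, Matrix.trace_one]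
  rw [e]
  exact sqP_add h3 (sqP_add h3 (sqP_add h3 (sqP_mul ha (sqP_two h3)) (sqP_mul hb hX))
    (sqP_mul hc hY)) (sqP_mul hd hXY)

theorem sq_lam_mul (h3 : (3 : K) = 0) (X Y : SL2 K)
    (hX : (X : M2 K).trace ^ 3 = (X : M2 K).trace)
    (hY : (Y : M2 K).trace ^ 3 = (Y : M2 K).trace)
    (hXY : ((X : M2 K) * (Y : M2 K)).trace ^ 3 = ((X : M2 K) * (Y : M2 K)).trace)
    {M : M2 K} (hM : M ∈ sqLam (X : M2 K) (Y : M2 K)) :
    (X : M2 K) * M ∈ sqLam (X : M2 K) (Y : M2 K) ∧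
      (Y : M2 K) * M ∈ sqLam (X : M2 K) (Y : M2 K) := by
  obtain ⟨a, b, c, d, ha, hb, hc, hd, rfl⟩ := hM
  have hκ := sqP_sub h3 hXY (sqP_mul hX hY)
  obtain ⟨e1, e2⟩ := sq_lam_aux (X : M2 K) (Y : M2 K) _ _ _ (sl2_cayley X) (sl2_cayley Y)
    (sq_polar _ _) a b c d
  constructor
  · rw [e1]
    exact ⟨_, _, _, _, sqP_neg hb, sqP_add h3 ha (sqP_mul hb hX), sqP_neg hd,
      sqP_add h3 hc (sqP_mul hd hX), rfl⟩
  · rw [e2]
    exact ⟨_, _, _, _, sqP_sub h3 (sqP_sub h3 (sqP_mul hb hκ) hc) (sqP_mul hd hX),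
      sqP_add h3 (sqP_mul hb hY) hd,
      sqP_add h3 (sqP_add h3 (sqP_add h3 ha (sqP_mul hb hX)) (sqP_mul hc hY))
        (sqP_mul hd (sqP_add h3 (sqP_mul hX hY) hκ)), sqP_neg hb, rfl⟩

theorem sq_inv_mat (X : SL2 K) :
    ((X⁻¹ : SL2 K) : M2 K) = (X : M2 K).trace • (1 : M2 K) - (X : M2 K) := by
  rw [sb_inv_val]
  ext i j
  fin_cases i <;> fin_cases j <;> simp [Matrix.trace_fin_two]

/-- the elements preserving the lattice -/
def sqT (X Y : SL2 K) : Subgroup (SL2 K) where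
  carrier := {W | ∀ M ∈ sqLam (X : M2 K) (Y : M2 K),
    (W : M2 K) * M ∈ sqLam (X : M2 K) (Y : M2 K) ∧
    ((W⁻¹ : SL2 K) : M2 K) * M ∈ sqLam (X : M2 K) (Y : M2 K)}
  one_mem' := by
    intro M hM
    rw [inv_one, Matrix.SpecialLinearGroup.coe_one, one_mul]
    exact ⟨hM, hM⟩
  mul_mem' := by
    intro a b ha hb M hM
    constructor
    · rw [Matrix.SpecialLinearGroup.coe_mul, mul_assoc]
      exact (ha _ (hb M hM).1).1
    · rw [_root_.mul_inv_rev, Matrix.SpecialLinearGroup.coe_mul, mul_assoc]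
      exact (hb _ (ha M hM).2).2
  inv_mem' := by
    intro a ha M hM
    rw [inv_inv]
    exact ⟨(ha M hM).2, (ha M hM).1⟩

theorem sq_gen_mem (h3 : (3 : K) = 0) (X Y : SL2 K)
    (hX : (X : M2 K).trace ^ 3 = (X : M2 K).trace)
    (hY : (Y : M2 K).trace ^ 3 = (Y : M2 K).trace)
    (hXY : ((X : M2 K) * (Y : M2 K)).trace ^ 3 = ((X : M2 K) * (Y : M2 K)).trace) :
    X ∈ sqT X Y ∧ Y ∈ sqT X Y := by
  constructor
  · intro M hM
    have h1 := (sq_lam_mul h3 X Y hX hY hXY hM).1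
    refine ⟨h1, ?_⟩
    rw [sq_inv_mat, sub_mul, Matrix.smul_mul, one_mul]
    exact sq_lam_sub h3 (sq_lam_smul hX hM) h1
  · intro M hM
    have h1 := (sq_lam_mul h3 X Y hX hY hXY hM).2
    refine ⟨h1, ?_⟩
    rw [sq_inv_mat, sub_mul, Matrix.smul_mul, one_mul]
    exact sq_lam_sub h3 (sq_lam_smul hY hM) h1

/-- two elements with `tr X`, `tr Y`, `tr XY` in the prime field do not generate -/
theorem sq_f3_closure [Fintype K] (h3 : (3 : K) = 0) (h4 : 4 ≤ Fintype.card K) (X Y : SL2 K)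
    (hX : (X : M2 K).trace ^ 3 = (X : M2 K).trace)
    (hY : (Y : M2 K).trace ^ 3 = (Y : M2 K).trace)
    (hXY : ((X * Y : SL2 K) : M2 K).trace ^ 3 = ((X * Y : SL2 K) : M2 K).trace) :
    Subgroup.closure ({X, Y} : Set (SL2 K)) ≠ ⊤ := by
  intro htop
  rw [Matrix.SpecialLinearGroup.coe_mul] at hXY
  obtain ⟨hXm, hYm⟩ := sq_gen_mem h3 X Y hX hY hXY
  have hle := sb_pair_le (sqT X Y) X Y hXm hYm
  obtain ⟨a, ha0, ha1⟩ := ms_sq_wit h4
  have hmem : sl2mk a (-1) 1 0 (by ring) ∈ sqT X Y := by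
    apply hle; rw [htop]; exact Subgroup.mem_top _
  have h1 := (hmem 1 (sq_lam_one _ _)).1
  rw [mul_one] at h1
  have htr := sq_lam_tr h3 hX hY hXY h1
  rw [sl2mk_val, Matrix.trace_fin_two_of] at htr
  apply ha1
  have h5 : a * (a ^ 2 - 1) = 0 := by linear_combination htr
  exact (mul_eq_zero.mp h5).resolve_left ha0

theorem sq_N_ne_top [Fintype K] (h2 : (2 : K) ≠ 0) (h4 : 4 ≤ Fintype.card K) (k : SL2 K)
    (hk : (k : M2 K).trace ^ 2 ≠ 4) : sbN k ≠ ⊤ := by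
  intro htop
  have hodd : Odd (Fintype.card K) := (field_parity (K := K)).1 h2
  have hcard := sl2_odd_card_carrier hodd k hk
  have hsub : (ConjClasses.mk k).carrier ⊆ ({k, k⁻¹} : Set (SL2 K)) := by
    intro a ha
    rw [ConjClasses.mem_carrier_iff_mk_eq, ConjClasses.mk_eq_mk_iff_isConj, isConj_iff] at ha
    obtain ⟨c, hc⟩ := ha
    have hmem : c⁻¹ ∈ sbN k := by rw [htop]; exact Subgroup.mem_top _
    have e : a = c⁻¹ * k * c⁻¹⁻¹ := by rw [← hc]; group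
    rw [mem_sbN] at hmem
    rcases hmem with h | h
    · left; rw [e, h]
    · right; rw [e, h]; rfl
  have h1 := Nat.card_mono (Set.toFinite ({k, k⁻¹} : Set (SL2 K))) hsub
  have h3 : Nat.card (({k, k⁻¹} : Set (SL2 K))) ≤ 2 := by
    rw [Nat.card_coe_set_eq]
    have := Set.ncard_insert_le k ({k⁻¹} : Set (SL2 K))
    rw [Set.ncard_singleton] at this
    exact this
  have h5 : 4 * 3 ≤ Fintype.card K * (Fintype.card K - 1) :=
    Nat.mul_le_mul h4 (by omega)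
  omega

theorem sq_N_closure [Fintype K] (h2 : (2 : K) ≠ 0) (h4 : 4 ≤ Fintype.card K) (k : SL2 K)
    (hk : (k : M2 K).trace ^ 2 ≠ 4) (x y : SL2 K) (hx : x ∈ sbN k) (hy : y ∈ sbN k) :
    Subgroup.closure ({x, y} : Set (SL2 K)) ≠ ⊤ := by
  intro htop
  apply sq_N_ne_top h2 h4 k hk
  rw [eq_top_iff, ← htop]
  exact sb_pair_le _ x y hx hy

theorem sq_sq_ne_one (k : SL2 K) (hk : (k : M2 K).trace ^ 2 ≠ 4) : k * k ≠ 1 := by
  intro h
  apply hk
  have h5 := sq_tr k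
  rw [pow_two, h, one_tr] at h5
  linear_combination -h5

/-- an element inverting a semisimple element has trace zero -/
theorem sq_inverts_tr0 (k y : SL2 K) (hk : (k : M2 K).trace ^ 2 ≠ 4)
    (h : y * k * y⁻¹ = k⁻¹) : (y : M2 K).trace = 0 := by
  by_contra ht
  have hyy : (y * y) * k = k * (y * y) := by
    have e1 : y * y * k = y * (y * k * y⁻¹) * y := by group
    have e2 : y * k⁻¹ * y = (y * k * y⁻¹)⁻¹ * (y * y) := by group
    rw [e1, h, e2, h, inv_inv]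
  have h6 : (y : M2 K).trace • ((y : M2 K) * (k : M2 K)) =
      (y : M2 K).trace • ((k : M2 K) * (y : M2 K)) := by
    have h7 := congrArg (fun z : SL2 K => (z : M2 K)) hyy
    simp only [Matrix.SpecialLinearGroup.coe_mul] at h7
    rw [sl2_cayley y] at h7
    simp only [sub_mul, mul_sub, Matrix.smul_mul, Matrix.mul_smul, one_mul, mul_one] at h7
    exact sub_left_injective h7
  have hm := smul_right_injective (M2 K) ht h6
  have hyk : y * k = k * y := by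
    apply Subtype.ext
    rw [Matrix.SpecialLinearGroup.coe_mul, Matrix.SpecialLinearGroup.coe_mul]
    exact hm
  have hkk : k = k⁻¹ := by
    rw [← h, hyk]; group
  apply sq_sq_ne_one k hk
  have h9 : k * k = k * k⁻¹ := congrArg (fun z => k * z) hkk
  rw [h9, mul_inv_cancel]

theorem sq_N_case (h2 : (2 : K) ≠ 0) (k x y : SL2 K) (hk : (k : M2 K).trace ^ 2 ≠ 4)
    (hss : (x : M2 K).trace ^ 2 ≠ 4) (hxk : x * k = k * x) (hy : y ∈ sbN k) :
    y * x * y⁻¹ = x ∨ y * x * y⁻¹ = x⁻¹ := by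
  have hns : ¬ Sl2Scalar k := fun h => hk (sl2Scalar_trace_sq k h)
  have hyk : Commute (y * k * y⁻¹) k := by
    rcases mem_sbN.mp hy with h | h
    · rw [h]
    · rw [h]; exact (Commute.refl k).inv_left
  have h1 : (y * x * y⁻¹) * (y * k * y⁻¹) = (y * k * y⁻¹) * (y * x * y⁻¹) := by
    calc y * x * y⁻¹ * (y * k * y⁻¹) = y * (x * k) * y⁻¹ := by group
      _ = y * (k * x) * y⁻¹ := by rw [hxk]
      _ = y * k * y⁻¹ * (y * x * y⁻¹) := by group
  have hns' : ¬ Sl2Scalar (y * k * y⁻¹) := fun h =>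
    hk (by rw [← tr_conj y k]; exact sl2Scalar_trace_sq _ h)
  have h5 : (y * x * y⁻¹) * k = k * (y * x * y⁻¹) :=
    ct_sl _ (y * k * y⁻¹) k hns' h1 hyk.eq
  have h6 : (y * x * y⁻¹) * x = x * (y * x * y⁻¹) :=
    ct_sl _ k x hns h5 hxk.symm
  exact semis_conj h2 x _ hss h6.symm (tr_conj y x)

end solq2

end Cfsg.Agent.Helper18.Dickson
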