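import Mathlib
import Cfsg.Agent.Helper18.Solq2

/-!
# The solubilizers in `SL₂(3^r)`, `r` an odd prime (helper18)
-/

set_option autoImplicit false

namespace Cfsg.Agent.Helper18.Dickson

open Matrix Cfsg.Agent.Helper12 Cfsg.Agent.Helper18.OutPSL2

local notation "SL2" => Matrix.SpecialLinearGroup (Fin 2)
local notation "M2" => Matrix (Fin 2) (Fin 2)

section solq3

variable {K : Type*} [Field K]

theorem sq_negOne_val : ((sl2NegOne : SL2 K) : M2 K) = -1 := by
  have h := sl2NegOne_mul_val (1 : SL2 K)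
  rw [mul_one, Matrix.SpecialLinearGroup.coe_one] at h
  exact h

theorem sq_negOne_sq : (sl2NegOne : SL2 K) * sl2NegOne = 1 := by
  apply Subtype.ext
  rw [sl2NegOne_mul_val, sq_negOne_val, neg_neg, Matrix.SpecialLinearGroup.coe_one]

theorem sq_tr0_sq (w : SL2 K) (hw : (w : M2 K).trace = 0) : w * w = sl2NegOne := by
  apply Subtype.ext
  rw [Matrix.SpecialLinearGroup.coe_mul, sl2_cayley, hw, zero_smul, zero_sub, sq_negOne_val]

/-- the solubilizer of a generic semisimple element -/
theorem sq_ss_iff [Fintype K] (r : ℕ) (hr : r.Prime) (hr2 : r ≠ 2)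
    (hK : Fintype.card K = 3 ^ r) (x : SL2 K)
    (hx : (x : M2 K).trace ^ 3 ≠ (x : M2 K).trace) (y : SL2 K) :
    Subgroup.closure ({x, y} : Set (SL2 K)) ≠ ⊤ ↔
      (∃ D : SL2 K, ((D * x * D⁻¹ : SL2 K) : M2 K) 1 0 = 0 ∧
        ((D * y * D⁻¹ : SL2 K) : M2 K) 1 0 = 0) ∨ y * x * y⁻¹ = x ∨ y * x * y⁻¹ = x⁻¹ := by
  haveI : Fact (Nat.Prime 3) := ⟨Nat.prime_three⟩
  haveI hch : CharP K 3 := ms_char 3 Nat.prime_three r hK
  have h2 : (2 : K) ≠ 0 := two_ne_zero_of_char 3 (by norm_num)
  have h3 : (3 : K) = 0 := by exact_mod_cast CharP.cast_eq_zero K 3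
  have h4 : 4 ≤ Fintype.card K := by
    rw [hK]
    calc 4 ≤ 3 ^ 2 := by norm_num
      _ ≤ 3 ^ r := Nat.pow_le_pow_right (by norm_num) hr.two_le
  have hss : (x : M2 K).trace ^ 2 ≠ 4 := fun h => hx (sqP_of_sq h3 h)
  constructor
  · intro hne
    have hxM : x ∈ Subgroup.closure ({x, y} : Set (SL2 K)) :=
      Subgroup.subset_closure (by simp)
    have hyM : y ∈ Subgroup.closure ({x, y} : Set (SL2 K)) :=
      Subgroup.subset_closure (by simp)
    rcases sq_struct r hr hr2 hK _ hne with ⟨D, hD⟩ | ⟨k, hk, hn⟩ | hF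
    · left; exact ⟨D, hD x hxM, hD y hyM⟩
    · right
      have hxk : x * k = k * x := by
        rcases mem_sbN.mp (hn x hxM) with h | h
        · exact mul_inv_eq_iff_eq_mul.mp h
        · exfalso
          have h0 := sq_inverts_tr0 k x hk h
          apply hx; rw [h0]; ring
      exact sq_N_case h2 k x y hk hss hxk (hn y hyM)
    · exact (hx (hF x hxM)).elim
  · rintro (⟨D, h1, h1'⟩ | h | h)
    · intro htop
      have hle : Subgroup.closure ({x, y} : Set (SL2 K)) ≤
          (borel K).comap (MulAut.conj D).toMonoidHom :=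
        sb_pair_le _ x y h1 h1'
      have h5 : D⁻¹ * lo (1 : K) * D ∈ (borel K).comap (MulAut.conj D).toMonoidHom := by
        apply hle
        rw [htop]; exact Subgroup.mem_top _
      have h6 : ((D * (D⁻¹ * lo (1 : K) * D) * D⁻¹ : SL2 K) : M2 K) 1 0 = 0 := h5
      have e : D * (D⁻¹ * lo (1 : K) * D) * D⁻¹ = lo 1 := by group
      rw [e, lo_10] at h6
      exact one_ne_zero h6
    · exact sq_N_closure h2 h4 x hss x y (Or.inl (by group)) (Or.inl h)
    · exact sq_N_closure h2 h4 x hss x y (Or.inl (by group)) (Or.inr h)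

/-- the solubilizer of a unipotent element -/
theorem sq_unip_iff [Fintype K] (r : ℕ) (hr : r.Prime) (hr2 : r ≠ 2)
    (hK : Fintype.card K = 3 ^ r) (s : K) (hs : s ≠ 0) (y : SL2 K) :
    Subgroup.closure ({sl2U s, y} : Set (SL2 K)) ≠ ⊤ ↔
      (y : M2 K) 1 0 = 0 ∨ ((y : M2 K).trace ^ 3 = (y : M2 K).trace ∧
        ((sl2U s * y : SL2 K) : M2 K).trace ^ 3 = ((sl2U s * y : SL2 K) : M2 K).trace) := by
  haveI : Fact (Nat.Prime 3) := ⟨Nat.prime_three⟩
  haveI hch : CharP K 3 := ms_char 3 Nat.prime_three r hK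
  have h2 : (2 : K) ≠ 0 := two_ne_zero_of_char 3 (by norm_num)
  have h3 : (3 : K) = 0 := by exact_mod_cast CharP.cast_eq_zero K 3
  have h4 : 4 ≤ Fintype.card K := by
    rw [hK]
    calc 4 ≤ 3 ^ 2 := by norm_num
      _ ≤ 3 ^ r := Nat.pow_le_pow_right (by norm_num) hr.two_le
  constructor
  · intro hne
    have huM : sl2U s ∈ Subgroup.closure ({sl2U s, y} : Set (SL2 K)) :=
      Subgroup.subset_closure (by simp)
    have hyM : y ∈ Subgroup.closure ({sl2U s, y} : Set (SL2 K)) :=
      Subgroup.subset_closure (by simp)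
    rcases sq_struct r hr hr2 hK _ hne with ⟨D, hD⟩ | ⟨k, hk, hn⟩ | hF
    · left
      have h1 := hD _ huM
      rw [sb_conj10, sl2U_val] at h1
      simp at h1
      have hdet := D.det_coe
      rw [Matrix.det_fin_two] at hdet
      have hc0 : (D : M2 K) 1 0 = 0 := by
        rcases h1 with h1 | h1
        · exact h1
        · exact (hs h1).elim
      have hd : (D : M2 K) 1 1 ≠ 0 := by
        intro hd
        rw [hc0, hd] at hdet
        simp at hdet
      have h6 := hD _ hyM
      rw [sb_conj10, hc0] at h6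
      simp at h6
      rcases h6 with h6 | h6
      · exact (hd h6).elim
      · exact h6
    · exfalso
      have hUU : (sl2U s * sl2U s) * k = k * (sl2U s * sl2U s) := by
        rcases mem_sbN.mp (hn _ huM) with h | h
        · have h5 : sl2U s * k = k * sl2U s := mul_inv_eq_iff_eq_mul.mp h
          calc sl2U s * sl2U s * k = sl2U s * (sl2U s * k) := by group
            _ = sl2U s * (k * sl2U s) := by rw [h5]
            _ = (sl2U s * k) * sl2U s := by group
            _ = k * sl2U s * sl2U s := by rw [h5]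
            _ = k * (sl2U s * sl2U s) := by group
        · have e1 : sl2U s * sl2U s * k = sl2U s * (sl2U s * k * (sl2U s)⁻¹) * sl2U s := by
            group
          have e2 : sl2U s * k⁻¹ * sl2U s =
              (sl2U s * k * (sl2U s)⁻¹)⁻¹ * (sl2U s * sl2U s) := by group
          rw [e1, h, e2, h, inv_inv]
      rw [sl2U_mul] at hUU
      have hss' : s + s ≠ 0 := by
        intro h
        have h5 : 2 * s = 0 := by linear_combination h
        exact hs ((mul_eq_zero.mp h5).resolve_left h2)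
      have h5 := (sl2U_comm_iff hss' k).mp hUU.symm
      apply hk
      have hdet := sb_det k
      rw [Matrix.trace_fin_two]
      linear_combination ((k : M2 K) 0 0 - (k : M2 K) 1 1) * h5.2 + 4 * hdet +
        4 * (k : M2 K) 0 1 * h5.1
    · right
      exact ⟨hF y hyM, hF _ (mul_mem huM hyM)⟩
  · rintro (h | ⟨h, h'⟩)
    · intro htop
      apply sb_borel_ne_top (K := K)
      rw [eq_top_iff, ← htop]
      exact sb_pair_le _ _ _ (sl2U_10 s) h
    · apply sq_f3_closure h3 h4 _ _ _ h h'
      rw [sl2U_val, Matrix.trace_fin_two_of]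
      linear_combination 2 * h3

/-- the solubilizer of an element of trace zero -/
theorem sq_inv_iff [Fintype K] (r : ℕ) (hr : r.Prime) (hr2 : r ≠ 2)
    (hK : Fintype.card K = 3 ^ r) (x : SL2 K) (hx : (x : M2 K).trace = 0) (y : SL2 K) :
    Subgroup.closure ({x, y} : Set (SL2 K)) ≠ ⊤ ↔
      y * x * y⁻¹ = x ∨ y * x * y⁻¹ = x⁻¹ ∨ (y : M2 K).trace = 0 ∨
        ((x * y : SL2 K) : M2 K).trace = 0 ∨
        ((y : M2 K).trace ^ 3 = (y : M2 K).trace ∧
          ((x * y : SL2 K) : M2 K).trace ^ 3 = ((x * y : SL2 K) : M2 K).trace) := by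
  have hrodd : Odd r := hr.odd_of_ne_two hr2
  haveI : Fact (Nat.Prime 3) := ⟨Nat.prime_three⟩
  haveI hch : CharP K 3 := ms_char 3 Nat.prime_three r hK
  have h2 : (2 : K) ≠ 0 := two_ne_zero_of_char 3 (by norm_num)
  have h3 : (3 : K) = 0 := by exact_mod_cast CharP.cast_eq_zero K 3
  have h4 : 4 ≤ Fintype.card K := by
    rw [hK]
    calc 4 ≤ 3 ^ 2 := by norm_num
      _ ≤ 3 ^ r := Nat.pow_le_pow_right (by norm_num) hr.two_le
  have hnsq : ¬ IsSquare (-1 : K) := by
    intro hsq
    have h8 := FiniteField.isSquare_neg_one_iff.mp hsq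
    rw [hK] at h8
    exact h8 (ms_pow3_mod4 r hrodd)
  have hss : (x : M2 K).trace ^ 2 ≠ 4 := by
    rw [hx]
    intro h
    have h5 : (1 : K) = 0 := by linear_combination (-1 : K) * h - h3
    exact one_ne_zero h5
  have hP0 : ∀ w : SL2 K, (w : M2 K).trace = 0 → (w : M2 K).trace ^ 3 = (w : M2 K).trace := by
    intro w hw; rw [hw]; ring
  have hzz := sq_negOne_sq (K := K)
  constructor
  · intro hne
    have hxM : x ∈ Subgroup.closure ({x, y} : Set (SL2 K)) :=
      Subgroup.subset_closure (by simp)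
    have hyM : y ∈ Subgroup.closure ({x, y} : Set (SL2 K)) :=
      Subgroup.subset_closure (by simp)
    rcases sq_struct r hr hr2 hK _ hne with ⟨D, hD⟩ | ⟨k, hk, hn⟩ | hF
    · exfalso
      apply hnsq
      have h10 := hD x hxM
      have hdet := sb_det (D * x * D⁻¹)
      have htr := tr_conj D x
      rw [hx, Matrix.trace_fin_two] at htr
      exact ⟨((D * x * D⁻¹ : SL2 K) : M2 K) 0 0, by
        linear_combination hdet + ((D * x * D⁻¹ : SL2 K) : M2 K) 0 1 * h10 -
          ((D * x * D⁻¹ : SL2 K) : M2 K) 0 0 * htr⟩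
    · rcases mem_sbN.mp (hn x hxM) with h | h
      · rcases sq_N_case h2 k x y hk hss (mul_inv_eq_iff_eq_mul.mp h) (hn y hyM) with h5 | h5
        · left; exact h5
        · right; left; exact h5
      · rcases mem_sbN.mp (hn y hyM) with h' | h'
        · right; right; right; left
          apply sq_inverts_tr0 k (x * y) hk
          calc x * y * k * (x * y)⁻¹ = x * (y * k * y⁻¹) * x⁻¹ := by group
            _ = k⁻¹ := by rw [h', h]
        · right; right; left
          exact sq_inverts_tr0 k y hk h'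
    · right; right; right; right
      exact ⟨hF y hyM, hF _ (mul_mem hxM hyM)⟩
  · rintro (h | h | h | h | ⟨h, h'⟩)
    · exact sq_N_closure h2 h4 x hss x y (Or.inl (by group)) (Or.inl h)
    · exact sq_N_closure h2 h4 x hss x y (Or.inl (by group)) (Or.inr h)
    · have hxx := sq_tr0_sq x hx
      have hyy := sq_tr0_sq y h
      by_cases hW : ((x * y : SL2 K) : M2 K).trace ^ 2 = 4
      · exact sq_f3_closure h3 h4 x y (hP0 x hx) (hP0 y h) (sqP_of_sq h3 hW)
      · apply sq_N_closure h2 h4 (x * y) hW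
        · right
          rw [eq_inv_iff_mul_eq_one]
          calc x * (x * y) * x⁻¹ * (x * y) = (x * x) * (y * y) := by group
            _ = 1 := by rw [hxx, hyy, hzz]
        · right
          rw [eq_inv_iff_mul_eq_one]
          calc y * (x * y) * y⁻¹ * (x * y) = y * (x * x) * y := by group
            _ = (y * y) * (y * y) := by rw [hxx, ← hyy]; group
            _ = 1 := by rw [hyy, hzz]
    · have hxx := sq_tr0_sq x hx
      have hWW := sq_tr0_sq (x * y) h
      by_cases hY : (y : M2 K).trace ^ 2 = 4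
      · exact sq_f3_closure h3 h4 x y (hP0 x hx) (sqP_of_sq h3 hY) (hP0 _ h)
      · apply sq_N_closure h2 h4 y hY
        · right
          have h1 : y * x * y = x := by
            apply mul_left_cancel (a := x)
            calc x * (y * x * y) = x * y * (x * y) := by group
              _ = x * x := by rw [hWW, hxx]
          calc x * y * x⁻¹ = y⁻¹ * (y * x * y) * x⁻¹ := by group
            _ = y⁻¹ * x * x⁻¹ := by rw [h1]
            _ = y⁻¹ := by group
        · left; group
    · exact sq_f3_closure h3 h4 x y (hP0 x hx) h h'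

end solq3

end Cfsg.Agent.Helper18.Dickson
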