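import Mathlib
import Cfsg.Agent.Helper18.Solq3

/-!
# Counting the solubilizers in `SL₂(3^r)` (helper18)
-/

set_option autoImplicit false

namespace Cfsg.Agent.Helper18.Dickson

open Matrix Cfsg.Agent.Helper12 Cfsg.Agent.Helper18.OutPSL2

local notation "SL2" => Matrix.SpecialLinearGroup (Fin 2)
local notation "M2" => Matrix (Fin 2) (Fin 2)

section solq4

variable {K : Type*} [Field K]

/-- centraliser orders in odd characteristic -/
theorem sq_card_cz [Fintype K] (h2 : (2 : K) ≠ 0) (g : SL2 K)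
    (ht : (g : M2 K).trace ^ 2 ≠ 4) :
    (Nat.card {a : K // a ^ 2 - (g : M2 K).trace * a + 1 = 0} = 0 ∧
      Nat.card (Subgroup.centralizer ({g} : Set (SL2 K))) = Fintype.card K + 1) ∨
    (Nat.card {a : K // a ^ 2 - (g : M2 K).trace * a + 1 = 0} = 2 ∧
      Nat.card (Subgroup.centralizer ({g} : Set (SL2 K))) = Fintype.card K - 1) := by
  have hodd : Odd (Fintype.card K) := (field_parity (K := K)).1 h2
  have h1 := (Subgroup.centralizer ({g} : Set (SL2 K))).index_mul_card
  rw [index_centralizer_eq_card_carrier, sl2_odd_card_carrier hodd g ht, sl2_card] at h1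
  have hq1 : 1 < Fintype.card K := Fintype.one_lt_card
  obtain ⟨q, hq'⟩ : ∃ q, Fintype.card K = q + 1 := ⟨Fintype.card K - 1, by omega⟩
  rw [hq'] at h1 ⊢
  have hq0 : 0 < q := by omega
  have e : (q + 1) ^ 2 - 1 = q * (q + 2) := by
    have : (q + 1) ^ 2 = q * (q + 2) + 1 := by ring
    omega
  have e1 : q + 1 - 1 = q := by omega
  rw [e, e1] at h1
  generalize Nat.card (Subgroup.centralizer ({g} : Set (SL2 K))) = c at h1 ⊢
  rcases card_roots_zero_or_two _ ht with h0 | h0
  · left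
    refine ⟨h0, ?_⟩
    rw [h0] at h1
    have h3 : (q + 1) * q * c = (q + 1) * q * (q + 2) := by linarith
    have hpos : 0 < (q + 1) * q := by positivity
    have := Nat.eq_of_mul_eq_mul_left hpos h3
    omega
  · right
    refine ⟨h0, ?_⟩
    rw [h0] at h1
    have h3 : (q + 1) * (q + 2) * c = (q + 1) * (q + 2) * q := by linarith
    have hpos : 0 < (q + 1) * (q + 2) := by positivity
    have := Nat.eq_of_mul_eq_mul_left hpos h3
    omega

theorem sq_card_conj_eq (x : SL2 K) :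
    Nat.card {y : SL2 K // y * x * y⁻¹ = x} =
      Nat.card (Subgroup.centralizer ({x} : Set (SL2 K))) := by
  apply Nat.card_congr
  apply Equiv.subtypeEquivRight
  intro y
  rw [Subgroup.mem_centralizer_singleton_iff]
  exact mul_inv_eq_iff_eq_mul

theorem sq_card_inv_conj (x w : SL2 K) (hw : w * x * w⁻¹ = x⁻¹) :
    Nat.card {y : SL2 K // y * x * y⁻¹ = x⁻¹} = Nat.card {y : SL2 K // y * x * y⁻¹ = x} := by
  symm
  apply Nat.card_congr
  refine Equiv.subtypeEquiv (Equiv.mulLeft w) ?_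
  intro y
  have e : w * y * x * (w * y)⁻¹ = w * (y * x * y⁻¹) * w⁻¹ := by group
  show y * x * y⁻¹ = x ↔ w * y * x * (w * y)⁻¹ = x⁻¹
  rw [e]
  constructor
  · intro h
    rw [h, hw]
  · intro h
    rw [← hw] at h
    exact mul_left_cancel (mul_right_cancel h)

/-- the solubilizer of a non-split semisimple element has `2(q+1)` elements -/
theorem sq_count_nonsplit [Fintype K] (h2 : (2 : K) ≠ 0) (x : SL2 K)
    (hx : (x : M2 K).trace ^ 2 ≠ 4)
    (hno : ∀ a : K, a ^ 2 - (x : M2 K).trace * a + 1 ≠ 0)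
    (hcz : Nat.card (Subgroup.centralizer ({x} : Set (SL2 K))) = Fintype.card K + 1) :
    Nat.card {y : SL2 K // (∃ D : SL2 K, ((D * x * D⁻¹ : SL2 K) : M2 K) 1 0 = 0 ∧
        ((D * y * D⁻¹ : SL2 K) : M2 K) 1 0 = 0) ∨ y * x * y⁻¹ = x ∨ y * x * y⁻¹ = x⁻¹} =
      2 * (Fintype.card K + 1) := by
  have hodd : Odd (Fintype.card K) := (field_parity (K := K)).1 h2
  have hiff : ∀ y : SL2 K, ((∃ D : SL2 K, ((D * x * D⁻¹ : SL2 K) : M2 K) 1 0 = 0 ∧
        ((D * y * D⁻¹ : SL2 K) : M2 K) 1 0 = 0) ∨ y * x * y⁻¹ = x ∨ y * x * y⁻¹ = x⁻¹) ↔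
      (y * x * y⁻¹ = x ∨ y * x * y⁻¹ = x⁻¹) := by
    intro y
    constructor
    · rintro (⟨D, h1, -⟩ | h)
      · exfalso
        apply hno (((D * x * D⁻¹ : SL2 K) : M2 K) 0 0)
        have h5 := sb_det (D * x * D⁻¹)
        rw [h1] at h5
        have h6 := tr_conj D x
        rw [Matrix.trace_fin_two] at h6
        rw [← h6]
        linear_combination -h5
      · exact h
    · intro h
      right; exact h
  have hxx : x ≠ x⁻¹ := by
    intro h
    apply sq_sq_ne_one x hx
    have h9 : x * x = x * x⁻¹ := congrArg (fun z => x * z) h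
    rw [h9, mul_inv_cancel]
  have h3 : Nat.card {y : SL2 K // y * x * y⁻¹ = x ∨ y * x * y⁻¹ = x⁻¹} =
      Nat.card {y : SL2 K // y * x * y⁻¹ = x} + Nat.card {y : SL2 K // y * x * y⁻¹ = x⁻¹} :=
    sb_card2 (fun y : SL2 K => y * x * y⁻¹ = x) (fun y : SL2 K => y * x * y⁻¹ = x⁻¹)
      (fun y hA hB => hxx (hA.symm.trans hB))
  obtain ⟨w, hw⟩ := isConj_iff.mp (sl2_odd_isConj_of_trace hodd x x⁻¹ (sb_inv_tr x).symm hx)
  rw [Nat.card_congr (Equiv.subtypeEquivRight hiff), h3, sq_card_inv_conj x w hw,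
    sq_card_conj_eq, hcz]
  ring

/-- elements with prescribed `(1,0)` entry and trace -/
theorem sq_count_ct [Fintype K] (A B : K → Prop) (hA : ∀ c, A c → c ≠ 0) :
    Nat.card {y : SL2 K // A ((y : M2 K) 1 0) ∧ B ((y : M2 K).trace)} =
      Nat.card {c : K // A c} * (Nat.card {τ : K // B τ} * Fintype.card K) := by
  classical
  let f : {c : K // A c} × {τ : K // B τ} × K →
      {y : SL2 K // A ((y : M2 K) 1 0) ∧ B ((y : M2 K).trace)} :=
    fun p => ⟨sl2mk p.2.2 ((p.2.2 * ((p.2.1 : K) - p.2.2) - 1) / (p.1 : K)) (p.1 : K)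
        ((p.2.1 : K) - p.2.2) (by
        have hc : (p.1 : K) ≠ 0 := hA _ p.1.2
        rw [div_mul_cancel₀ _ hc]; ring), by
      constructor
      · rw [sl2mk_val]; exact p.1.2
      · rw [sl2mk_val, Matrix.trace_fin_two_of]
        have e : p.2.2 + ((p.2.1 : K) - p.2.2) = (p.2.1 : K) := by ring
        rw [e]; exact p.2.1.2⟩
  have hinj : Function.Injective f := by
    rintro ⟨c, τ, a⟩ ⟨c', τ', a'⟩ h
    have hm : ((f (c, τ, a)).1 : M2 K) = ((f (c', τ', a')).1 : M2 K) := by rw [h]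
    simp only [f, sl2mk_val] at hm
    obtain ⟨h00, h01, h10, h11⟩ := mat2_inj hm
    have hτ : (τ : K) = τ' := by linear_combination h11 + h00
    exact Prod.ext (Subtype.ext h10) (Prod.ext (Subtype.ext hτ) h00)
  have hsurj : Function.Surjective f := by
    rintro ⟨y, hy1, hy2⟩
    refine ⟨(⟨_, hy1⟩, ⟨_, hy2⟩, (y : M2 K) 0 0), ?_⟩
    apply Subtype.ext
    apply Subtype.ext
    show (!![(y : M2 K) 0 0,
        ((y : M2 K) 0 0 * ((y : M2 K).trace - (y : M2 K) 0 0) - 1) / (y : M2 K) 1 0;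
        (y : M2 K) 1 0, (y : M2 K).trace - (y : M2 K) 0 0] : M2 K) = (y : M2 K)
    conv_rhs => rw [Matrix.eta_fin_two (y : M2 K)]
    have hc := hA _ hy1
    refine mat2_ext rfl ?_ rfl ?_
    · rw [Matrix.trace_fin_two, div_eq_iff hc]
      linear_combination sb_det y
    · rw [Matrix.trace_fin_two]; ring
  rw [← Nat.card_congr (Equiv.ofBijective f ⟨hinj, hsurj⟩), Nat.card_prod, Nat.card_prod,
    Nat.card_eq_fintype_card (α := K)]

theorem sq_card_f3 (h2 : (2 : K) ≠ 0) : Nat.card {τ : K // τ ^ 3 = τ} = 3 := by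
  have hset : {τ : K | τ ^ 3 = τ} = {0, 1, -1} := by
    ext τ
    simp only [Set.mem_setOf_eq, Set.mem_insert_iff, Set.mem_singleton_iff]
    constructor
    · intro h
      have h5 : τ * ((τ - 1) * (τ + 1)) = 0 := by linear_combination h
      rcases mul_eq_zero.mp h5 with h6 | h6
      · left; exact h6
      · rcases mul_eq_zero.mp h6 with h7 | h7
        · right; left; linear_combination h7
        · right; right; linear_combination h7
    · rintro (rfl | rfl | rfl) <;> ring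
  have h1 : (1 : K) ≠ -1 := by
    intro h; apply h2; linear_combination h
  show Nat.card ({τ : K | τ ^ 3 = τ} : Set K) = 3
  rw [hset, Nat.card_coe_set_eq, Set.ncard_eq_three]
  exact ⟨0, 1, -1, zero_ne_one, (neg_ne_zero.mpr one_ne_zero).symm, h1, rfl⟩

theorem sq_card_pm (h2 : (2 : K) ≠ 0) (s : K) (hs : s ≠ 0) :
    Nat.card {c : K // (s * c) ^ 2 = 1} = 2 := by
  have hset : {c : K | (s * c) ^ 2 = 1} = {s⁻¹, -s⁻¹} := by
    ext c
    simp only [Set.mem_setOf_eq, Set.mem_insert_iff, Set.mem_singleton_iff]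
    constructor
    · intro h
      have h5 : (s * c - 1) * (s * c + 1) = 0 := by linear_combination h
      rcases mul_eq_zero.mp h5 with h6 | h6
      · left
        exact eq_inv_of_mul_eq_one_left (by linear_combination h6)
      · right
        have h7 : -c = s⁻¹ := eq_inv_of_mul_eq_one_left (by linear_combination (-1 : K) * h6)
        rw [← h7, neg_neg]
    · rintro (rfl | rfl)
      · rw [mul_inv_cancel₀ hs]; ring
      · rw [mul_neg, mul_inv_cancel₀ hs]; ring
  have hne : s⁻¹ ≠ -s⁻¹ := by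
    intro h
    have h5 : 2 * s⁻¹ = 0 := by linear_combination h
    exact inv_ne_zero hs ((mul_eq_zero.mp h5).resolve_left h2)
  show Nat.card ({c : K | (s * c) ^ 2 = 1} : Set K) = 2
  rw [hset, Nat.card_coe_set_eq, Set.ncard_pair hne]

/-- the solubilizer of a unipotent element has `q(q+5)` elements -/
theorem sq_count_unip [Fintype K] (h2 : (2 : K) ≠ 0) (h3 : (3 : K) = 0) (s : K) (hs : s ≠ 0) :
    Nat.card {y : SL2 K // (y : M2 K) 1 0 = 0 ∨ ((y : M2 K).trace ^ 3 = (y : M2 K).trace ∧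
        ((sl2U s * y : SL2 K) : M2 K).trace ^ 3 = ((sl2U s * y : SL2 K) : M2 K).trace)} =
      Fintype.card K * (Fintype.card K + 5) := by
  have hiff : ∀ y : SL2 K, ((y : M2 K) 1 0 = 0 ∨ ((y : M2 K).trace ^ 3 = (y : M2 K).trace ∧
        ((sl2U s * y : SL2 K) : M2 K).trace ^ 3 = ((sl2U s * y : SL2 K) : M2 K).trace)) ↔
      ((y : M2 K) 1 0 = 0 ∨ ((s * (y : M2 K) 1 0) ^ 2 = 1 ∧
        (y : M2 K).trace ^ 3 = (y : M2 K).trace)) := by
    intro y
    have e : ((sl2U s * y : SL2 K) : M2 K).trace = (y : M2 K).trace + s * (y : M2 K) 1 0 := by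
      rw [sb_tr_u, Matrix.trace_fin_two]; ring
    rw [e]
    by_cases hc : (y : M2 K) 1 0 = 0
    · simp [hc]
    · simp only [hc, false_or]
      constructor
      · rintro ⟨h, h'⟩
        refine ⟨?_, h⟩
        have h5 := sqP_sub h3 h' h
        rw [add_sub_cancel_left] at h5
        have h6 : s * (y : M2 K) 1 0 * ((s * (y : M2 K) 1 0) ^ 2 - 1) = 0 := by
          linear_combination h5
        have h7 := (mul_eq_zero.mp h6).resolve_left (mul_ne_zero hs hc)
        linear_combination h7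
      · rintro ⟨h, h'⟩
        refine ⟨h', ?_⟩
        exact sqP_add h3 h' (by linear_combination (s * (y : M2 K) 1 0) * h)
  have hs2 : Nat.card {y : SL2 K // (y : M2 K) 1 0 = 0 ∨ ((s * (y : M2 K) 1 0) ^ 2 = 1 ∧
        (y : M2 K).trace ^ 3 = (y : M2 K).trace)} =
      Nat.card {y : SL2 K // (y : M2 K) 1 0 = 0} +
      Nat.card {y : SL2 K // (s * (y : M2 K) 1 0) ^ 2 = 1 ∧
        (y : M2 K).trace ^ 3 = (y : M2 K).trace} :=
    sb_card2 (fun y : SL2 K => (y : M2 K) 1 0 = 0)
      (fun y : SL2 K => (s * (y : M2 K) 1 0) ^ 2 = 1 ∧ (y : M2 K).trace ^ 3 = (y : M2 K).trace)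
      (fun y hA hB => by
        have h5 := hB.1
        rw [hA] at h5
        simp at h5)
  have hct : Nat.card {y : SL2 K // (s * (y : M2 K) 1 0) ^ 2 = 1 ∧
        (y : M2 K).trace ^ 3 = (y : M2 K).trace} =
      Nat.card {c : K // (s * c) ^ 2 = 1} * (Nat.card {τ : K // τ ^ 3 = τ} * Fintype.card K) :=
    sq_count_ct (fun c : K => (s * c) ^ 2 = 1) (fun τ : K => τ ^ 3 = τ) (by
      intro c hc h0
      rw [h0] at hc
      simp at hc)
  rw [Nat.card_congr (Equiv.subtypeEquivRight hiff), hs2, sb_card_upper, hct, sq_card_pm h2 s hs,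
    sq_card_f3 h2]
  have hq1 : 1 ≤ Fintype.card K := Fintype.card_pos
  obtain ⟨m, hm⟩ : ∃ m, Fintype.card K = m + 1 := ⟨Fintype.card K - 1, by omega⟩
  rw [hm, Nat.add_sub_cancel]
  ring

end solq4

end Cfsg.Agent.Helper18.Dickson
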