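import Mathlib
import Cfsg.Agent.Helper18.Solq4

/-!
# The solubilizer of an involution of `PSL₂(3^r)`: the count (helper18)
-/

set_option autoImplicit false

namespace Cfsg.Agent.Helper18.Dickson

open Matrix Cfsg.Agent.Helper12 Cfsg.Agent.Helper18.OutPSL2

local notation "SL2" => Matrix.SpecialLinearGroup (Fin 2)
local notation "M2" => Matrix (Fin 2) (Fin 2)

section solq5

variable {K : Type*} [Field K]

/-- the standard element of trace zero -/
def sqJ : SL2 K := sl2mk 0 1 (-1) 0 (by ring)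

theorem sqJ_tr : ((sqJ : SL2 K) : M2 K).trace = 0 := by
  rw [sqJ, sl2mk_val, Matrix.trace_fin_two_of]; ring

theorem sqJ_mul_tr (y : SL2 K) :
    ((sqJ * y : SL2 K) : M2 K).trace = (y : M2 K) 1 0 - (y : M2 K) 0 1 := by
  rw [Matrix.trace_fin_two, sb_mul_entry, sb_mul_entry, sqJ, sl2mk_val]
  simp
  ring

theorem sqJ_comm_iff (y : SL2 K) :
    y * sqJ = sqJ * y ↔
      (y : M2 K) 1 0 = -(y : M2 K) 0 1 ∧ (y : M2 K) 1 1 = (y : M2 K) 0 0 := by
  constructor
  · intro h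
    have h00 := congrArg (fun z : SL2 K => (z : M2 K) 0 0) h
    have h01 := congrArg (fun z : SL2 K => (z : M2 K) 0 1) h
    simp only [sb_mul_entry, sqJ, sl2mk_val] at h00 h01
    simp at h00 h01
    exact ⟨by linear_combination -h00, by linear_combination -h01⟩
  · rintro ⟨h1, h2⟩
    apply Subtype.ext
    ext i j
    fin_cases i <;> fin_cases j <;> simp [sb_mul_entry, sqJ, sl2mk_val, h1, h2]

/-- the solubilizer of an element of trace zero has `2q(q+1)` elements -/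
theorem sq_count_inv [Fintype K] (h2 : (2 : K) ≠ 0) (h3 : (3 : K) = 0)
    (hnsq : ¬ IsSquare (-1 : K)) :
    Nat.card {y : SL2 K // y * sqJ * y⁻¹ = sqJ ∨ y * sqJ * y⁻¹ = sqJ⁻¹ ∨
        (y : M2 K).trace = 0 ∨ ((sqJ * y : SL2 K) : M2 K).trace = 0 ∨
        ((y : M2 K).trace ^ 3 = (y : M2 K).trace ∧
          ((sqJ * y : SL2 K) : M2 K).trace ^ 3 = ((sqJ * y : SL2 K) : M2 K).trace)} =
      2 * Fintype.card K * (Fintype.card K + 1) := by
  classical
  have hodd : Odd (Fintype.card K) := (field_parity (K := K)).1 h2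
  have hJtr := sqJ_tr (K := K)
  have hJss : ((sqJ : SL2 K) : M2 K).trace ^ 2 ≠ 4 := by
    rw [hJtr]; intro h
    exact one_ne_zero (by linear_combination (-1 : K) * h - h3 : (1 : K) = 0)
  have hJne : (sqJ : SL2 K) ≠ sqJ⁻¹ := by
    intro h
    apply sq_sq_ne_one sqJ hJss
    have h9 : sqJ * sqJ = sqJ * sqJ⁻¹ := congrArg (fun z => (sqJ : SL2 K) * z) h
    rw [h9, mul_inv_cancel]
  have hno0 : ∀ a : K, a ^ 2 - 0 * a + 1 ≠ 0 := by
    intro a ha
    apply hnsq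
    exact ⟨a, by linear_combination (-1 : K) * ha⟩
  have hcz : Nat.card (Subgroup.centralizer ({sqJ} : Set (SL2 K))) = Fintype.card K + 1 := by
    rcases sq_card_cz h2 sqJ hJss with ⟨-, hc⟩ | ⟨hR, -⟩
    · exact hc
    · exfalso
      rw [hJtr, card_roots_none (0 : K) hno0] at hR
      omega
  obtain ⟨w, hw⟩ := isConj_iff.mp
    (sl2_odd_isConj_of_trace hodd sqJ sqJ⁻¹ (sb_inv_tr sqJ).symm hJss)
  have hinv_iff : ∀ y : SL2 K, y * sqJ * y⁻¹ = sqJ⁻¹ ↔
      ((y : M2 K).trace = 0 ∧ ((sqJ * y : SL2 K) : M2 K).trace = 0) := by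
    intro y
    constructor
    · intro h
      refine ⟨sq_inverts_tr0 sqJ y hJss h, sq_inverts_tr0 sqJ (sqJ * y) hJss ?_⟩
      calc sqJ * y * sqJ * (sqJ * y)⁻¹ = sqJ * (y * sqJ * y⁻¹) * sqJ⁻¹ := by group
        _ = sqJ⁻¹ := by rw [h]; group
    · rintro ⟨h, h'⟩
      have hyy := sq_tr0_sq y h
      have hWW := sq_tr0_sq (sqJ * y) h'
      have h1 : sqJ * y * sqJ = y := by
        apply mul_right_cancel (b := y)
        calc sqJ * y * sqJ * y = (sqJ * y) * (sqJ * y) := by group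
          _ = y * y := by rw [hWW, hyy]
      calc y * sqJ * y⁻¹ = sqJ⁻¹ * (sqJ * y * sqJ) * y⁻¹ := by group
        _ = sqJ⁻¹ * y * y⁻¹ := by rw [h1]
        _ = sqJ⁻¹ := by group
  have hsq1 : ∀ τ : K, τ ≠ 0 → (τ ^ 3 = τ ↔ τ ^ 2 = 1) := by
    intro τ hτ
    constructor
    · intro h
      have h5 : τ * (τ ^ 2 - 1) = 0 := by linear_combination h
      have h6 := (mul_eq_zero.mp h5).resolve_left hτ
      linear_combination h6
    · intro h; linear_combination τ * h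
  have hiff : ∀ y : SL2 K, (y * sqJ * y⁻¹ = sqJ ∨ y * sqJ * y⁻¹ = sqJ⁻¹ ∨
        (y : M2 K).trace = 0 ∨ ((sqJ * y : SL2 K) : M2 K).trace = 0 ∨
        ((y : M2 K).trace ^ 3 = (y : M2 K).trace ∧
          ((sqJ * y : SL2 K) : M2 K).trace ^ 3 = ((sqJ * y : SL2 K) : M2 K).trace)) ↔
      ((y : M2 K).trace = 0 ∨
        (((y : M2 K).trace ≠ 0 ∧ ((sqJ * y : SL2 K) : M2 K).trace = 0) ∨
        ((y : M2 K).trace ≠ 0 ∧ ((sqJ * y : SL2 K) : M2 K).trace ≠ 0 ∧ y * sqJ = sqJ * y) ∨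
        ((y : M2 K).trace ^ 2 = 1 ∧ ((sqJ * y : SL2 K) : M2 K).trace ^ 2 = 1))) := by
    intro y
    by_cases ht : (y : M2 K).trace = 0
    · exact ⟨fun _ => Or.inl ht, fun _ => Or.inr (Or.inr (Or.inl ht))⟩
    · by_cases ht' : ((sqJ * y : SL2 K) : M2 K).trace = 0
      · exact ⟨fun _ => Or.inr (Or.inl ⟨ht, ht'⟩), fun _ => Or.inr (Or.inr (Or.inr (Or.inl ht')))⟩
      · have hni : ¬ (y * sqJ * y⁻¹ = sqJ⁻¹) := fun h => ht ((hinv_iff y).mp h).1
        constructor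
        · rintro (h | h | h | h | ⟨h, h'⟩)
          · right; right; left; exact ⟨ht, ht', mul_inv_eq_iff_eq_mul.mp h⟩
          · exact (hni h).elim
          · exact (ht h).elim
          · exact (ht' h).elim
          · right; right; right; exact ⟨(hsq1 _ ht).mp h, (hsq1 _ ht').mp h'⟩
        · rintro (h | ⟨-, h⟩ | ⟨-, -, h⟩ | ⟨h, h'⟩)
          · exact (ht h).elim
          · exact (ht' h).elim
          · left; exact mul_inv_eq_iff_eq_mul.mpr h
          · right; right; right; right; exact ⟨(hsq1 _ ht).mpr h, (hsq1 _ ht').mpr h'⟩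
  -- the four pieces are disjoint
  have hE34 : ∀ y : SL2 K, ((y : M2 K).trace ≠ 0 ∧ ((sqJ * y : SL2 K) : M2 K).trace ≠ 0 ∧
      y * sqJ = sqJ * y) → ¬ ((y : M2 K).trace ^ 2 = 1 ∧
        ((sqJ * y : SL2 K) : M2 K).trace ^ 2 = 1) := by
    rintro y ⟨-, -, hc⟩ ⟨hτ, hτ'⟩
    obtain ⟨hc1, hc2⟩ := (sqJ_comm_iff y).mp hc
    rw [Matrix.trace_fin_two] at hτ
    rw [sqJ_mul_tr] at hτ'
    have hdet := sb_det y
    apply h2
    linear_combination hτ + hτ' - 4 * hdet + ((y : M2 K) 0 0 - (y : M2 K) 1 1) * hc2 -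
      ((y : M2 K) 1 0 + (y : M2 K) 0 1) * hc1
  have htot : Nat.card {y : SL2 K // (y : M2 K).trace = 0 ∨
        (((y : M2 K).trace ≠ 0 ∧ ((sqJ * y : SL2 K) : M2 K).trace = 0) ∨
        ((y : M2 K).trace ≠ 0 ∧ ((sqJ * y : SL2 K) : M2 K).trace ≠ 0 ∧ y * sqJ = sqJ * y) ∨
        ((y : M2 K).trace ^ 2 = 1 ∧ ((sqJ * y : SL2 K) : M2 K).trace ^ 2 = 1))} =
      Nat.card {y : SL2 K // (y : M2 K).trace = 0} +
      (Nat.card {y : SL2 K // (y : M2 K).trace ≠ 0 ∧ ((sqJ * y : SL2 K) : M2 K).trace = 0} +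
       Nat.card {y : SL2 K // (y : M2 K).trace ≠ 0 ∧ ((sqJ * y : SL2 K) : M2 K).trace ≠ 0 ∧
        y * sqJ = sqJ * y} +
       Nat.card {y : SL2 K // (y : M2 K).trace ^ 2 = 1 ∧
        ((sqJ * y : SL2 K) : M2 K).trace ^ 2 = 1}) := by
    have hA := sb_card2 (fun y : SL2 K => (y : M2 K).trace = 0)
      (fun y : SL2 K => (((y : M2 K).trace ≠ 0 ∧ ((sqJ * y : SL2 K) : M2 K).trace = 0) ∨
        ((y : M2 K).trace ≠ 0 ∧ ((sqJ * y : SL2 K) : M2 K).trace ≠ 0 ∧ y * sqJ = sqJ * y) ∨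
        ((y : M2 K).trace ^ 2 = 1 ∧ ((sqJ * y : SL2 K) : M2 K).trace ^ 2 = 1)))
      (by
        rintro y h1 (h | h | h)
        · exact h.1 h1
        · exact h.1 h1
        · have h5 := h.1
          rw [h1] at h5
          simp at h5)
    have hB := sb_card3
      (fun y : SL2 K => (y : M2 K).trace ≠ 0 ∧ ((sqJ * y : SL2 K) : M2 K).trace = 0)
      (fun y : SL2 K => (y : M2 K).trace ≠ 0 ∧ ((sqJ * y : SL2 K) : M2 K).trace ≠ 0 ∧
        y * sqJ = sqJ * y)
      (fun y : SL2 K => (y : M2 K).trace ^ 2 = 1 ∧ ((sqJ * y : SL2 K) : M2 K).trace ^ 2 = 1)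
      (fun y hA hB => hB.2.1 hA.2)
      (fun y hA hC => by
        have h5 := hC.2
        rw [hA.2] at h5
        simp at h5)
      hE34
    exact hA.trans (congrArg _ hB)
  -- the counts
  have c1 : Nat.card {y : SL2 K // (y : M2 K).trace = 0} =
      Fintype.card K * (Fintype.card K - 1) := by
    rw [sl2_card_trace_fiber, card_roots_none (0 : K) hno0]
    simp
  have c2' : Nat.card {y : SL2 K // ((sqJ * y : SL2 K) : M2 K).trace = 0} =
      Fintype.card K * (Fintype.card K - 1) := by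
    rw [← c1]
    exact Nat.card_congr (Equiv.subtypeEquiv (Equiv.mulLeft sqJ) (fun y => Iff.rfl))
  have c12 : Nat.card {y : SL2 K // (y : M2 K).trace = 0 ∧
      ((sqJ * y : SL2 K) : M2 K).trace = 0} = Fintype.card K + 1 := by
    rw [← hcz, ← sq_card_conj_eq, ← sq_card_inv_conj sqJ w hw]
    exact Nat.card_congr (Equiv.subtypeEquivRight (fun y => (hinv_iff y).symm))
  have hs2 : Nat.card {y : SL2 K // ((sqJ * y : SL2 K) : M2 K).trace = 0} =
      Nat.card {y : SL2 K // (y : M2 K).trace ≠ 0 ∧ ((sqJ * y : SL2 K) : M2 K).trace = 0} +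
      Nat.card {y : SL2 K // (y : M2 K).trace = 0 ∧
        ((sqJ * y : SL2 K) : M2 K).trace = 0} := by
    have hA := sb_card2
      (fun y : SL2 K => (y : M2 K).trace ≠ 0 ∧ ((sqJ * y : SL2 K) : M2 K).trace = 0)
      (fun y : SL2 K => (y : M2 K).trace = 0 ∧ ((sqJ * y : SL2 K) : M2 K).trace = 0)
      (fun y hA hB => hA.1 hB.1)
    refine Eq.trans (Nat.card_congr (Equiv.subtypeEquivRight ?_)) hA
    intro y
    constructor
    · intro h
      by_cases ht : (y : M2 K).trace = 0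
      · right; exact ⟨ht, h⟩
      · left; exact ⟨ht, h⟩
    · rintro (h | h)
      · exact h.2
      · exact h.2
  have cA : Nat.card {y : SL2 K // y * sqJ = sqJ * y ∧ (y : M2 K).trace = 0} = 2 := by
    have hset : {y : SL2 K | y * sqJ = sqJ * y ∧ (y : M2 K).trace = 0} = {sqJ, sqJ⁻¹} := by
      ext y
      simp only [Set.mem_setOf_eq, Set.mem_insert_iff, Set.mem_singleton_iff]
      constructor
      · rintro ⟨hc, ht⟩
        exact semis_conj h2 sqJ y hJss hc.symm (by rw [ht, hJtr])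
      · rintro (rfl | rfl)
        · exact ⟨rfl, hJtr⟩
        · exact ⟨by group, by rw [sb_inv_tr, hJtr]⟩
    show Nat.card ({y : SL2 K | y * sqJ = sqJ * y ∧ (y : M2 K).trace = 0} : Set (SL2 K)) = 2
    rw [hset, Nat.card_coe_set_eq, Set.ncard_pair hJne]
  have cB : Nat.card {y : SL2 K // y * sqJ = sqJ * y ∧
      ((sqJ * y : SL2 K) : M2 K).trace = 0} = 2 := by
    refine Eq.trans (Nat.card_congr (Equiv.subtypeEquiv (Equiv.mulLeft sqJ) ?_)) cA
    intro y
    show (y * sqJ = sqJ * y ∧ ((sqJ * y : SL2 K) : M2 K).trace = 0) ↔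
      (sqJ * y * sqJ = sqJ * (sqJ * y) ∧ ((sqJ * y : SL2 K) : M2 K).trace = 0)
    constructor
    · rintro ⟨h, ht⟩
      refine ⟨?_, ht⟩
      calc sqJ * y * sqJ = sqJ * (y * sqJ) := by group
        _ = sqJ * (sqJ * y) := by rw [h]
    · rintro ⟨h, ht⟩
      refine ⟨?_, ht⟩
      apply mul_left_cancel (a := (sqJ : SL2 K))
      calc sqJ * (y * sqJ) = sqJ * y * sqJ := by group
        _ = sqJ * (sqJ * y) := h
  have cC : Nat.card {y : SL2 K // y * sqJ = sqJ * y} = Fintype.card K + 1 := by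
    rw [← hcz, ← sq_card_conj_eq]
    exact Nat.card_congr (Equiv.subtypeEquivRight (fun y => mul_inv_eq_iff_eq_mul.symm))
  have hs3 : Nat.card {y : SL2 K // y * sqJ = sqJ * y} =
      Nat.card {y : SL2 K // (y : M2 K).trace ≠ 0 ∧ ((sqJ * y : SL2 K) : M2 K).trace ≠ 0 ∧
        y * sqJ = sqJ * y} +
      Nat.card {y : SL2 K // y * sqJ = sqJ * y ∧ (y : M2 K).trace = 0} +
      Nat.card {y : SL2 K // y * sqJ = sqJ * y ∧ ((sqJ * y : SL2 K) : M2 K).trace = 0} := by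
    have hA := sb_card3
      (fun y : SL2 K => (y : M2 K).trace ≠ 0 ∧ ((sqJ * y : SL2 K) : M2 K).trace ≠ 0 ∧
        y * sqJ = sqJ * y)
      (fun y : SL2 K => y * sqJ = sqJ * y ∧ (y : M2 K).trace = 0)
      (fun y : SL2 K => y * sqJ = sqJ * y ∧ ((sqJ * y : SL2 K) : M2 K).trace = 0)
      (fun y hA hB => hA.1 hB.2)
      (fun y hA hC => hA.2.1 hC.2)
      (fun y hB hC => by
        apply hJne
        have h5 : y * sqJ * y⁻¹ = sqJ⁻¹ := (hinv_iff y).mpr ⟨hB.2, hC.2⟩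
        rw [← h5]
        exact (mul_inv_eq_iff_eq_mul.mpr hB.1).symm)
    refine Eq.trans (Nat.card_congr (Equiv.subtypeEquivRight ?_)) hA
    intro y
    constructor
    · intro h
      by_cases ht : (y : M2 K).trace = 0
      · right; left; exact ⟨h, ht⟩
      · by_cases ht' : ((sqJ * y : SL2 K) : M2 K).trace = 0
        · right; right; exact ⟨h, ht'⟩
        · left; exact ⟨ht, ht', h⟩
    · rintro (h | h | h)
      · exact h.2.2
      · exact h.1
      · exact h.1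
  -- the last piece
  have c4 : Nat.card {y : SL2 K // (y : M2 K).trace ^ 2 = 1 ∧
      ((sqJ * y : SL2 K) : M2 K).trace ^ 2 = 1} = 2 * (2 * (Fintype.card K + 1)) := by
    have hcongr : Nat.card {y : SL2 K // (y : M2 K).trace ^ 2 = 1 ∧
        ((sqJ * y : SL2 K) : M2 K).trace ^ 2 = 1} =
        Nat.card {y : SL2 K // ((y : M2 K) 0 0 + (y : M2 K) 1 1) ^ 2 = 1 ∧
          ((y : M2 K) 1 0 - (y : M2 K) 0 1) ^ 2 = 1} := by
      apply Nat.card_congr
      apply Equiv.subtypeEquivRight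
      intro y
      rw [Matrix.trace_fin_two, sqJ_mul_tr]
    have hprod : Nat.card ({c : K // (1 * c) ^ 2 = 1} × {c : K // (1 * c) ^ 2 = 1} ×
        {w : SL2 K // w * sqJ = sqJ * w}) = 2 * (2 * (Fintype.card K + 1)) := by
      rw [Nat.card_prod, Nat.card_prod, sq_card_pm h2 1 one_ne_zero, cC]
    rw [hcongr, ← hprod]
    symm
    let f : {c : K // (1 * c) ^ 2 = 1} × {c : K // (1 * c) ^ 2 = 1} ×
        {w : SL2 K // w * sqJ = sqJ * w} →
        {y : SL2 K // ((y : M2 K) 0 0 + (y : M2 K) 1 1) ^ 2 = 1 ∧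
          ((y : M2 K) 1 0 - (y : M2 K) 0 1) ^ 2 = 1} :=
      fun p => ⟨sl2mk ((p.2.2.1 : M2 K) 0 0 - p.1.1) ((p.2.2.1 : M2 K) 0 1 + p.2.1.1)
          ((p.2.2.1 : M2 K) 0 1 - p.2.1.1) (-(p.2.2.1 : M2 K) 0 0 - p.1.1) (by
          obtain ⟨hc1, hc2⟩ := (sqJ_comm_iff p.2.2.1).mp p.2.2.2
          have hdet := sb_det p.2.2.1
          have hτ := p.1.2
          have hτ' := p.2.1.2
          rw [one_mul] at hτ hτ'
          linear_combination (-1 : K) * hdet + hτ + hτ' + (p.2.2.1 : M2 K) 0 0 * hc2 -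
            (p.2.2.1 : M2 K) 0 1 * hc1), by
        have hτ := p.1.2
        have hτ' := p.2.1.2
        rw [one_mul] at hτ hτ'
        rw [sl2mk_val]
        constructor
        · show ((p.2.2.1 : M2 K) 0 0 - p.1.1 + (-(p.2.2.1 : M2 K) 0 0 - p.1.1)) ^ 2 = 1
          linear_combination 4 * hτ + h3
        · show ((p.2.2.1 : M2 K) 0 1 - p.2.1.1 - ((p.2.2.1 : M2 K) 0 1 + p.2.1.1)) ^ 2 = 1
          linear_combination 4 * hτ' + h3⟩
    have hinj : Function.Injective f := by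
      rintro ⟨τ, τ', w⟩ ⟨τ₂, τ₂', w₂⟩ h
      have hm : ((f (τ, τ', w)).1 : M2 K) = ((f (τ₂, τ₂', w₂)).1 : M2 K) := by rw [h]
      simp only [f, sl2mk_val] at hm
      obtain ⟨h00, h01, h10, h11⟩ := mat2_inj hm
      have e1 : (τ : K) = τ₂ := by
        apply mul_left_cancel₀ h2
        linear_combination (-1 : K) * h00 - h11
      have e2 : (τ' : K) = τ₂' := by
        apply mul_left_cancel₀ h2
        linear_combination h01 - h10
      have e3 : (w.1 : M2 K) 0 0 = (w₂.1 : M2 K) 0 0 := by linear_combination h00 + e1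
      have e4 : (w.1 : M2 K) 0 1 = (w₂.1 : M2 K) 0 1 := by linear_combination h01 - e2
      obtain ⟨hc1, hc2⟩ := (sqJ_comm_iff w.1).mp w.2
      obtain ⟨hd1, hd2⟩ := (sqJ_comm_iff w₂.1).mp w₂.2
      have e5 : w = w₂ := by
        apply Subtype.ext
        apply Subtype.ext
        rw [Matrix.eta_fin_two (w.1 : M2 K), Matrix.eta_fin_two (w₂.1 : M2 K)]
        exact mat2_ext e3 e4 (by rw [hc1, hd1, e4]) (by rw [hc2, hd2, e3])
      exact Prod.ext (Subtype.ext e1) (Prod.ext (Subtype.ext e2) e5)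
    have hsurj : Function.Surjective f := by
      rintro ⟨y, hτ, hτ'⟩
      have hdet := sb_det y
      have hwdet : ((y : M2 K) 0 0 + ((y : M2 K) 0 0 + (y : M2 K) 1 1)) *
          ((y : M2 K) 0 0 + ((y : M2 K) 0 0 + (y : M2 K) 1 1)) -
          ((y : M2 K) 0 1 - ((y : M2 K) 1 0 - (y : M2 K) 0 1)) *
          (-((y : M2 K) 0 1 - ((y : M2 K) 1 0 - (y : M2 K) 0 1))) = 1 := by
        linear_combination hτ + hτ' + 2 * hdet +
          ((y : M2 K) 0 0 ^ 2 + (y : M2 K) 0 1 ^ 2 + 1) * h3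
      refine ⟨(⟨(y : M2 K) 0 0 + (y : M2 K) 1 1, by rw [one_mul]; exact hτ⟩,
        ⟨(y : M2 K) 1 0 - (y : M2 K) 0 1, by rw [one_mul]; exact hτ'⟩,
        ⟨sl2mk _ _ _ _ hwdet, by
          rw [sqJ_comm_iff, sl2mk_val]
          exact ⟨rfl, rfl⟩⟩), ?_⟩
      apply Subtype.ext
      apply Subtype.ext
      simp only [f, sl2mk_val]
      conv_rhs => rw [Matrix.eta_fin_two (y : M2 K)]
      refine mat2_ext ?_ ?_ ?_ ?_
      · show (y : M2 K) 0 0 + ((y : M2 K) 0 0 + (y : M2 K) 1 1) -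
          ((y : M2 K) 0 0 + (y : M2 K) 1 1) = (y : M2 K) 0 0
        ring
      · show (y : M2 K) 0 1 - ((y : M2 K) 1 0 - (y : M2 K) 0 1) +
          ((y : M2 K) 1 0 - (y : M2 K) 0 1) = (y : M2 K) 0 1
        ring
      · show (y : M2 K) 0 1 - ((y : M2 K) 1 0 - (y : M2 K) 0 1) -
          ((y : M2 K) 1 0 - (y : M2 K) 0 1) = (y : M2 K) 1 0
        linear_combination ((y : M2 K) 0 1 - (y : M2 K) 1 0) * h3
      · show -((y : M2 K) 0 0 + ((y : M2 K) 0 0 + (y : M2 K) 1 1)) -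
          ((y : M2 K) 0 0 + (y : M2 K) 1 1) = (y : M2 K) 1 1
        linear_combination (-((y : M2 K) 0 0 + (y : M2 K) 1 1)) * h3
    exact Nat.card_congr (Equiv.ofBijective f ⟨hinj, hsurj⟩)
  rw [Nat.card_congr (Equiv.subtypeEquivRight hiff), htot, c4]
  rw [c2', c12] at hs2
  rw [cC, cA, cB] at hs3
  rw [c1]
  have hq1 : 1 ≤ Fintype.card K := Fintype.card_pos
  obtain ⟨m, hm⟩ : ∃ m, Fintype.card K = m + 1 := ⟨Fintype.card K - 1, by omega⟩
  rw [hm] at hs2 hs3 ⊢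
  have e1 : (m + 1) * (m + 1 - 1) = m * m + m := by rw [Nat.add_sub_cancel]; ring
  have e2 : 2 * (m + 1) * (m + 1 + 1) = 2 * (m * m) + 6 * m + 4 := by ring
  rw [e1] at hs2 ⊢
  rw [e2]
  omega

end solq5

end Cfsg.Agent.Helper18.Dickson
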