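import Mathlib
import Cfsg.Agent.Helper18.Solq5

/-!
# Solubilizer sizes in `PSL₂(3^p)`, `p` an odd prime (helper18)
-/

set_option autoImplicit false

namespace Cfsg.Agent.Helper18.Dickson

open Matrix Cfsg.Agent.Helper12 Cfsg.Agent.Helper18.OutPSL2

local notation "SL2" => Matrix.SpecialLinearGroup (Fin 2)
local notation "M2" => Matrix (Fin 2) (Fin 2)

section solq6

variable {K : Type*} [Field K]

theorem sq_solv_iff [Fintype K] (r : ℕ) (hr : r.Prime) (hr2 : r ≠ 2)
    (hK : Fintype.card K = 3 ^ r) (x y : SL2 K) :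
    Group.IsSolvable (Subgroup.closure
      ({pr x, pr y} : Set (Matrix.ProjectiveSpecialLinearGroup (Fin 2) K))) ↔
      Subgroup.closure ({x, y} : Set (SL2 K)) ≠ ⊤ := by
  haveI : Fact (Nat.Prime 3) := ⟨Nat.prime_three⟩
  haveI hch : CharP K 3 := ms_char 3 Nat.prime_three r hK
  have h2 : (2 : K) ≠ 0 := two_ne_zero_of_char 3 (by norm_num)
  have h4 : 4 ≤ Fintype.card K := by
    rw [hK]
    calc 4 ≤ 3 ^ 2 := by norm_num
      _ ≤ 3 ^ r := Nat.pow_le_pow_right (by norm_num) hr.two_le
  have hmap : Subgroup.closure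
      ({pr x, pr y} : Set (Matrix.ProjectiveSpecialLinearGroup (Fin 2) K)) =
      (Subgroup.closure ({x, y} : Set (SL2 K))).map pr := by
    rw [MonoidHom.map_closure, Set.image_pair]
  rw [hmap]
  constructor
  · intro hsol htop
    rw [htop, Subgroup.map_top_of_surjective _ pr_surj] at hsol
    have h1 : Group.IsSolvable (Matrix.ProjectiveSpecialLinearGroup (Fin 2) K) :=
      ms_solv_equiv Subgroup.topEquiv.symm hsol
    haveI := ms_simple (K := K) h4
    exact ms_noncomm (K := K) (IsSimpleGroup.comm_iff_isSolvable.mpr h1)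
  · intro hne
    haveI := ms_odd_solv h2 (Or.inl ⟨r, hr, hr2, hK⟩) _ hne
    exact Group.isSolvable_of_surjective
      (f := (pr (F := K)).subgroupMap (Subgroup.closure ({x, y} : Set (SL2 K))))
      (MonoidHom.subgroupMap_surjective _ _)

theorem sq_sq_scalar (x : SL2 K) (h : Sl2Scalar (x * x)) :
    (x : M2 K).trace = 0 ∨ Sl2Scalar x := by
  by_cases ht : (x : M2 K).trace = 0
  · left; exact ht
  · right
    obtain ⟨h01, h10, h00⟩ := h
    have hc := sl2_cayley x
    rw [Matrix.SpecialLinearGroup.coe_mul, hc] at h01 h10 h00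
    simp at h01 h10 h00
    refine ⟨?_, ?_, ?_⟩
    · exact h01.resolve_left ht
    · exact h10.resolve_left ht
    · exact h00.resolve_right ht

theorem sq_count_pr [Fintype K] (h2 : (2 : K) ≠ 0)
    (Q : Matrix.ProjectiveSpecialLinearGroup (Fin 2) K → Prop) :
    Nat.card {Y : SL2 K // Q (pr Y)} =
      2 * Nat.card {y : Matrix.ProjectiveSpecialLinearGroup (Fin 2) K // Q y} := by
  have h := QuotientGroup.card_preimage_mk (Subgroup.center (SL2 K)) {y | Q y}
  rw [sl2_center_card_odd h2] at h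
  exact h

theorem sq_main_sl [Fintype K] (p : ℕ) (hp : p.Prime) (hp2 : p ≠ 2)
    (hK : Fintype.card K = 3 ^ p) (x : SL2 K) :
    ((x : M2 K).trace = 0 →
      Nat.card {y : SL2 K // Subgroup.closure ({x, y} : Set (SL2 K)) ≠ ⊤} =
        2 * Fintype.card K * (Fintype.card K + 1)) ∧
    ((x : M2 K).trace = 2 → x ≠ 1 →
      Nat.card {y : SL2 K // Subgroup.closure ({x, y} : Set (SL2 K)) ≠ ⊤} =
        Fintype.card K * (Fintype.card K + 5)) ∧
    ((x : M2 K).trace ^ 3 ≠ (x : M2 K).trace →
      Nat.card (Subgroup.centralizer ({x} : Set (SL2 K))) = Fintype.card K - 1 →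
      Nat.card {y : SL2 K // Subgroup.closure ({x, y} : Set (SL2 K)) ≠ ⊤} =
        2 * Fintype.card K * (Fintype.card K - 1)) ∧
    ((x : M2 K).trace ^ 3 ≠ (x : M2 K).trace →
      Nat.card (Subgroup.centralizer ({x} : Set (SL2 K))) = Fintype.card K + 1 →
      Nat.card {y : SL2 K // Subgroup.closure ({x, y} : Set (SL2 K)) ≠ ⊤} =
        2 * (Fintype.card K + 1)) := by
  have hrodd : Odd p := hp.odd_of_ne_two hp2
  haveI : Fact (Nat.Prime 3) := ⟨Nat.prime_three⟩
  haveI hch : CharP K 3 := ms_char 3 Nat.prime_three p hK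
  have h2 : (2 : K) ≠ 0 := two_ne_zero_of_char 3 (by norm_num)
  have h3 : (3 : K) = 0 := by exact_mod_cast CharP.cast_eq_zero K 3
  have hodd : Odd (Fintype.card K) := (field_parity (K := K)).1 h2
  have hnsq : ¬ IsSquare (-1 : K) := by
    intro hsq
    have h8 := FiniteField.isSquare_neg_one_iff.mp hsq
    rw [hK] at h8
    exact h8 (ms_pow3_mod4 p hrodd)
  have hq1 : 1 < Fintype.card K := Fintype.one_lt_card
  refine ⟨?_, ?_, ?_, ?_⟩
  · intro hx
    have hss : (x : M2 K).trace ^ 2 ≠ 4 := by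
      rw [hx]; intro h
      exact one_ne_zero (by linear_combination (-1 : K) * h - h3 : (1 : K) = 0)
    obtain ⟨D, hD⟩ := isConj_iff.mp
      (sl2_odd_isConj_of_trace hodd x sqJ (by rw [hx, sqJ_tr]) hss)
    rw [← sb_conj_count D x, hD,
      Nat.card_congr (Equiv.subtypeEquivRight (sq_inv_iff p hp hp2 hK sqJ sqJ_tr)),
      sq_count_inv h2 h3 hnsq]
  · intro htr hx1
    obtain ⟨D, s, hs, hD⟩ := unip_conj x htr hx1
    rw [← sb_conj_count D x, hD,
      Nat.card_congr (Equiv.subtypeEquivRight (sq_unip_iff p hp hp2 hK s hs)),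
      sq_count_unip h2 h3 s hs]
  · intro hx hcard
    have hss : (x : M2 K).trace ^ 2 ≠ 4 := fun h => hx (sqP_of_sq h3 h)
    rcases sq_card_cz h2 x hss with ⟨hR, hc⟩ | ⟨hR, hc⟩
    · exfalso
      omega
    · have hne : Nonempty {a : K // a ^ 2 - (x : M2 K).trace * a + 1 = 0} := by
        by_contra hemp
        rw [not_nonempty_iff] at hemp
        rw [Nat.card_of_isEmpty] at hR
        omega
      obtain ⟨⟨l, hl⟩⟩ := hne
      have hdet : l * ((x : M2 K).trace - l) - 0 * 0 = 1 := by linear_combination -hl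
      have hne' : l ≠ (x : M2 K).trace - l := by
        intro h
        apply hss
        have h5 : (x : M2 K).trace = l + l := by linear_combination -h
        have h6 : l ^ 2 = 1 := by
          rw [h5] at hl
          linear_combination (-1 : K) * hl
        rw [h5]
        linear_combination 4 * h6
      have hk' : ((sl2mk l 0 0 ((x : M2 K).trace - l) hdet : SL2 K) : M2 K).trace ^ 3 ≠
          ((sl2mk l 0 0 ((x : M2 K).trace - l) hdet : SL2 K) : M2 K).trace := by
        rw [sl2mk_val, Matrix.trace_fin_two_of]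
        have e : l + ((x : M2 K).trace - l) = (x : M2 K).trace := by ring
        rw [e]
        exact hx
      obtain ⟨D, hD⟩ := isConj_iff.mp (sl2_odd_isConj_of_trace hodd x
        (sl2mk l 0 0 ((x : M2 K).trace - l) hdet)
        (by rw [sl2mk_val, Matrix.trace_fin_two_of]; ring) hss)
      rw [← sb_conj_count D x, hD,
        Nat.card_congr (Equiv.subtypeEquivRight (sq_ss_iff p hp hp2 hK _ hk')),
        sb_count_split _ rfl rfl hne']
  · intro hx hcard
    have hss : (x : M2 K).trace ^ 2 ≠ 4 := fun h => hx (sqP_of_sq h3 h)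
    rcases sq_card_cz h2 x hss with ⟨hR, hc⟩ | ⟨hR, hc⟩
    · have hno : ∀ a : K, a ^ 2 - (x : M2 K).trace * a + 1 ≠ 0 := by
        intro a ha
        haveI : Nonempty {a : K // a ^ 2 - (x : M2 K).trace * a + 1 = 0} := ⟨⟨a, ha⟩⟩
        have h5 : 0 < Nat.card {a : K // a ^ 2 - (x : M2 K).trace * a + 1 = 0} := Nat.card_pos
        omega
      rw [Nat.card_congr (Equiv.subtypeEquivRight (sq_ss_iff p hp hp2 hK x hx)),
        sq_count_nonsplit h2 x hss hno hc]
    · exfalso
      omega

end solq6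

/-- solubilizer sizes in `PSL₂(3^p)`, `p` an odd prime -/
theorem sq_main (p : ℕ) (hp : p.Prime) (hodd : Odd p) {F : Type*} [Field F] [Fintype F]
    (hF : Fintype.card F = 3 ^ p) (x : Matrix.ProjectiveSpecialLinearGroup (Fin 2) F) :
    (orderOf x = 2 → Nat.card {y : Matrix.ProjectiveSpecialLinearGroup (Fin 2) F //
        Group.IsSolvable ↥(Subgroup.closure
          ({x, y} : Set (Matrix.ProjectiveSpecialLinearGroup (Fin 2) F)))} =
      3 ^ p * (3 ^ p + 1)) ∧
    (orderOf x = 3 → 2 * Nat.card {y : Matrix.ProjectiveSpecialLinearGroup (Fin 2) F //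
        Group.IsSolvable ↥(Subgroup.closure
          ({x, y} : Set (Matrix.ProjectiveSpecialLinearGroup (Fin 2) F)))} =
      3 ^ p * (3 ^ p + 5)) ∧
    (x ≠ 1 → orderOf x ≠ 2 → orderOf x ∣ 3 ^ p - 1 →
      Nat.card {y : Matrix.ProjectiveSpecialLinearGroup (Fin 2) F //
        Group.IsSolvable ↥(Subgroup.closure
          ({x, y} : Set (Matrix.ProjectiveSpecialLinearGroup (Fin 2) F)))} =
      3 ^ p * (3 ^ p - 1)) ∧
    (x ≠ 1 → orderOf x ≠ 2 → orderOf x ∣ 3 ^ p + 1 →
      Nat.card {y : Matrix.ProjectiveSpecialLinearGroup (Fin 2) F //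
        Group.IsSolvable ↥(Subgroup.closure
          ({x, y} : Set (Matrix.ProjectiveSpecialLinearGroup (Fin 2) F)))} =
      3 ^ p + 1) := by
  have hp2 : p ≠ 2 := by
    rintro rfl
    exact (by decide : ¬ Odd 2) hodd
  haveI : Fact (Nat.Prime 3) := ⟨Nat.prime_three⟩
  haveI hch : CharP F 3 := ms_char 3 Nat.prime_three p hF
  have h2 : (2 : F) ≠ 0 := two_ne_zero_of_char 3 (by norm_num)
  have h3 : (3 : F) = 0 := by exact_mod_cast CharP.cast_eq_zero F 3
  obtain ⟨X, rfl⟩ := pr_surj x
  have hcount : ∀ X' : SL2 F, pr X' = pr X →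
      2 * Nat.card {y : Matrix.ProjectiveSpecialLinearGroup (Fin 2) F //
        Group.IsSolvable ↥(Subgroup.closure
          ({pr X, y} : Set (Matrix.ProjectiveSpecialLinearGroup (Fin 2) F)))} =
      Nat.card {Y : SL2 F // Subgroup.closure ({X', Y} : Set (SL2 F)) ≠ ⊤} := by
    intro X' hX'
    refine (sq_count_pr h2 (fun y : Matrix.ProjectiveSpecialLinearGroup (Fin 2) F =>
      Group.IsSolvable ↥(Subgroup.closure
        ({pr X, y} : Set (Matrix.ProjectiveSpecialLinearGroup (Fin 2) F))))).symm.trans ?_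
    apply Nat.card_congr
    apply Equiv.subtypeEquivRight
    intro Y
    rw [← hX']
    exact sq_solv_iff p hp hp2 hF X' Y
  have hzsc : Sl2Scalar (sl2NegOne : SL2 F) :=
    ⟨by simp [sl2NegOne], by simp [sl2NegOne], by simp [sl2NegOne]⟩
  have hprz : pr (sl2NegOne * X) = pr X := (pr_eq_iff _ _).mpr (Or.inr rfl)
  have hscal : Sl2Scalar X → pr X = 1 := fun h =>
    (pr_eq_one_iff X).mpr (sl2Scalar_mem_center X h)
  have hpos : 0 < 3 ^ p := Nat.pos_of_ne_zero (pow_ne_zero _ (by norm_num))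
  have h3q : 3 ∣ 3 ^ p := dvd_pow_self 3 hp.ne_zero
  have hcz : orderOf (pr X) ∣ Nat.card (Subgroup.centralizer ({X} : Set (SL2 F))) :=
    (orderOf_map_dvd (pr (F := F)) X).trans
      (Subgroup.orderOf_dvd_natCard _ (Subgroup.mem_centralizer_singleton_iff.mpr rfl))
  -- generic elements have trace outside the prime field
  have hgen : pr X ≠ 1 → orderOf (pr X) ≠ 2 →
      (orderOf (pr X) ∣ 3 ^ p - 1 ∨ orderOf (pr X) ∣ 3 ^ p + 1) →
      (X : M2 F).trace ^ 3 ≠ (X : M2 F).trace := by
    intro hx1 ho2 hdvd hP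
    have ho1 : orderOf (pr X) ≠ 1 := fun h => hx1 (orderOf_eq_one_iff.mp h)
    have h5 : (X : M2 F).trace * (((X : M2 F).trace - 1) * ((X : M2 F).trace + 1)) = 0 := by
      linear_combination hP
    have hunip : ∀ X' : SL2 F, pr X' = pr X → (X' : M2 F).trace = 2 → False := by
      intro X' hX' htr
      have h6 : X' ^ 3 = 1 := tr2_pow 3 X' htr
      have h7 : pr X ^ 3 = 1 := by rw [← hX', ← map_pow, h6, map_one]
      have h8 := orderOf_dvd_of_pow_eq_one h7
      rcases (Nat.dvd_prime Nat.prime_three).mp h8 with h9 | h9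
      · exact ho1 h9
      · rw [h9] at hdvd
        rcases hdvd with h | h <;> omega
    rcases mul_eq_zero.mp h5 with h6 | h6
    · have hxx := sq_tr0_sq X h6
      have h7 : pr X ^ 2 = 1 := by
        rw [pow_two, ← map_mul, hxx]
        exact (pr_eq_one_iff _).mpr sl2NegOne_mem_center
      have h8 := orderOf_dvd_of_pow_eq_one h7
      rcases (Nat.dvd_prime Nat.prime_two).mp h8 with h9 | h9
      · exact ho1 h9
      · exact ho2 h9
    · rcases mul_eq_zero.mp h6 with h7 | h7
      · apply hunip (sl2NegOne * X) hprz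
        rw [sl2_trace_neg]
        linear_combination (-1 : F) * h7 - h3
      · apply hunip X rfl
        linear_combination h7 - h3
  have hboth : pr X ≠ 1 → orderOf (pr X) ≠ 2 → orderOf (pr X) ∣ 3 ^ p - 1 →
      orderOf (pr X) ∣ 3 ^ p + 1 → False := by
    intro hx1 ho2 h5 h6
    have h7 : orderOf (pr X) ∣ 2 := by
      have h8 := Nat.dvd_sub h6 h5
      have e : 3 ^ p + 1 - (3 ^ p - 1) = 2 := by omega
      rw [e] at h8; exact h8
    rcases (Nat.dvd_prime Nat.prime_two).mp h7 with h9 | h9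
    · exact hx1 (orderOf_eq_one_iff.mp h9)
    · exact ho2 h9
  obtain ⟨m1, m2, m3, m4⟩ := sq_main_sl p hp hp2 hF X
  refine ⟨?_, ?_, ?_, ?_⟩
  · intro ho
    have hX1 : pr X ≠ 1 := by
      intro h
      rw [h, orderOf_one] at ho
      omega
    have h5 := pow_orderOf_eq_one (pr X)
    rw [ho, pow_two, ← map_mul, ← map_one (pr (F := F)), pr_eq_iff] at h5
    have hsc : Sl2Scalar (X * X) := by
      rcases h5 with h5 | h5
      · rw [h5]; exact one_scalar
      · rw [h5, mul_one]; exact hzsc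
    have htr : (X : M2 F).trace = 0 := by
      rcases sq_sq_scalar X hsc with h | h
      · exact h
      · exact (hX1 (hscal h)).elim
    have hc := hcount X rfl
    rw [m1 htr, hF] at hc
    apply Nat.eq_of_mul_eq_mul_left (by norm_num : 0 < 2)
    rw [hc]; ring
  · intro ho
    have hX1 : pr X ≠ 1 := by
      intro h
      rw [h, orderOf_one] at ho
      omega
    have h5 := pow_orderOf_eq_one (pr X)
    rw [ho, ← map_pow, ← map_one (pr (F := F)), pr_eq_iff] at h5
    obtain ⟨X', hX', hX'3⟩ : ∃ X' : SL2 F, pr X' = pr X ∧ X' ^ 3 = 1 := by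
      rcases h5 with h5 | h5
      · exact ⟨X, rfl, h5⟩
      · refine ⟨sl2NegOne * X, hprz, ?_⟩
        have hcomm : Commute (sl2NegOne : SL2 F) X :=
          (Subgroup.mem_center_iff.mp sl2NegOne_mem_center X).symm
        rw [hcomm.mul_pow, h5, mul_one]
        calc (sl2NegOne : SL2 F) ^ 3 * sl2NegOne
            = (sl2NegOne * sl2NegOne) * (sl2NegOne * sl2NegOne) := by
              simp only [pow_succ, pow_zero, one_mul, mul_assoc]
          _ = 1 := by rw [sq_negOne_sq, one_mul]
    have htr : (X' : M2 F).trace = 2 := sl2_trace_eq_two_of_pow_char 3 X' hX'3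
    have hX'1 : X' ≠ 1 := by
      intro h
      apply hX1
      rw [← hX', h, map_one]
    obtain ⟨-, m2', -, -⟩ := sq_main_sl p hp hp2 hF X'
    have hc := hcount X' hX'
    rw [m2' htr hX'1, hF] at hc
    exact hc
  · intro hx1 ho2 hdvd
    have hxP := hgen hx1 ho2 (Or.inl hdvd)
    have hss : (X : M2 F).trace ^ 2 ≠ 4 := fun h => hxP (sqP_of_sq h3 h)
    have hcard : Nat.card (Subgroup.centralizer ({X} : Set (SL2 F))) = Fintype.card F - 1 := by
      rcases sq_card_cz h2 X hss with ⟨hR, hc⟩ | ⟨hR, hc⟩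
      · exfalso
        rw [hc, hF] at hcz
        exact hboth hx1 ho2 hdvd hcz
      · exact hc
    have hc := hcount X rfl
    rw [m3 hxP hcard, hF] at hc
    apply Nat.eq_of_mul_eq_mul_left (by norm_num : 0 < 2)
    rw [hc]; ring
  · intro hx1 ho2 hdvd
    have hxP := hgen hx1 ho2 (Or.inr hdvd)
    have hss : (X : M2 F).trace ^ 2 ≠ 4 := fun h => hxP (sqP_of_sq h3 h)
    have hcard : Nat.card (Subgroup.centralizer ({X} : Set (SL2 F))) = Fintype.card F + 1 := by
      rcases sq_card_cz h2 X hss with ⟨hR, hc⟩ | ⟨hR, hc⟩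
      · exact hc
      · exfalso
        rw [hc, hF] at hcz
        exact hboth hx1 ho2 hcz hdvd
    have hc := hcount X rfl
    rw [m4 hxP hcard, hF] at hc
    apply Nat.eq_of_mul_eq_mul_left (by norm_num : 0 < 2)
    rw [hc]

end Cfsg.Agent.Helper18.Dickson
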