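import Mathlib
import Cfsg.Agent.Helper18.Solq6

/-!
# Proper subgroups of `SL₂(13)`: orders and maximality by order (helper18)
-/

set_option autoImplicit false

namespace Cfsg.Agent.Helper18.Dickson

open Matrix Cfsg.Agent.Helper12 Cfsg.Agent.Helper18.OutPSL2

local notation "SL2" => Matrix.SpecialLinearGroup (Fin 2)
local notation "M2" => Matrix (Fin 2) (Fin 2)

section max13

variable {K : Type*} [Field K]

/-- the order of the torus normaliser -/
theorem pm_sbN_card [Fintype K] (h2 : (2 : K) ≠ 0) (k : SL2 K)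
    (hk : (k : M2 K).trace ^ 2 ≠ 4) :
    Nat.card (sbN k) = 2 * (Fintype.card K + 1) ∨
      Nat.card (sbN k) = 2 * (Fintype.card K - 1) := by
  have hodd : Odd (Fintype.card K) := (field_parity (K := K)).1 h2
  have hxx : k ≠ k⁻¹ := by
    intro h
    apply sq_sq_ne_one k hk
    have h9 : k * k = k * k⁻¹ := congrArg (fun z => k * z) h
    rw [h9, mul_inv_cancel]
  have h3 : Nat.card {y : SL2 K // y * k * y⁻¹ = k ∨ y * k * y⁻¹ = k⁻¹} =
      Nat.card {y : SL2 K // y * k * y⁻¹ = k} + Nat.card {y : SL2 K // y * k * y⁻¹ = k⁻¹} :=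
    sb_card2 (fun y : SL2 K => y * k * y⁻¹ = k) (fun y : SL2 K => y * k * y⁻¹ = k⁻¹)
      (fun y hA hB => hxx (hA.symm.trans hB))
  obtain ⟨w, hw⟩ := isConj_iff.mp (sl2_odd_isConj_of_trace hodd k k⁻¹ (sb_inv_tr k).symm hk)
  have h4 : Nat.card (sbN k) =
      Nat.card {y : SL2 K // y * k * y⁻¹ = k ∨ y * k * y⁻¹ = k⁻¹} := rfl
  rw [h4, h3, sq_card_inv_conj k w hw, sq_card_conj_eq]
  rcases sq_card_cz h2 k hk with ⟨-, h⟩ | ⟨-, h⟩
  · left; rw [h]; ring
  · right; rw [h]; ring

/-- a nonscalar element commuting with its conjugates under `M` -/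
theorem pm_key (h2 : (2 : K) ≠ 0) (M : Subgroup (SL2 K)) (g : SL2 K) (hns : ¬ Sl2Scalar g)
    (hc : ∀ n ∈ M, (n * g * n⁻¹) * g = g * (n * g * n⁻¹)) :
    (∃ D : SL2 K, ∀ g ∈ M, ((D * g * D⁻¹ : SL2 K) : M2 K) 1 0 = 0) ∨
    ((g : M2 K).trace ^ 2 ≠ 4 ∧ ∀ x ∈ M, x ∈ sbN g) := by
  by_cases hss : (g : M2 K).trace ^ 2 = 4
  · left
    have htr' : ((g * g : SL2 K) : M2 K).trace = 2 := by
      have h5 := sq_tr g
      rw [pow_two] at h5
      rw [h5, hss]; norm_num
    have hg1 : g * g ≠ 1 := by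
      intro h1
      apply hns
      have h5 := sl2_cayley g
      rw [← Matrix.SpecialLinearGroup.coe_mul, h1, Matrix.SpecialLinearGroup.coe_one] at h5
      have ht0 : (g : M2 K).trace ≠ 0 := by
        intro h0
        rw [h0] at hss
        have h4 : (4 : K) = 0 := by rw [← hss]; ring
        apply h2
        have e : (2 : K) * 2 = 0 := by rw [← h4]; norm_num
        exact (mul_self_eq_zero.mp e)
      have e01 := congrFun (congrFun h5 0) 1
      have e10 := congrFun (congrFun h5 1) 0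
      have e00 := congrFun (congrFun h5 0) 0
      have e11 := congrFun (congrFun h5 1) 1
      simp at e01 e10 e00 e11
      refine ⟨?_, ?_, ?_⟩
      · rcases e01 with h | h
        · exact (ht0 h).elim
        · exact h
      · rcases e10 with h | h
        · exact (ht0 h).elim
        · exact h
      · apply mul_left_cancel₀ ht0
        linear_combination e11 - e00
    obtain ⟨D, s, hs, hD⟩ := unip_conj (g * g) htr' hg1
    refine ⟨D, ?_⟩
    intro n hn
    have hcc : Commute (n * g * n⁻¹) g := hc n hn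
    have hcomm : Commute ((n * g * n⁻¹) * (n * g * n⁻¹)) (g * g) :=
      (hcc.mul_left hcc).mul_right (hcc.mul_left hcc)
    have e1 : (D * n * D⁻¹) * sl2U s * (D * n * D⁻¹)⁻¹ =
        D * ((n * g * n⁻¹) * (n * g * n⁻¹)) * D⁻¹ := by rw [← hD]; group
    have e2 : (D * ((n * g * n⁻¹) * (n * g * n⁻¹)) * D⁻¹) * sl2U s =
        sl2U s * (D * ((n * g * n⁻¹) * (n * g * n⁻¹)) * D⁻¹) := by
      rw [← hD]
      calc D * ((n * g * n⁻¹) * (n * g * n⁻¹)) * D⁻¹ * (D * (g * g) * D⁻¹)
          = D * ((n * g * n⁻¹) * (n * g * n⁻¹) * (g * g)) * D⁻¹ := by group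
        _ = D * ((g * g) * ((n * g * n⁻¹) * (n * g * n⁻¹))) * D⁻¹ := by rw [hcomm.eq]
        _ = D * (g * g) * D⁻¹ * (D * ((n * g * n⁻¹) * (n * g * n⁻¹)) * D⁻¹) := by group
    rw [← e1] at e2
    have h5 := ((sl2U_comm_iff hs _).mp e2).1
    rw [sb_conj10, sl2U_val] at h5
    simp at h5
    rcases h5 with h5 | h5
    · exact h5
    · exact (hs h5).elim
  · right
    refine ⟨hss, fun n hn => ?_⟩
    rw [mem_sbN]
    exact semis_conj h2 g (n * g * n⁻¹) hss (hc n hn).symm (tr_conj n g)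

/-- the order of a proper subgroup of `SL₂(13)` divides 156, 24 or 28 -/
theorem pm_orders [Fintype K] (hK : Fintype.card K = 13) (M : Subgroup (SL2 K)) (hM : M ≠ ⊤) :
    Nat.card M ∣ 156 ∨ Nat.card M ∣ 24 ∨ Nat.card M ∣ 28 := by
  classical
  haveI : Fact (Nat.Prime 13) := ⟨by norm_num⟩
  haveI hch : CharP K 13 := ms_char 13 (by norm_num) 1 (by rw [hK]; norm_num)
  have h2 : (2 : K) ≠ 0 := two_ne_zero_of_char 13 (by norm_num)
  have hdvd : Nat.card M ∣ Nat.card (SL2 K) := Subgroup.card_subgroup_dvd_card M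
  rw [sl2_card, hK] at hdvd
  have hdvd' : Nat.card M ∣ 2184 := by
    have e : 13 * (13 ^ 2 - 1) = 2184 := by norm_num
    rw [e] at hdvd; exact hdvd
  have hB : (∃ D : SL2 K, ∀ g ∈ M, ((D * g * D⁻¹ : SL2 K) : M2 K) 1 0 = 0) →
      Nat.card M ∣ 156 := by
    rintro ⟨D, hD⟩
    have h6 : Nat.card M = Nat.card (M.map (MulAut.conj D).toMonoidHom) :=
      Nat.card_congr ((MulAut.conj D).subgroupMap M).toEquiv
    have hle : M.map (MulAut.conj D).toMonoidHom ≤ borel K := by
      rintro x ⟨g, hg, rfl⟩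
      exact hD g hg
    have h7 := Subgroup.card_dvd_of_le hle
    rw [card_borel, hK] at h7
    rw [h6]; exact h7
  have hN : ∀ k : SL2 K, (k : M2 K).trace ^ 2 ≠ 4 → (∀ x ∈ M, x ∈ sbN k) →
      Nat.card M ∣ 24 ∨ Nat.card M ∣ 28 := by
    intro k hk hle
    have h7 := Subgroup.card_dvd_of_le (show M ≤ sbN k from hle)
    rcases pm_sbN_card h2 k hk with h | h
    · right; rw [h, hK] at h7; exact h7
    · left; rw [h, hK] at h7; exact h7
  have hkey : ∀ g : SL2 K, ¬ Sl2Scalar g →
      (∀ n ∈ M, (n * g * n⁻¹) * g = g * (n * g * n⁻¹)) →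
      Nat.card M ∣ 156 ∨ Nat.card M ∣ 24 ∨ Nat.card M ∣ 28 := by
    intro g hns hc
    rcases pm_key h2 M g hns hc with h | ⟨h, h'⟩
    · left; exact hB h
    · right; exact hN g h h'
  rcases odd_proper h2 M with ⟨D, hD⟩ | hab | ⟨g, hg, hc⟩ | ⟨hz, hc⟩ | ⟨D, s, t, ⟨S⟩⟩
  · left; exact hB ⟨D, hD⟩
  · by_cases hsc : ∀ g ∈ M, Sl2Scalar g
    · right; left
      have hle : M ≤ Subgroup.center (SL2 K) := fun g hg => sl2Scalar_mem_center g (hsc g hg)
      have h7 := Subgroup.card_dvd_of_le hle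
      rw [sl2_center_card_odd h2] at h7
      exact h7.trans (by norm_num)
    · obtain ⟨g, hg⟩ := not_forall.mp hsc
      obtain ⟨hgM, hns⟩ := Classical.not_imp.mp hg
      have hcm : ∀ n ∈ M, (n * g * n⁻¹) * g = g * (n * g * n⁻¹) := by
        intro n hn
        have h5 := hab ⟨n, hn⟩ ⟨g, hgM⟩
        have h6 : n * g = g * n := congrArg Subtype.val h5
        calc n * g * n⁻¹ * g = (n * g) * n⁻¹ * g := by group
          _ = g * n * n⁻¹ * g := by rw [h6]
          _ = g * ((n * g) * n⁻¹) := by rw [h6]; group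
          _ = g * (n * g * n⁻¹) := by group
      exact hkey g hns hcm
  · have hns : ¬ Sl2Scalar (g : SL2 K) := fun h => hg (sc_center M g h)
    have hidx := (cz g).index_mul_card
    have hpos : 0 < Nat.card (cz g) := Nat.card_pos
    have hi : (cz g).index = 1 ∨ (cz g).index = 2 := by
      have hipos : (cz g).index ≠ 0 := Subgroup.index_ne_zero_of_finite
      have h3' : (cz g).index ≤ 2 := by
        by_contra hh
        have h4 : 3 ≤ (cz g).index := by omega
        have h5 : 3 * Nat.card (cz g) ≤ (cz g).index * Nat.card (cz g) :=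
          Nat.mul_le_mul_right _ h4
        omega
      omega
    have hnorm : (cz g).Normal := by
      rcases hi with h1 | h2'
      · rw [Subgroup.index_eq_one.mp h1]; infer_instance
      · exact Subgroup.normal_of_index_eq_two h2'
    have hcm : ∀ n ∈ M, (n * (g : SL2 K) * n⁻¹) * (g : SL2 K) =
        (g : SL2 K) * (n * (g : SL2 K) * n⁻¹) := by
      intro n hn
      have h5 : (⟨n, hn⟩ : M) * g * (⟨n, hn⟩ : M)⁻¹ ∈ cz g :=
        hnorm.conj_mem g (mem_cz.mpr (Commute.refl g)) _
      have h6 := (mem_cz.mp h5).eq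
      exact congrArg Subtype.val h6
    exact hkey _ hns hcm
  · right; left
    have hz1 : 0 < Nat.card (Subgroup.center M) := Nat.card_pos
    have hcases : Nat.card M = 12 ∨ Nat.card M = 24 ∨ Nat.card M = 48 ∨ Nat.card M = 60 ∨
        Nat.card M = 120 := by omega
    rcases hcases with h | h | h | h | h
    · rw [h]; norm_num
    · rw [h]
    · rw [h] at hdvd'; norm_num at hdvd'
    · rw [h] at hdvd'; norm_num at hdvd'
    · rw [h] at hdvd'; norm_num at hdvd'
  · exfalso
    apply hM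
    have h5 := ms_setup_prime S (by rw [hK]; norm_num)
    apply Subgroup.map_injective (f := (MulAut.conj D).toMonoidHom) (MulAut.conj D).injective
    rw [h5, Subgroup.map_top_of_surjective _ (MulAut.conj D).surjective]

/-- subgroups of order divisible by 156, 24 or 28 are maximal -/
theorem pm_coatom [Fintype K] (hK : Fintype.card K = 13) (N : Subgroup (SL2 K)) (hN : N ≠ ⊤)
    (h : 156 ∣ Nat.card N ∨ 24 ∣ Nat.card N ∨ 28 ∣ Nat.card N) : IsCoatom N := by
  refine ⟨hN, fun M hNM => ?_⟩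
  by_contra hM
  have h1 := pm_orders hK M hM
  have h2 : Nat.card N ∣ Nat.card M := Subgroup.card_dvd_of_le hNM.le
  have h3 : Nat.card N ≠ Nat.card M := by
    intro he
    exact hNM.ne (Subgroup.eq_of_le_of_card_ge hNM.le he.symm.le)
  have key : ∀ d d' : ℕ, d ∣ Nat.card N → Nat.card M ∣ d' → (d ∣ d' → d = d') → False := by
    intro d d' hd hd' hdd
    have e := hdd (hd.trans (h2.trans hd'))
    subst e
    exact h3 (Nat.dvd_antisymm h2 (hd'.trans hd))
  rcases h with h | h | h <;> rcases h1 with h1 | h1 | h1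
  · exact key 156 156 h h1 (fun _ => rfl)
  · exact key 156 24 h h1 (fun hd => absurd hd (by norm_num))
  · exact key 156 28 h h1 (fun hd => absurd hd (by norm_num))
  · exact key 24 156 h h1 (fun hd => absurd hd (by norm_num))
  · exact key 24 24 h h1 (fun _ => rfl)
  · exact key 24 28 h h1 (fun hd => absurd hd (by norm_num))
  · exact key 28 156 h h1 (fun hd => absurd hd (by norm_num))
  · exact key 28 24 h h1 (fun hd => absurd hd (by norm_num))
  · exact key 28 28 h h1 (fun _ => rfl)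

end max13

end Cfsg.Agent.Helper18.Dickson
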