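import Mathlib
import Cfsg.Agent.Helper18.Max13a

/-!
# Normalisers in `SL₂(13)`: unipotent and abelian cases (helper18)
-/

set_option autoImplicit false

namespace Cfsg.Agent.Helper18.Dickson

open Matrix Cfsg.Agent.Helper12 Cfsg.Agent.Helper18.OutPSL2

local notation "SL2" => Matrix.SpecialLinearGroup (Fin 2)
local notation "M2" => Matrix (Fin 2) (Fin 2)

/-- a subgroup conjugating `L` into itself normalises `L` -/
theorem pm_le_norm {G : Type*} [Group G] (B L : Subgroup G)
    (h : ∀ b ∈ B, ∀ l ∈ L, b * l * b⁻¹ ∈ L) : B ≤ Subgroup.normalizer (L : Set G) := by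
  intro b hb
  rw [Subgroup.mem_normalizer_iff]
  intro l
  constructor
  · exact h b hb l
  · intro hl
    have h5 := h b⁻¹ (B.inv_mem hb) _ hl
    have e : b⁻¹ * (b * l * b⁻¹) * b⁻¹⁻¹ = l := by group
    rw [e] at h5; exact h5

/-- an element conjugating a finite subgroup into itself normalises it -/
theorem pm_norm_fin {G : Type*} [Group G] (L : Subgroup G) [Finite L] (w : G)
    (h : ∀ l ∈ L, w * l * w⁻¹ ∈ L) : w ∈ Subgroup.normalizer (L : Set G) := by
  have hle : L.map (MulAut.conj w).toMonoidHom ≤ L := by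
    rintro x ⟨l, hl, rfl⟩
    exact h l hl
  have hcard : Nat.card L = Nat.card (L.map (MulAut.conj w).toMonoidHom) :=
    Nat.card_congr ((MulAut.conj w).subgroupMap L).toEquiv
  have heq : L.map (MulAut.conj w).toMonoidHom = L :=
    Subgroup.eq_of_le_of_card_ge hle hcard.le
  rw [Subgroup.mem_normalizer_iff]
  intro l
  constructor
  · exact h l
  · intro hl
    have hl' : w * l * w⁻¹ ∈ L := hl
    rw [← heq] at hl'
    obtain ⟨l', hl'L, hl'e⟩ := hl'
    have e : w * l' * w⁻¹ = w * l * w⁻¹ := hl'e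
    have e2 : l' = l := by
      have := congrArg (fun z => w⁻¹ * z * w) e
      simpa [mul_assoc] using this
    rw [← e2]; exact hl'L

section max13

variable {K : Type*} [Field K]

/-- conjugation by the torus normaliser on the centraliser -/
theorem pm_conj_cz (h2 : (2 : K) ≠ 0) (g n l : SL2 K) (hk : (g : M2 K).trace ^ 2 ≠ 4)
    (hn : n ∈ sbN g) (hl : l * g = g * l) : n * l * n⁻¹ = l ∨ n * l * n⁻¹ = l⁻¹ := by
  have hns : ¬ Sl2Scalar g := fun h => hk (sl2Scalar_trace_sq g h)
  rcases mem_sbN.mp hn with h | h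
  · left
    have h5 : n * g = g * n := by
      calc n * g = (n * g * n⁻¹) * n := by group
        _ = g * n := by rw [h]
    have h6 := ct_sl n g l hns h5 hl.symm
    rw [h6]; group
  · right
    have ht := sq_inverts_tr0 g n hk h
    have e : n * l * g * (n * l)⁻¹ = g⁻¹ := by
      calc n * l * g * (n * l)⁻¹ = n * (l * g) * l⁻¹ * n⁻¹ := by group
        _ = n * (g * l) * l⁻¹ * n⁻¹ := by rw [hl]
        _ = n * g * n⁻¹ := by group
        _ = g⁻¹ := h
    have ht' := sq_inverts_tr0 g (n * l) hk e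
    have e1 : n * l * (n * l) = n * n := by rw [sq_tr0_sq _ ht', sq_tr0_sq _ ht]
    have e2 : l * n * l = n := by
      apply mul_left_cancel (a := n)
      calc n * (l * n * l) = n * l * (n * l) := by group
        _ = n * n := e1
    calc n * l * n⁻¹ = l⁻¹ * (l * n * l) * n⁻¹ := by group
      _ = l⁻¹ * n * n⁻¹ := by rw [e2]
      _ = l⁻¹ := by group

/-- a proper subgroup with a nontrivial unipotent element: the normaliser contains a Borel
subgroup -/
theorem pm_unip [Fintype K] (hK : Fintype.card K = 13) (L : Subgroup (SL2 K)) (hL : L ≠ ⊤)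
    (u : SL2 K) (hu : u ∈ L) (ht : (u : M2 K).trace = 2) (h1 : u ≠ 1) :
    156 ∣ Nat.card (Subgroup.normalizer (L : Set (SL2 K))) := by
  classical
  obtain ⟨D, s, hs, hD⟩ := unip_conj u ht h1
  have hL' : L.map (MulAut.conj D).toMonoidHom ≠ ⊤ := by
    intro h
    apply hL
    apply Subgroup.map_injective (f := (MulAut.conj D).toMonoidHom) (MulAut.conj D).injective
    rw [h, Subgroup.map_top_of_surjective _ (MulAut.conj D).surjective]
  obtain ⟨L', hL'def⟩ : ∃ L' : Subgroup (SL2 K), L' = L.map (MulAut.conj D).toMonoidHom :=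
    ⟨_, rfl⟩
  rw [← hL'def] at hL'
  have hsL : sl2U s ∈ L' := by
    rw [hL'def]
    exact ⟨u, hu, hD⟩
  have hsA : s ∈ msA L' 1 := by
    rw [mem_msA, div_one]; exact hsL
  have hAtop : msA L' (1 : K) = ⊤ := by
    have hdvd : Nat.card (msA L' (1 : K)) ∣ Nat.card K := AddSubgroup.card_addSubgroup_dvd_card _
    rw [Nat.card_eq_fintype_card (α := K), hK] at hdvd
    rcases (Nat.dvd_prime (by norm_num : Nat.Prime 13)).mp hdvd with h1 | h1
    · exfalso
      have h5 : msA L' (1 : K) = ⊥ := AddSubgroup.eq_bot_of_card_eq _ h1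
      rw [h5, AddSubgroup.mem_bot] at hsA
      exact hs hsA
    · exact AddSubgroup.eq_top_of_card_eq _ (by rw [h1, Nat.card_eq_fintype_card, hK])
  have hall : ∀ y : K, sl2U y ∈ L' := by
    intro y
    have h5 : y ∈ msA L' (1 : K) := by rw [hAtop]; exact AddSubgroup.mem_top y
    rw [mem_msA, div_one] at h5
    exact h5
  have hbor : ∀ g ∈ L', (g : M2 K) 1 0 = 0 := by
    intro g hg
    by_contra hc
    exact hL' (sl2_generate g hc L' hall
      (fun y => L'.mul_mem (L'.mul_mem hg (hall y)) (L'.inv_mem hg)))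
  have hle : borel K ≤ Subgroup.normalizer (L' : Set (SL2 K)) := by
    apply pm_le_norm
    intro b hb l hl
    have hb' : (b : M2 K) 1 0 = 0 := hb
    have hl' : (l : M2 K) 1 0 = 0 := hbor l hl
    have htr := upper_comm_tr b l hb' hl'
    have hmem : b * l * b⁻¹ * l⁻¹ ∈ borel K :=
      (borel K).mul_mem ((borel K).mul_mem ((borel K).mul_mem hb hl') ((borel K).inv_mem hb))
        ((borel K).inv_mem hl')
    have h10 : ((b * l * b⁻¹ * l⁻¹ : SL2 K) : M2 K) 1 0 = 0 := hmem
    obtain ⟨h00, h11⟩ := upper_tr2 _ h10 htr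
    have hU := sl2_eq_sl2U _ h00 h10 h11
    have e : b * l * b⁻¹ = (b * l * b⁻¹ * l⁻¹) * l := by group
    rw [e, hU]
    exact L'.mul_mem (hall _) hl
  have h7 := Subgroup.card_dvd_of_le hle
  rw [card_borel, hK] at h7
  have h9 := Subgroup.map_equiv_normalizer_eq L (MulAut.conj D)
  have h10 : Nat.card (Subgroup.normalizer (L : Set (SL2 K))) =
      Nat.card ((Subgroup.normalizer (L : Set (SL2 K))).map (MulAut.conj D).toMonoidHom) :=
    Nat.card_congr ((MulAut.conj D).subgroupMap _).toEquiv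
  rw [h10, h9, ← hL'def]
  exact h7

/-- abelian subgroups without unipotent elements -/
theorem pm_abel [Fintype K] (hK : Fintype.card K = 13) (L : Subgroup (SL2 K))
    (hU : ∀ x ∈ L, (x : M2 K).trace = 2 → x = 1)
    (hab : ∀ a ∈ L, ∀ b ∈ L, a * b = b * a) (hnn : ¬ L.Normal) :
    24 ∣ Nat.card (Subgroup.normalizer (L : Set (SL2 K))) ∨
      28 ∣ Nat.card (Subgroup.normalizer (L : Set (SL2 K))) := by
  classical
  haveI : Fact (Nat.Prime 13) := ⟨by norm_num⟩
  haveI hch : CharP K 13 := ms_char 13 (by norm_num) 1 (by rw [hK]; norm_num)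
  have h2 : (2 : K) ≠ 0 := two_ne_zero_of_char 13 (by norm_num)
  have hex : ∃ g ∈ L, ¬ Sl2Scalar g := by
    by_contra hcon
    apply hnn
    refine ⟨fun n hn g => ?_⟩
    have hsc : Sl2Scalar n := by
      by_contra h
      exact hcon ⟨n, hn, h⟩
    have h5 := Subgroup.mem_center_iff.mp (sl2Scalar_mem_center n hsc) g
    have e : g * n * g⁻¹ = n := by rw [h5]; group
    rw [e]; exact hn
  obtain ⟨g, hg, hns⟩ := hex
  have hss := pprime_ss L hU g hg hns
  have hle : sbN g ≤ Subgroup.normalizer (L : Set (SL2 K)) := by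
    apply pm_le_norm
    intro n hn l hl
    rcases pm_conj_cz h2 g n l hss hn (hab l hl g hg) with h | h
    · rw [h]; exact hl
    · rw [h]; exact L.inv_mem hl
  have h7 := Subgroup.card_dvd_of_le hle
  rcases pm_sbN_card h2 g hss with h | h
  · right; rw [h, hK] at h7; exact h7
  · left; rw [h, hK] at h7; exact h7

end max13

end Cfsg.Agent.Helper18.Dickson
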