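import Mathlib
import Cfsg.Agent.Helper18.Max13b

/-!
# Normalisers in `SL₂(13)`: the quaternion case and the main theorem (helper18)
-/

set_option autoImplicit false

namespace Cfsg.Agent.Helper18.Dickson

open Matrix Cfsg.Agent.Helper12 Cfsg.Agent.Helper18.OutPSL2

local notation "SL2" => Matrix.SpecialLinearGroup (Fin 2)
local notation "M2" => Matrix (Fin 2) (Fin 2)

/-- quaternion relations -/
theorem pm_quat {R : Type*} [Ring R] (x y z : R) (hxx : x * x = -1) (hyy : y * y = -1)
    (hxy : x * y = z) (hyx : y * x = -z) :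
    (1 + x + y + z) * x = y * (1 + x + y + z) ∧ (1 + x + y + z) * y = z * (1 + x + y + z) ∧
    (1 + x + y + z) * (1 + x + y + z) + (1 + 1 + 1 + 1) =
      (1 + x + y + z) + (1 + x + y + z) := by
  have hxz : x * z = -y := by rw [← hxy, ← mul_assoc, hxx, neg_one_mul]
  have hzx : z * x = y := by
    calc z * x = x * (y * x) := by rw [← hxy, mul_assoc]
      _ = y := by rw [hyx, mul_neg, hxz, neg_neg]
  have hzy : z * y = -x := by rw [← hxy, mul_assoc, hyy, mul_neg, mul_one]
  have hyz : y * z = x := by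
    calc y * z = y * x * y := by rw [← hxy, mul_assoc]
      _ = x := by rw [hyx, neg_mul, hzy, neg_neg]
  have hzz : z * z = -1 := by
    calc z * z = z * x * y := by rw [mul_assoc, hxy]
      _ = -1 := by rw [hzx, hyy]
  refine ⟨?_, ?_, ?_⟩
  · simp only [add_mul, mul_add, one_mul, mul_one, hxx, hyx, hzx, hyy, hyz]
    abel
  · simp only [add_mul, mul_add, one_mul, mul_one, hxy, hyy, hzy, hzx, hzz]
    abel
  · simp only [add_mul, mul_add, one_mul, mul_one, hxx, hyy, hzz, hxy, hyx, hxz, hzx, hyz, hzy]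
    abel

theorem pm_div14 (a : ℕ) (h : a ∣ 14) : a = 1 ∨ a = 2 ∨ a = 7 ∨ a = 14 := by
  have h1 : a ≤ 14 := Nat.le_of_dvd (by norm_num) h
  have h0 : 0 < a := Nat.pos_of_dvd_of_pos h (by norm_num)
  interval_cases a <;> omega

theorem pm_div12 (a : ℕ) (h : a ∣ 12) :
    a = 1 ∨ a = 2 ∨ a = 3 ∨ a = 4 ∨ a = 6 ∨ a = 12 := by
  have h1 : a ≤ 12 := Nat.le_of_dvd (by norm_num) h
  have h0 : 0 < a := Nat.pos_of_dvd_of_pos h (by norm_num)
  interval_cases a <;> omega

section max13

variable {K : Type*} [Field K]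

/-- quaternion subgroups of order 8 have a normaliser of order divisible by 24 -/
theorem pm_q8 [Fintype K] (hK : Fintype.card K = 13) (L : Subgroup (SL2 K)) (X Y : SL2 K)
    (hXL : X ∈ L) (hYL : Y ∈ L) (hX : (X : M2 K).trace = 0) (hY : (Y : M2 K).trace = 0)
    (hinv : Y * X * Y⁻¹ = X⁻¹) (hcard : Nat.card L = 8) :
    24 ∣ Nat.card (Subgroup.normalizer (L : Set (SL2 K))) := by
  classical
  haveI : Fact (Nat.Prime 13) := ⟨by norm_num⟩
  haveI : Fact (Nat.Prime 2) := ⟨Nat.prime_two⟩
  haveI : Fact (Nat.Prime 3) := ⟨Nat.prime_three⟩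
  haveI hch : CharP K 13 := ms_char 13 (by norm_num) 1 (by rw [hK]; norm_num)
  have h2 : (2 : K) ≠ 0 := two_ne_zero_of_char 13 (by norm_num)
  have h3 : (3 : K) ≠ 0 := by
    intro h
    have h' : ((3 : ℕ) : K) = 0 := by exact_mod_cast h
    rw [CharP.cast_eq_zero_iff K 13 3] at h'
    have := Nat.le_of_dvd (by norm_num) h'
    omega
  have hXX := sq_tr0_sq X hX
  have hYY := sq_tr0_sq Y hY
  have hneg1 : (sl2NegOne : SL2 K) ≠ 1 := sl2NegOne_ne_one h2
  have hXYinv : (X * Y) * X * (X * Y)⁻¹ = X⁻¹ := by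
    calc X * Y * X * (X * Y)⁻¹ = X * (Y * X * Y⁻¹) * X⁻¹ := by group
      _ = X * X⁻¹ * X⁻¹ := by rw [hinv]
      _ = X⁻¹ := by group
  have hss : (X : M2 K).trace ^ 2 ≠ 4 := by
    rw [hX]; intro h
    have h4 : (4 : K) = 0 := by rw [← h]; ring
    apply h2
    have e : (2 : K) * 2 = 0 := by rw [← h4]; norm_num
    exact mul_self_eq_zero.mp e
  have hZ : ((X * Y : SL2 K) : M2 K).trace = 0 := sq_inverts_tr0 X (X * Y) hss hXYinv
  have hcen : X * sl2NegOne = sl2NegOne * X := Subgroup.mem_center_iff.mp sl2NegOne_mem_center X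
  have e2 : X⁻¹ = sl2NegOne * X := by
    apply inv_eq_of_mul_eq_one_right
    calc X * (sl2NegOne * X) = (X * sl2NegOne) * X := by group
      _ = sl2NegOne * (X * X) := by rw [hcen]; group
      _ = 1 := by rw [hXX, sq_negOne_sq]
  have e1 : Y * X = sl2NegOne * (X * Y) := by
    calc Y * X = (Y * X * Y⁻¹) * Y := by group
      _ = X⁻¹ * Y := by rw [hinv]
      _ = sl2NegOne * X * Y := by rw [e2]
      _ = sl2NegOne * (X * Y) := by group
  -- matrices
  obtain ⟨x, hx⟩ : ∃ x : M2 K, x = (X : M2 K) := ⟨_, rfl⟩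
  obtain ⟨y, hy⟩ : ∃ y : M2 K, y = (Y : M2 K) := ⟨_, rfl⟩
  obtain ⟨z, hz⟩ : ∃ z : M2 K, z = x * y := ⟨_, rfl⟩
  have hxx : x * x = -1 := by
    rw [hx, ← Matrix.SpecialLinearGroup.coe_mul, hXX, sq_negOne_val]
  have hyy : y * y = -1 := by
    rw [hy, ← Matrix.SpecialLinearGroup.coe_mul, hYY, sq_negOne_val]
  have hyx : y * x = -z := by
    have e3 : ((Y * X : SL2 K) : M2 K) = ((sl2NegOne * (X * Y) : SL2 K) : M2 K) := by rw [e1]
    rw [sl2NegOne_mul_val, Matrix.SpecialLinearGroup.coe_mul,
      Matrix.SpecialLinearGroup.coe_mul] at e3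
    rw [hz, hx, hy]; exact e3
  obtain ⟨hux, huy, huu⟩ := pm_quat x y z hxx hyy hz.symm hyx
  obtain ⟨u, hu⟩ : ∃ u : M2 K, u = 1 + x + y + z := ⟨_, rfl⟩
  rw [← hu] at hux huy huu
  obtain ⟨c, hc⟩ : ∃ c : K, c * 2 = 1 := ⟨2⁻¹, inv_mul_cancel₀ h2⟩
  have hwx : (c • u) * x = y * (c • u) := by rw [Matrix.smul_mul, hux, Matrix.mul_smul]
  have hwy : (c • u) * y = z * (c • u) := by rw [Matrix.smul_mul, huy, Matrix.mul_smul]
  have e5 : c • (u + u) = u := by rw [← two_smul K u, smul_smul, hc, one_smul]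
  have e6 : c • c • ((1 + 1 + 1 + 1 : M2 K)) = 1 := by
    have e4 : (1 + 1 + 1 + 1 : M2 K) = (2 : K) • ((2 : K) • (1 : M2 K)) := by
      rw [two_smul, two_smul]; abel
    rw [e4, smul_smul, smul_smul, smul_smul]
    have e7 : c * c * 2 * 2 = 1 := by linear_combination (c * 2 + 1) * hc
    rw [e7, one_smul]
  have hww : (c • u) * (c • u) = c • u - 1 := by
    rw [Matrix.smul_mul, Matrix.mul_smul, eq_sub_of_add_eq huu, smul_sub, smul_sub, e5, e6]
  have htrw : (c • u).trace = 1 := by
    rw [Matrix.trace_smul, hu, Matrix.trace_add, Matrix.trace_add, Matrix.trace_add, hz, hx, hy,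
      ← Matrix.SpecialLinearGroup.coe_mul, hX, hY, hZ, Matrix.trace_one]
    simp only [Fintype.card_fin, add_zero, smul_eq_mul]
    push_cast
    exact hc
  obtain ⟨w, hw⟩ : ∃ w : M2 K, w = c • u := ⟨_, rfl⟩
  rw [← hw] at hwx hwy hww htrw
  have hdet : w.det = 1 := by
    have h00 := congrFun (congrFun hww 0) 0
    rw [Matrix.mul_apply, Fin.sum_univ_two, Matrix.sub_apply, Matrix.one_apply_eq] at h00
    have htr : w 0 0 + w 1 1 = 1 := by rw [← Matrix.trace_fin_two]; exact htrw
    rw [Matrix.det_fin_two]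
    linear_combination w 0 0 * htr - h00
  obtain ⟨W, hW⟩ : ∃ W : SL2 K, (W : M2 K) = w := ⟨⟨w, hdet⟩, rfl⟩
  have hWX : W * X * W⁻¹ = Y := by
    rw [mul_inv_eq_iff_eq_mul, sl2_mul_eq_iff, hW, ← hx, ← hy]; exact hwx
  have hWY : W * Y * W⁻¹ = X * Y := by
    rw [mul_inv_eq_iff_eq_mul, sl2_mul_eq_iff, hW, Matrix.SpecialLinearGroup.coe_mul, ← hx, ← hy,
      ← hz]
    exact hwy
  -- L is generated by X and Y
  have hXne : X * X ≠ 1 := by rw [hXX]; exact hneg1
  have hX4 : X ^ 4 = 1 := by
    have : X ^ 4 = (X * X) * (X * X) := by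
      simp only [pow_succ, pow_zero, one_mul, mul_assoc]
    rw [this, hXX, sq_negOne_sq]
  have hordX : orderOf X = 4 := by
    have h := orderOf_eq_prime_pow (p := 2) (n := 1) (x := X)
      (by rw [pow_one, pow_two]; exact hXne) (by norm_num; exact hX4)
    exact h.trans (by norm_num)
  have hCL : Subgroup.closure {X, Y} ≤ L := by
    rw [Subgroup.closure_le]; intro g hg
    rcases hg with rfl | rfl
    · exact hXL
    · exact hYL
  have hzC : Subgroup.zpowers X ≤ Subgroup.closure {X, Y} := by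
    rw [Subgroup.zpowers_le]; exact Subgroup.subset_closure (by simp)
  have hc1 := Subgroup.card_dvd_of_le hzC
  rw [Nat.card_zpowers, hordX] at hc1
  have hCeq : Subgroup.closure {X, Y} = L := by
    apply Subgroup.eq_of_le_of_card_ge hCL
    rw [hcard]
    by_contra hlt
    have hC4 : Nat.card (Subgroup.closure ({X, Y} : Set (SL2 K))) = 4 := by
      have hpos : 0 < Nat.card (Subgroup.closure ({X, Y} : Set (SL2 K))) := Nat.card_pos
      obtain ⟨m, hm⟩ := hc1
      omega
    have hzeq : Subgroup.zpowers X = Subgroup.closure {X, Y} := by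
      apply Subgroup.eq_of_le_of_card_ge hzC
      rw [hC4, Nat.card_zpowers, hordX]
    have hYz : Y ∈ Subgroup.zpowers X := by
      rw [hzeq]; exact Subgroup.subset_closure (by simp)
    obtain ⟨k, hk⟩ := Subgroup.mem_zpowers_iff.mp hYz
    have hcomm : Commute Y X := by
      rw [← hk]; exact (Commute.refl X).zpow_left k
    have e : Y * X * Y⁻¹ = X := by rw [hcomm.eq]; group
    rw [hinv] at e
    apply hXne
    calc X * X = X * X⁻¹ := by rw [e]
      _ = 1 := mul_inv_cancel X
  have hWn : W ∈ Subgroup.normalizer (L : Set (SL2 K)) := by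
    apply pm_norm_fin
    intro l hl
    rw [← hCeq] at hl
    have hle : Subgroup.closure {X, Y} ≤ L.comap (MulAut.conj W).toMonoidHom := by
      rw [Subgroup.closure_le]
      intro g hg
      rcases hg with rfl | rfl
      · show W * g * W⁻¹ ∈ L
        rw [hWX]; exact hYL
      · show W * g * W⁻¹ ∈ L
        rw [hWY]; exact L.mul_mem hXL hYL
    exact hle hl
  have hWWW : W * W * W = sl2NegOne := by
    apply Subtype.ext
    rw [Matrix.SpecialLinearGroup.coe_mul, Matrix.SpecialLinearGroup.coe_mul, hW, hww,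
      sq_negOne_val, sub_mul, one_mul, hww]
    abel
  have hV3 : (W * W) ^ 3 = 1 := by
    have : (W * W) ^ 3 = (W * W * W) * (W * W * W) := by
      simp only [pow_succ, pow_zero, one_mul, mul_assoc]
    rw [this, hWWW, sq_negOne_sq]
  have hV1 : W * W ≠ 1 := by
    intro h
    have h5 : ((W * W : SL2 K) : M2 K).trace = ((1 : SL2 K) : M2 K).trace := by rw [h]
    rw [Matrix.SpecialLinearGroup.coe_mul, hW, hww, Matrix.trace_sub, htrw, Matrix.trace_one,
      one_tr, Fintype.card_fin] at h5
    apply h3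
    push_cast at h5
    linear_combination -h5
  have hordV : orderOf (W * W) = 3 := orderOf_eq_prime hV3 hV1
  have hVn : W * W ∈ Subgroup.normalizer (L : Set (SL2 K)) := Subgroup.mul_mem _ hWn hWn
  have h3N := Subgroup.orderOf_dvd_natCard _ hVn
  rw [hordV] at h3N
  have h8N := Subgroup.card_dvd_of_le (Subgroup.le_normalizer (H := L))
  rw [hcard] at h8N
  exact Nat.Coprime.mul_dvd_of_dvd_of_dvd (by norm_num : Nat.Coprime 8 3) h8N h3N

/-- a non-central element whose centraliser in `L` has index 2 -/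
theorem pm_idx2 [Fintype K] (hK : Fintype.card K = 13) (L : Subgroup (SL2 K))
    (hU : ∀ x ∈ L, (x : M2 K).trace = 2 → x = 1)
    (g : L) (hg : g ∉ Subgroup.center L) (hc : Nat.card L ≤ 2 * Nat.card (cz g)) :
    24 ∣ Nat.card (Subgroup.normalizer (L : Set (SL2 K))) ∨
      28 ∣ Nat.card (Subgroup.normalizer (L : Set (SL2 K))) := by
  classical
  haveI : Fact (Nat.Prime 13) := ⟨by norm_num⟩
  haveI : Fact (Nat.Prime 2) := ⟨Nat.prime_two⟩
  haveI hch : CharP K 13 := ms_char 13 (by norm_num) 1 (by rw [hK]; norm_num)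
  have h2 : (2 : K) ≠ 0 := two_ne_zero_of_char 13 (by norm_num)
  have hneg1 : (sl2NegOne : SL2 K) ≠ 1 := sl2NegOne_ne_one h2
  have hns : ¬ Sl2Scalar (g : SL2 K) := fun h => hg (sc_center L g h)
  have hss := pprime_ss L hU (g : SL2 K) g.2 hns
  have hidx := (cz g).index_mul_card
  have hpos : 0 < Nat.card (cz g) := Nat.card_pos
  have hi : (cz g).index = 1 ∨ (cz g).index = 2 := by
    have hipos : (cz g).index ≠ 0 := Subgroup.index_ne_zero_of_finite
    have h3' : (cz g).index ≤ 2 := by
      by_contra hh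
      have h4 : 3 ≤ (cz g).index := by omega
      have h5 : 3 * Nat.card (cz g) ≤ (cz g).index * Nat.card (cz g) :=
        Nat.mul_le_mul_right _ h4
      omega
    omega
  have hnorm : (cz g).Normal := by
    rcases hi with h1 | h2'
    · rw [Subgroup.index_eq_one.mp h1]; infer_instance
    · exact Subgroup.normal_of_index_eq_two h2'
  have hcm : ∀ n ∈ L, (n * (g : SL2 K) * n⁻¹) * (g : SL2 K) =
      (g : SL2 K) * (n * (g : SL2 K) * n⁻¹) := by
    intro n hn
    have h5 : (⟨n, hn⟩ : L) * g * (⟨n, hn⟩ : L)⁻¹ ∈ cz g :=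
      hnorm.conj_mem g (mem_cz.mpr (Commute.refl g)) _
    have h6 := (mem_cz.mp h5).eq
    exact congrArg Subtype.val h6
  have hLQ : L ≤ sbN (g : SL2 K) := by
    intro n hn
    rw [mem_sbN]
    exact semis_conj h2 (g : SL2 K) (n * g * n⁻¹) hss (hcm n hn).symm (tr_conj n g)
  have hi2 : (cz g).index = 2 := by
    rcases hi with h1 | h
    · exfalso; apply hg
      have htop := Subgroup.index_eq_one.mp h1
      rw [Subgroup.mem_center_iff]
      intro x
      have hx : x ∈ cz g := by rw [htop]; exact Subgroup.mem_top x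
      exact (mem_cz.mp hx).eq
    · exact h
  have hLa : Nat.card L = 2 * Nat.card (cz g) := by rw [← hidx, hi2]
  obtain ⟨y, hy⟩ : ∃ y : L, y * g ≠ g * y := by
    by_contra hcon
    apply hg
    rw [Subgroup.mem_center_iff]
    intro x
    by_contra hx
    exact hcon ⟨x, hx⟩
  have hyinv : (y : SL2 K) * g * (y : SL2 K)⁻¹ = (g : SL2 K)⁻¹ := by
    rcases mem_sbN.mp (hLQ y.2) with h | h
    · exfalso; apply hy
      apply Subtype.ext
      show (y : SL2 K) * (g : SL2 K) = (g : SL2 K) * (y : SL2 K)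
      calc (y : SL2 K) * (g : SL2 K)
          = ((y : SL2 K) * (g : SL2 K) * (y : SL2 K)⁻¹) * (y : SL2 K) := by group
        _ = (g : SL2 K) * (y : SL2 K) := by rw [h]
    · exact h
  have hty := sq_inverts_tr0 (g : SL2 K) y hss hyinv
  have hyy := sq_tr0_sq (y : SL2 K) hty
  have hy4 : (y : SL2 K) ^ 4 = 1 := by
    have : (y : SL2 K) ^ 4 = ((y : SL2 K) * y) * ((y : SL2 K) * y) := by
      simp only [pow_succ, pow_zero, one_mul, mul_assoc]
    rw [this, hyy, sq_negOne_sq]
  have hordy : orderOf (y : SL2 K) = 4 := by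
    have h := orderOf_eq_prime_pow (p := 2) (n := 1) (x := (y : SL2 K))
      (by rw [pow_one, pow_two, hyy]; exact hneg1) (by norm_num; exact hy4)
    exact h.trans (by norm_num)
  have h4L : 4 ∣ Nat.card L := by
    have := Subgroup.orderOf_dvd_natCard L y.2
    rw [hordy] at this; exact this
  have hgpow : (g : SL2 K) ^ Nat.card (cz g) = 1 := by
    have h5 := Subgroup.orderOf_dvd_natCard (cz g) (mem_cz.mpr (Commute.refl g))
    rw [← Subgroup.orderOf_coe] at h5
    exact orderOf_dvd_iff_pow_eq_one.mp h5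
  have hQ := pm_sbN_card h2 (g : SL2 K) hss
  rw [hK] at hQ
  have hLQd := Subgroup.card_dvd_of_le hLQ
  have hLN := Subgroup.card_dvd_of_le (Subgroup.le_normalizer (H := L))
  obtain ⟨a, ha⟩ : ∃ a, a = Nat.card (cz g) := ⟨_, rfl⟩
  rw [← ha] at hLa hgpow
  rw [hLa] at h4L hLQd hLN
  have ha2 : a ≠ 2 := by
    intro ha2
    rw [ha2] at hgpow
    have h5 : (g : SL2 K) * g = 1 := by rw [← pow_two]; exact hgpow
    rcases sq_sq_scalar (g : SL2 K) (by rw [h5]; exact one_scalar) with h | h
    · have h6 := sq_tr0_sq (g : SL2 K) h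
      rw [h5] at h6; exact hneg1 h6.symm
    · exact hns h
  rcases hQ with hQ | hQ
  · right
    rw [hQ] at hLQd
    have h14 : a ∣ 14 := Nat.dvd_of_mul_dvd_mul_left (by norm_num : 0 < 2) hLQd
    have hcases := pm_div14 a h14
    have ha14 : a = 14 := by omega
    rw [ha14] at hLN
    exact hLN
  · left
    rw [hQ] at hLQd
    have h12 : a ∣ 12 := Nat.dvd_of_mul_dvd_mul_left (by norm_num : 0 < 2) hLQd
    have hcases := pm_div12 a h12
    have hcases' : a = 4 ∨ a = 6 ∨ a = 12 := by omega
    rcases hcases' with h | h | h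
    · rw [h] at hgpow hLa
      have h5 : ((g : SL2 K) * (g : SL2 K)) * ((g : SL2 K) * (g : SL2 K)) = 1 := by
        rw [← hgpow]
        simp only [pow_succ, pow_zero, one_mul, mul_assoc]
      rcases sq_sq_scalar ((g : SL2 K) * (g : SL2 K)) (by rw [h5]; exact one_scalar)
        with h' | h'
      · exfalso
        have h6 := sq_tr0_sq ((g : SL2 K) * (g : SL2 K)) h'
        rw [h5] at h6; exact hneg1 h6.symm
      · rcases sq_sq_scalar (g : SL2 K) h' with h'' | h''
        · exact pm_q8 hK L (g : SL2 K) (y : SL2 K) g.2 y.2 h'' hty hyinv (by rw [hLa])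
        · exact (hns h'').elim
    · rw [h] at hLa
      have hsub : Nat.card (L.subgroupOf (sbN (g : SL2 K))) = Nat.card L :=
        Nat.card_congr (Subgroup.subgroupOfEquivOfLe hLQ).toEquiv
      have hidxQ := (L.subgroupOf (sbN (g : SL2 K))).index_mul_card
      rw [hsub, hLa, hQ] at hidxQ
      have hi2' : (L.subgroupOf (sbN (g : SL2 K))).index = 2 := by omega
      have hnq := Subgroup.normal_of_index_eq_two hi2'
      have hle := (Subgroup.normal_subgroupOf_iff_le_normalizer hLQ).mp hnq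
      have h7 := Subgroup.card_dvd_of_le hle
      rw [hQ] at h7
      exact h7
    · rw [h] at hLN
      exact hLN

/-- in `SL₂(13)` the normaliser of a non-normal subgroup is maximal -/
theorem pm_core [Fintype K] (hK : Fintype.card K = 13) (L : Subgroup (SL2 K))
    (hL : ¬ L.Normal) : IsCoatom (Subgroup.normalizer (L : Set (SL2 K))) := by
  classical
  haveI : Fact (Nat.Prime 13) := ⟨by norm_num⟩
  haveI : Fact (Nat.Prime 2) := ⟨Nat.prime_two⟩
  haveI hch : CharP K 13 := ms_char 13 (by norm_num) 1 (by rw [hK]; norm_num)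
  have h2 : (2 : K) ≠ 0 := two_ne_zero_of_char 13 (by norm_num)
  have hneg1 : (sl2NegOne : SL2 K) ≠ 1 := sl2NegOne_ne_one h2
  have hN : Subgroup.normalizer (L : Set (SL2 K)) ≠ ⊤ :=
    fun h => hL (Subgroup.normalizer_eq_top_iff.mp h)
  have hLtop : L ≠ ⊤ := by
    rintro rfl
    exact hL inferInstance
  apply pm_coatom hK _ hN
  by_cases hU : ∀ x ∈ L, (x : M2 K).trace = 2 → x = 1
  · right
    rcases odd_proper h2 L with ⟨D, hD⟩ | hab | ⟨g, hg, hc⟩ | ⟨hz, hc⟩ | ⟨D, s, t, ⟨S⟩⟩
    · apply pm_abel hK L hU _ hL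
      intro a ha b hb
      have htr := upper_comm_tr (D * a * D⁻¹) (D * b * D⁻¹) (hD a ha) (hD b hb)
      have e : (D * a * D⁻¹) * (D * b * D⁻¹) * (D * a * D⁻¹)⁻¹ * (D * b * D⁻¹)⁻¹ =
          D * (a * b * a⁻¹ * b⁻¹) * D⁻¹ := by group
      rw [e, tr_conj] at htr
      have h5 := hU _ (L.mul_mem (L.mul_mem (L.mul_mem ha hb) (L.inv_mem ha)) (L.inv_mem hb)) htr
      calc a * b = (a * b * a⁻¹ * b⁻¹) * (b * a) := by group
        _ = b * a := by rw [h5, one_mul]
    · apply pm_abel hK L hU _ hL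
      intro a ha b hb
      exact congrArg Subtype.val (hab ⟨a, ha⟩ ⟨b, hb⟩)
    · exact pm_idx2 hK L hU g hg hc
    · left
      have hz1 : 0 < Nat.card (Subgroup.center L) := Nat.card_pos
      have hdvd : Nat.card L ∣ Nat.card (SL2 K) := Subgroup.card_subgroup_dvd_card L
      rw [sl2_card, hK] at hdvd
      have hdvd' : Nat.card L ∣ 2184 := by
        have e : 13 * (13 ^ 2 - 1) = 2184 := by norm_num
        rw [e] at hdvd; exact hdvd
      have hLN := Subgroup.card_dvd_of_le (Subgroup.le_normalizer (H := L))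
      rcases (by omega : Nat.card (Subgroup.center L) = 1 ∨ Nat.card (Subgroup.center L) = 2)
        with hz' | hz'
      · rw [hz'] at hc
        rcases hc with hc | hc | hc
        · exfalso
          have h2L : 2 ∣ Nat.card L := by rw [hc]; norm_num
          obtain ⟨x, hx⟩ := exists_prime_orderOf_dvd_card' (G := L) 2 h2L
          have hx2 : x ^ 2 = 1 := by
            have h7 := pow_orderOf_eq_one x
            rw [hx] at h7; exact h7
          have hx1 : x ≠ 1 := by
            intro h
            rw [h, orderOf_one] at hx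
            omega
          have hx2' : (x : SL2 K) * (x : SL2 K) = 1 := by
            have := congrArg (fun t : L => (t : SL2 K)) hx2
            simpa [pow_two] using this
          have hsc : Sl2Scalar (x : SL2 K) := by
            rcases sq_sq_scalar (x : SL2 K) (by rw [hx2']; exact one_scalar) with h | h
            · exfalso
              have h6 := sq_tr0_sq (x : SL2 K) h
              rw [hx2'] at h6; exact hneg1 h6.symm
            · exact h
          have hxc := sc_center L x hsc
          have hbot : Subgroup.center L = ⊥ := Subgroup.eq_bot_of_card_eq _ hz'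
          rw [hbot, Subgroup.mem_bot] at hxc
          exact hx1 hxc
        · have e : Nat.card L = 24 := by omega
          rw [e] at hLN; exact hLN
        · exfalso
          have e : Nat.card L = 60 := by omega
          rw [e] at hdvd'; norm_num at hdvd'
      · rw [hz'] at hc
        rcases hc with hc | hc | hc
        · have e : Nat.card L = 24 := by omega
          rw [e] at hLN; exact hLN
        · exfalso
          have e : Nat.card L = 48 := by omega
          rw [e] at hdvd'; norm_num at hdvd'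
        · exfalso
          have e : Nat.card L = 120 := by omega
          rw [e] at hdvd'; norm_num at hdvd'
    · exfalso
      apply hLtop
      have h5 := ms_setup_prime S (by rw [hK]; norm_num)
      apply Subgroup.map_injective (f := (MulAut.conj D).toMonoidHom) (MulAut.conj D).injective
      rw [h5, Subgroup.map_top_of_surjective _ (MulAut.conj D).surjective]
  · left
    push_neg at hU
    obtain ⟨u, hu, ht, h1⟩ := hU
    exact pm_unip hK L hLtop u hu ht h1

end max13

end Cfsg.Agent.Helper18.Dickson
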