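import Mathlib
import Cfsg.Agent.Helper18.Max13c

/-!
# Normalisers in `K × S` for `K` a quotient of `SL₂(13)` and `S` coprime abelian (helper18)
-/

set_option autoImplicit false

namespace Cfsg.Agent.Helper18.Dickson

open Matrix Cfsg.Agent.Helper12 Cfsg.Agent.Helper18.OutPSL2

local notation "SL2" => Matrix.SpecialLinearGroup (Fin 2)
local notation "M2" => Matrix (Fin 2) (Fin 2)

/-- maximality descends along surjections -/
theorem pm_coatom_of_comap {G H : Type*} [Group G] [Group H] (φ : G →* H)
    (hφ : Function.Surjective φ) (N : Subgroup H) (h : IsCoatom (N.comap φ)) : IsCoatom N := by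
  refine ⟨?_, ?_⟩
  · intro hN
    apply h.1
    rw [hN, Subgroup.comap_top]
  · intro M hNM
    have h1 : N.comap φ < M.comap φ := (Subgroup.comap_lt_comap_of_surjective hφ).mpr hNM
    have h2 := h.2 _ h1
    apply Subgroup.comap_injective hφ
    rw [h2, Subgroup.comap_top]

/-- coprime direct products: the first component of a member is a member -/
theorem pm_prod_mem {K S : Type*} [Group K] [CommGroup S] [Finite K] [Finite S]
    (hKS : (Nat.card K).Coprime (Nat.card S)) (H : Subgroup (K × S)) (k : K) (s : S)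
    (h : (k, s) ∈ H) : (k, (1 : S)) ∈ H := by
  have h1 : (k, s) ^ Nat.card S ∈ H := H.pow_mem h _
  have h2 : ((k, s) ^ Nat.card S) ^ ((Nat.card K).gcdB (Nat.card S)) ∈ H := H.zpow_mem h1 _
  have hz : (k ^ Nat.card S) ^ ((Nat.card K).gcdB (Nat.card S)) = k :=
    (powCoprime hKS).left_inv k
  have e : ((k, s) ^ Nat.card S) ^ ((Nat.card K).gcdB (Nat.card S)) = (k, 1) := by
    apply Prod.ext
    · rw [Prod.pow_fst, Prod.pow_fst]; exact hz
    · rw [Prod.pow_snd, Prod.pow_snd]
      show (s ^ Nat.card S) ^ _ = 1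
      rw [pow_card_eq_one', _root_.one_zpow]
  rw [e] at h2; exact h2

/-- coprime direct products with an abelian factor: the normaliser -/
theorem pm_prod_norm {K S : Type*} [Group K] [CommGroup S] [Finite K] [Finite S]
    (hKS : (Nat.card K).Coprime (Nat.card S)) (H : Subgroup (K × S)) :
    Subgroup.normalizer (H : Set (K × S)) =
      (Subgroup.normalizer ((H.comap (MonoidHom.inl K S) : Subgroup K) : Set K)).comap
        (MonoidHom.fst K S) := by
  ext ⟨x, t⟩
  rw [Subgroup.mem_comap, Subgroup.mem_normalizer_iff, Subgroup.mem_normalizer_iff]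
  have hconj : ∀ (k : K) (s : S), (x, t) * (k, s) * (x, t)⁻¹ = (x * k * x⁻¹, s) := by
    intro k s
    apply Prod.ext
    · rfl
    · show t * s * t⁻¹ = s
      rw [mul_comm t s, mul_assoc, mul_inv_cancel, mul_one]
  have hsplit : ∀ (k : K) (s : S), (k, s) ∈ H ↔ (k, (1 : S)) ∈ H ∧ ((1 : K), s) ∈ H := by
    intro k s
    constructor
    · intro h
      have h1 := pm_prod_mem hKS H k s h
      refine ⟨h1, ?_⟩
      have h2 := H.mul_mem (H.inv_mem h1) h
      have e : (k, (1 : S))⁻¹ * (k, s) = ((1 : K), s) := by
        apply Prod.ext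
        · show k⁻¹ * k = 1
          exact inv_mul_cancel k
        · show (1 : S)⁻¹ * s = s
          rw [inv_one, one_mul]
      rw [e] at h2; exact h2
    · rintro ⟨h1, h2⟩
      have h3 := H.mul_mem h1 h2
      have e : (k, (1 : S)) * ((1 : K), s) = (k, s) := by
        apply Prod.ext
        · show k * 1 = k
          exact mul_one k
        · show 1 * s = s
          exact one_mul s
      rw [e] at h3; exact h3
  constructor
  · intro h k
    have h5 := h (k, 1)
    rw [hconj] at h5
    exact h5
  · rintro h ⟨k, s⟩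
    rw [hconj, hsplit k s, hsplit (x * k * x⁻¹) s]
    have h5 := h k
    constructor
    · rintro ⟨h1, h2⟩
      exact ⟨h5.mp h1, h2⟩
    · rintro ⟨h1, h2⟩
      exact ⟨h5.mpr h1, h2⟩

/-- the main statement for quotients of `SL₂(13)` -/
theorem pm_final {K S : Type*} [Group K] [CommGroup S] [Finite K] [Finite S]
    {F : Type*} [Field F] [Fintype F] (hF : Fintype.card F = 13)
    (φ : SL2 F →* K) (hφ : Function.Surjective φ)
    (hKS : (Nat.card K).Coprime (Nat.card S)) (H : Subgroup (K × S)) (hH : ¬ H.Normal) :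
    IsCoatom (Subgroup.normalizer (H : Set (K × S))) := by
  rw [pm_prod_norm hKS H]
  apply Subgroup.isCoatom_comap_of_surjective Prod.fst_surjective
  apply pm_coatom_of_comap φ hφ
  rw [Subgroup.comap_normalizer_eq_of_surjective _ hφ]
  apply pm_core hF
  intro hn
  apply hH
  have h1 : (H.comap (MonoidHom.inl K S)).Normal := by
    have h5 := hn.map φ hφ
    rw [Subgroup.map_comap_eq_self_of_surjective hφ] at h5
    exact h5
  rw [← Subgroup.normalizer_eq_top_iff, pm_prod_norm hKS H,
    Subgroup.normalizer_eq_top_iff.mpr h1, Subgroup.comap_top]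

end Cfsg.Agent.Helper18.Dickson
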