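import Mathlib

set_option autoImplicit false

namespace Cfsg.Agent.Helper18.O504D2

/-- counting by fibres of constant size -/
theorem card_fib {α β : Type*} [DecidableEq β] (f : α → β) (s : Finset α) (r : Finset β) (c : ℕ)
    (hmap : ∀ x ∈ s, f x ∈ r) (hfib : ∀ b ∈ r, (s.filter (fun a => f a = b)).card = c) :
    s.card = r.card * c := by
  rw [Finset.card_eq_sum_card_fiberwise hmap]
  exact Finset.sum_const_nat hfib

theorem count504 {G : Type*} [Group G] [Finite G] [IsSimpleGroup G] (h : Nat.card G = 504) (t : G)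
    (ht : orderOf t = 2) (T₀ : Sylow 2 G)
    (hT₀ : Subgroup.centralizer ({t} : Set G) = (T₀ : Subgroup G))
    (hconj : ∀ u : G, orderOf u = 2 → ∃ g : G, g * t * g⁻¹ = u)
    (hsq : ∀ g ∈ (T₀ : Subgroup G), g ^ 2 = 1 ∨ g ^ 2 = t) (v : G) (hv : v ^ 2 = t) : False := by
  classical
  haveI : Fintype G := Fintype.ofFinite G
  have hcardG : Fintype.card G = 504 := by rw [← Nat.card_eq_fintype_card]; exact h
  have ht1 : t ≠ 1 := by rintro rfl; simp at ht
  have ht2 : t ^ 2 = 1 := by rw [← ht]; exact pow_orderOf_eq_one t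
  have hmemC : ∀ a : G, a ∈ (T₀ : Subgroup G) ↔ a * t = t * a := by
    intro a
    rw [← hT₀, Subgroup.mem_centralizer_iff]
    constructor
    · intro hh; exact (hh t (Set.mem_singleton t)).symm
    · intro hh y hy
      rw [Set.mem_singleton_iff] at hy
      subst hy
      exact hh.symm
  have hT8 : Nat.card (T₀ : Subgroup G) = 8 := by
    have : Fact (Nat.Prime 2) := ⟨Nat.prime_two⟩
    rw [Sylow.card_eq_multiplicity, h]
    have hf : (504 : ℕ).factorization 2 = 3 := by
      have e : (504 : ℕ) = 2 ^ 3 * 63 := by norm_num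
      rw [e, Nat.factorization_mul (by norm_num) (by norm_num), Nat.factorization_pow]
      have h63 : (63 : ℕ).factorization 2 = 0 :=
        Nat.factorization_eq_zero_of_not_dvd (by norm_num)
      simp [h63, Nat.prime_two.factorization_self]
    rw [hf]; norm_num
  have hCfin : (Finset.univ.filter (fun c : G => c * t = t * c)).card = 8 := by
    rw [← Fintype.card_subtype, ← Nat.card_eq_fintype_card, ← hT8]
    exact Nat.card_congr (Equiv.subtypeEquivRight (fun c => (hmemC c).symm))
  -- F1
  have F1 : ∀ u a : G, orderOf u = 2 → a * u = u * a → a ^ 2 = 1 ∨ a ^ 2 = u := by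
    intro u a hu hau
    obtain ⟨g, rfl⟩ := hconj u hu
    have hmem : g⁻¹ * a * g ∈ (T₀ : Subgroup G) := by
      rw [hmemC]
      have e1 : g⁻¹ * a * g * t = g⁻¹ * (a * (g * t * g⁻¹)) * g := by group
      have e2 : t * (g⁻¹ * a * g) = g⁻¹ * ((g * t * g⁻¹) * a) * g := by group
      rw [e1, e2, hau]
    have e : a ^ 2 = g * (g⁻¹ * a * g) ^ 2 * g⁻¹ := by rw [pow_two, pow_two]; group
    rcases hsq _ hmem with h1 | h1
    · left
      rw [e, h1]; group
    · right
      rw [e, h1]
  -- F2
  have F2 : ∀ s a : G, s ∈ (T₀ : Subgroup G) → s ≠ 1 → s * a * s⁻¹ = a → a ^ 4 = 1 := by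
    intro s a hsT hs1 hsa
    have hsa' : s * a = a * s := mul_inv_eq_iff_eq_mul.mp hsa
    have hc : Commute a s := hsa'.symm
    have key : ∀ u : G, orderOf u = 2 → a * u = u * a → a ^ 4 = 1 := by
      intro u hu hau
      have hu2 : u ^ 2 = 1 := by rw [← hu]; exact pow_orderOf_eq_one u
      have e4 : a ^ 4 = (a ^ 2) ^ 2 := by rw [← pow_mul]
      rcases F1 u a hu hau with h1 | h1
      · rw [e4, h1, one_pow]
      · rw [e4, h1, hu2]
    rcases hsq s hsT with h1 | h1
    · exact key s (orderOf_eq_prime h1 hs1) hc.eq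
    · refine key t ht ?_
      have hc2 : Commute a (s ^ 2) := hc.pow_right 2
      rw [h1] at hc2
      exact hc2.eq
  -- the action
  let act : MulAction (T₀ : Subgroup G) {a : G // a ^ 4 ≠ 1} :=
    { smul := fun s a => ⟨(s : G) * a.1 * (s : G)⁻¹, by
        intro hh
        apply a.2
        have e : ((s : G) * a.1 * (s : G)⁻¹) ^ 4 = (s : G) * a.1 ^ 4 * (s : G)⁻¹ := conj_pow
        rw [e] at hh
        have e' : a.1 ^ 4 = (s : G)⁻¹ * ((s : G) * a.1 ^ 4 * (s : G)⁻¹) * (s : G) := by group
        rw [e', hh]; group⟩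
      one_smul := fun a => by
        apply Subtype.ext
        show ((1 : (T₀ : Subgroup G)) : G) * a.1 * ((1 : (T₀ : Subgroup G)) : G)⁻¹ = a.1
        simp
      mul_smul := fun s s' a => by
        apply Subtype.ext
        show ((s * s' : (T₀ : Subgroup G)) : G) * a.1 * ((s * s' : (T₀ : Subgroup G)) : G)⁻¹ =
          (s : G) * ((s' : G) * a.1 * (s' : G)⁻¹) * (s : G)⁻¹
        simp [mul_assoc] }
  have F3 : 8 ∣ Nat.card {a : G // a ^ 4 ≠ 1} := by
    letI := act
    have e := MulAction.selfEquivSigmaOrbitsQuotientStabilizer (T₀ : Subgroup G)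
      {a : G // a ^ 4 ≠ 1}
    haveI : Fintype (Quotient (MulAction.orbitRel (T₀ : Subgroup G) {a : G // a ^ 4 ≠ 1})) :=
      Fintype.ofFinite _
    rw [Nat.card_congr e, Nat.card_sigma]
    apply Finset.dvd_sum
    intro ω _
    have hstab : MulAction.stabilizer (T₀ : Subgroup G) (Quotient.out ω) = ⊥ := by
      rw [eq_bot_iff]
      intro s hs
      rw [MulAction.mem_stabilizer_iff] at hs
      rw [Subgroup.mem_bot]
      by_contra hs1
      have h1 : (s : G) * (Quotient.out ω).1 * (s : G)⁻¹ = (Quotient.out ω).1 :=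
        congrArg Subtype.val hs
      exact (Quotient.out ω).2 (F2 s _ s.2 (fun hh => hs1 (Subtype.ext hh)) h1)
    rw [hstab, ← Subgroup.index_eq_card, Subgroup.index_bot, hT8]
  -- the finsets
  obtain ⟨I, hI⟩ : ∃ I : Finset G, I = Finset.univ.filter (fun a : G => orderOf a = 2) := ⟨_, rfl⟩
  obtain ⟨R, hR⟩ : ∃ R : Finset G, R = Finset.univ.filter (fun a : G => orderOf (a ^ 2) = 2) :=
    ⟨_, rfl⟩
  obtain ⟨K, hK⟩ : ∃ K : Finset G, K = Finset.univ.filter (fun a : G => a ^ 2 = t) := ⟨_, rfl⟩
  have hIcard : I.card = 63 := by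
    have h1 : (Finset.univ : Finset G).card = I.card * 8 := by
      apply card_fib (fun g : G => g * t * g⁻¹)
      · intro g _
        rw [hI, Finset.mem_filter]
        refine ⟨Finset.mem_univ _, ?_⟩
        show orderOf (MulAut.conj g t) = 2
        rw [MulEquiv.orderOf_eq]
        exact ht
      · intro u hu
        rw [hI, Finset.mem_filter] at hu
        obtain ⟨g0, rfl⟩ := hconj u hu.2
        rw [← hCfin]
        apply Finset.card_nbij' (fun g => g0⁻¹ * g) (fun c => g0 * c)
        · intro g hg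
          rw [Finset.mem_coe, Finset.mem_filter] at hg ⊢
          refine ⟨Finset.mem_univ _, ?_⟩
          have h2 := hg.2
          have e1 : g0⁻¹ * g * t = g0⁻¹ * (g * t * g⁻¹) * g := by group
          rw [e1, h2]; group
        · intro c hc
          rw [Finset.mem_coe, Finset.mem_filter] at hc ⊢
          refine ⟨Finset.mem_univ _, ?_⟩
          have h2 := hc.2
          have e1 : g0 * c * t * (g0 * c)⁻¹ = g0 * (c * t) * c⁻¹ * g0⁻¹ := by group
          rw [e1, h2]; group
        · intro g _; simp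
        · intro c _; simp
    rw [Finset.card_univ, hcardG] at h1
    omega
  have hRcard : R.card = I.card * K.card := by
    apply card_fib (fun a : G => a ^ 2)
    · intro a ha
      rw [hR, Finset.mem_filter] at ha
      rw [hI, Finset.mem_filter]
      exact ⟨Finset.mem_univ _, ha.2⟩
    · intro u hu
      rw [hI, Finset.mem_filter] at hu
      obtain ⟨g0, rfl⟩ := hconj u hu.2
      apply Finset.card_nbij' (fun a => g0⁻¹ * a * g0) (fun b => g0 * b * g0⁻¹)
      · intro a ha
        rw [Finset.mem_coe, Finset.mem_filter] at ha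
        rw [Finset.mem_coe, hK, Finset.mem_filter]
        refine ⟨Finset.mem_univ _, ?_⟩
        have h2 : a ^ 2 = g0 * t * g0⁻¹ := ha.2
        have e1 : (g0⁻¹ * a * g0) ^ 2 = g0⁻¹ * a ^ 2 * g0 := by rw [pow_two, pow_two]; group
        rw [e1, h2]; group
      · intro b hb
        rw [Finset.mem_coe, hK, Finset.mem_filter] at hb
        have e1 : (g0 * b * g0⁻¹) ^ 2 = g0 * b ^ 2 * g0⁻¹ := conj_pow
        rw [Finset.mem_coe, Finset.mem_filter, hR, Finset.mem_filter]
        refine ⟨⟨Finset.mem_univ _, ?_⟩, ?_⟩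
        · rw [e1, hb.2]; exact hu.2
        · show (g0 * b * g0⁻¹) ^ 2 = g0 * t * g0⁻¹
          rw [e1, hb.2]
      · intro a _; show g0 * (g0⁻¹ * a * g0) * g0⁻¹ = a; group
      · intro b _; show g0⁻¹ * (g0 * b * g0⁻¹) * g0 = b; group
  -- bounds on K
  have hK1 : 1 ≤ K.card := by
    apply Finset.card_pos.mpr
    exact ⟨v, by rw [hK, Finset.mem_filter]; exact ⟨Finset.mem_univ _, hv⟩⟩
  have hK6 : K.card ≤ 6 := by
    have hsub : K ⊆ (Finset.univ.filter (fun c : G => c * t = t * c)) \ {1, t} := by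
      intro a ha
      rw [hK, Finset.mem_filter] at ha
      have ha2 := ha.2
      rw [Finset.mem_sdiff, Finset.mem_filter]
      refine ⟨⟨Finset.mem_univ _, ?_⟩, ?_⟩
      · rw [← ha2, pow_two, mul_assoc]
      · intro hmem
        rw [Finset.mem_insert, Finset.mem_singleton] at hmem
        rcases hmem with rfl | rfl
        · rw [one_pow] at ha2; exact ht1 ha2.symm
        · rw [ht2] at ha2; exact ht1 ha2.symm
    have h2 : ({1, t} : Finset G) ⊆ Finset.univ.filter (fun c : G => c * t = t * c) := by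
      intro a ha
      rw [Finset.mem_insert, Finset.mem_singleton] at ha
      rw [Finset.mem_filter]
      refine ⟨Finset.mem_univ _, ?_⟩
      rcases ha with rfl | rfl
      · simp
      · rfl
    have h3 := Finset.card_le_card hsub
    rw [Finset.card_sdiff_of_subset h2, hCfin, Finset.card_pair (Ne.symm ht1)] at h3
    omega
  -- the partition
  have hZ : (Finset.univ.filter (fun a : G => a ^ 4 = 1)) = insert 1 (I ∪ R) := by
    ext a
    rw [Finset.mem_filter, Finset.mem_insert, Finset.mem_union, hI, hR, Finset.mem_filter,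
      Finset.mem_filter]
    constructor
    · rintro ⟨_, ha4⟩
      by_cases ha2 : a ^ 2 = 1
      · by_cases ha1 : a = 1
        · exact Or.inl ha1
        · exact Or.inr (Or.inl ⟨Finset.mem_univ _, orderOf_eq_prime ha2 ha1⟩)
      · refine Or.inr (Or.inr ⟨Finset.mem_univ _, orderOf_eq_prime ?_ ha2⟩)
        rw [← pow_mul]; exact ha4
    · rintro (rfl | ⟨_, ha⟩ | ⟨_, ha⟩)
      · exact ⟨Finset.mem_univ _, one_pow 4⟩
      · refine ⟨Finset.mem_univ _, ?_⟩
        have : a ^ 2 = 1 := by rw [← ha]; exact pow_orderOf_eq_one a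
        have e4 : a ^ 4 = (a ^ 2) ^ 2 := by rw [← pow_mul]
        rw [e4, this, one_pow]
      · refine ⟨Finset.mem_univ _, ?_⟩
        have : (a ^ 2) ^ 2 = 1 := by
          have h5 := pow_orderOf_eq_one (a ^ 2)
          rw [ha] at h5
          exact h5
        have e4 : a ^ 4 = (a ^ 2) ^ 2 := by rw [← pow_mul]
        rw [e4, this]
  have hdisj : Disjoint I R := by
    rw [hI, hR]
    apply Finset.disjoint_filter.mpr
    intro a _ h1 h2
    have : a ^ 2 = 1 := by rw [← h1]; exact pow_orderOf_eq_one a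
    rw [this, orderOf_one] at h2
    norm_num at h2
  have h1not : (1 : G) ∉ I ∪ R := by
    rw [Finset.mem_union, hI, hR, Finset.mem_filter, Finset.mem_filter]
    rintro (⟨_, h1⟩ | ⟨_, h1⟩)
    · rw [orderOf_one] at h1; norm_num at h1
    · rw [one_pow, orderOf_one] at h1; norm_num at h1
  have hZcard : (Finset.univ.filter (fun a : G => a ^ 4 = 1)).card = 1 + (I.card + R.card) := by
    rw [hZ, Finset.card_insert_of_notMem h1not, Finset.card_union_of_disjoint hdisj]
    ring
  have hsplit := Finset.card_filter_add_card_filter_not (s := (Finset.univ : Finset G))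
    (fun a : G => a ^ 4 = 1)
  rw [Finset.card_univ, hcardG] at hsplit
  have hY : Nat.card {a : G // a ^ 4 ≠ 1} =
      (Finset.univ.filter (fun a : G => ¬ a ^ 4 = 1)).card := by
    rw [Nat.card_eq_fintype_card, Fintype.card_subtype]
  rw [hY] at F3
  rw [hIcard] at hRcard hZcard
  omega

end Cfsg.Agent.Helper18.O504D2
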