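import Mathlib
import Cfsg.Prelude.Def_GeometricClasses
import Cfsg.Agent.Helper4.OrthPlane

set_option autoImplicit false

namespace Cfsg.Agent.Helper18.OmMc

open Matrix
open Cfsg.Agent.Helper4.OrthPlane

variable {ι : Type} [Fintype ι] [DecidableEq ι] {F : Type*} [Field F] [Fintype F]

/-- Every element of a finite field of characteristic 2 is a square. -/
theorem exists_sq (hch : (2 : F) = 0) (a : F) : ∃ s : F, s ^ 2 = a := by
  have hinj : Function.Injective (fun x : F => x ^ 2) := by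
    intro x y h
    have h' : x ^ 2 = y ^ 2 := h
    have h1 : (x - y) * (x - y) = 0 := by linear_combination h' - (x * y - y ^ 2) * hch
    exact sub_eq_zero.mp (mul_self_eq_zero.mp h1)
  exact (Finite.injective_iff_surjective.mp hinj) a

/-- A non-zero singular vector killed by `k` given functionals (`k + 2 < dim`). -/
theorem sing_perp (Q : (ι → F) → F) (hQ : Cfsg.Geo.IsNondegenerateQuadraticForm Q)
    (hch : (2 : F) = 0) (k : ℕ) (φ : Fin k → ((ι → F) →ₗ[F] F))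
    (hk : k + 2 < Fintype.card ι) : ∃ e : ι → F, e ≠ 0 ∧ Q e = 0 ∧ ∀ j, φ j e = 0 := by
  obtain ⟨u, hu0, hu⟩ := exists_ker k φ (by omega)
  by_cases hQu : Q u = 0
  · exact ⟨u, hu0, hQu, hu⟩
  · obtain ⟨y, hy⟩ := (hQ.nondegenerate u hu0).2
    have hyu : Bf Q hQ y u ≠ 0 := by rw [Bf_symm]; exact hy
    obtain ⟨w, hw0, hw⟩ := exists_ker (k + 2)
      (fun j : Fin (k + 2) => if h : (j : ℕ) < k then φ ⟨j, h⟩
        else if (j : ℕ) = k then Bf Q hQ u else Bf Q hQ y) hk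
    have hwφ : ∀ j, φ j w = 0 := by
      intro j
      have h1 := hw ⟨j, by omega⟩
      simpa [j.2] using h1
    have hwu : Bf Q hQ u w = 0 := by
      have h1 := hw ⟨k, by omega⟩
      simpa using h1
    have hwy : Bf Q hQ y w = 0 := by
      have h1 := hw ⟨k + 1, by omega⟩
      simpa using h1
    obtain ⟨s, hs⟩ := exists_sq hch (Q w / Q u)
    refine ⟨s • u + w, ?_, ?_, ?_⟩
    · intro h0
      have hw' : w = -(s • u) := by
        rw [eq_neg_iff_add_eq_zero, add_comm]; exact h0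
      have h1 : Bf Q hQ y w = -(s * Bf Q hQ y u) := by
        rw [hw', map_neg, map_smul, smul_eq_mul]
      rw [hwy] at h1
      have hs0 : s = 0 := by
        have h2 : s * Bf Q hQ y u = 0 := by linear_combination h1
        rcases mul_eq_zero.mp h2 with h | h
        · exact h
        · exact absurd h hyu
      apply hw0
      rw [hw', hs0, zero_smul, neg_zero]
    · rw [Q_add Q hQ, hQ.smul, map_smul, LinearMap.smul_apply, hwu, hs, div_mul_cancel₀ _ hQu,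
        smul_zero, add_zero]
      linear_combination Q w * hch
    · intro j
      rw [map_add, map_smul, hu j, hwφ j, smul_zero, add_zero]

/-- A singular partner `f` of a non-zero singular `e`, orthogonal to a set `S` that `e` is
orthogonal to, given a projection-like map `π` onto the perp of `S`. -/
theorem partner (Q : (ι → F) → F) (hQ : Cfsg.Geo.IsNondegenerateQuadraticForm Q)
    (hch : (2 : F) = 0) (e : ι → F) (he0 : e ≠ 0) (hQe : Q e = 0) (S : Set (ι → F))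
    (heS : ∀ p ∈ S, Bf Q hQ e p = 0) (π : (ι → F) → (ι → F))
    (hπ1 : ∀ y, ∀ p ∈ S, Bf Q hQ (π y) p = 0) (hπ2 : ∀ y, Bf Q hQ e (π y) = Bf Q hQ e y) :
    ∃ f : ι → F, Q f = 0 ∧ Bf Q hQ e f = 1 ∧ ∀ p ∈ S, Bf Q hQ f p = 0 := by
  obtain ⟨y0, hy0⟩ := (hQ.nondegenerate e he0).2
  have hy0' : Bf Q hQ e y0 ≠ 0 := hy0
  obtain ⟨y, hy⟩ : ∃ y : ι → F, y = (Bf Q hQ e y0)⁻¹ • π y0 := ⟨_, rfl⟩
  have hey : Bf Q hQ e y = 1 := by
    rw [hy, map_smul, smul_eq_mul, hπ2, inv_mul_cancel₀ hy0']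
  have hyS : ∀ p ∈ S, Bf Q hQ y p = 0 := by
    intro p hp
    rw [hy, map_smul, LinearMap.smul_apply, hπ1 y0 p hp, smul_zero]
  have hee : Bf Q hQ e e = 0 := by rw [Bf_self, hQe, mul_zero]
  refine ⟨y + Q y • e, ?_, ?_, ?_⟩
  · rw [Q_add_smul Q hQ, hQe, Bf_symm Q hQ y e, hey]
    linear_combination Q y * hch
  · rw [map_add, map_smul, hee, hey, smul_zero, add_zero]
  · intro p hp
    rw [map_add, map_smul, LinearMap.add_apply, LinearMap.smul_apply, hyS p hp, heS p hp,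
      smul_zero, add_zero]

/-- (M2a of S5691) Three mutually orthogonal hyperbolic pairs in a nondegenerate quadratic space
of dimension at least 8 over a finite field of characteristic 2. -/
theorem exists_frame3 (Q : (ι → F) → F) (hQ : Cfsg.Geo.IsNondegenerateQuadraticForm Q)
    (hch : (2 : F) = 0) (hn : 8 ≤ Fintype.card ι) :
    ∃ e₁ f₁ e₂ f₂ e₃ f₃ : ι → F, Q e₁ = 0 ∧ Q f₁ = 0 ∧ Q e₂ = 0 ∧ Q f₂ = 0 ∧ Q e₃ = 0 ∧
      Q f₃ = 0 ∧ Bf Q hQ e₁ f₁ = 1 ∧ Bf Q hQ e₂ f₂ = 1 ∧ Bf Q hQ e₃ f₃ = 1 ∧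
      Bf Q hQ e₁ e₂ = 0 ∧ Bf Q hQ e₁ f₂ = 0 ∧ Bf Q hQ f₁ e₂ = 0 ∧ Bf Q hQ f₁ f₂ = 0 ∧
      Bf Q hQ e₁ e₃ = 0 ∧ Bf Q hQ e₁ f₃ = 0 ∧ Bf Q hQ f₁ e₃ = 0 ∧ Bf Q hQ f₁ f₃ = 0 ∧
      Bf Q hQ e₂ e₃ = 0 ∧ Bf Q hQ e₂ f₃ = 0 ∧ Bf Q hQ f₂ e₃ = 0 ∧ Bf Q hQ f₂ f₃ = 0 := by
  have hs : ∀ w : ι → F, Q w = 0 → Bf Q hQ w w = 0 := by
    intro w hw; rw [Bf_self, hw, mul_zero]
  -- first pair
  obtain ⟨e₁, he₁0, he₁, -⟩ := sing_perp Q hQ hch 0 (fun j => j.elim0) (by omega)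
  obtain ⟨f₁, hf₁, h11, -⟩ := partner Q hQ hch e₁ he₁0 he₁ ∅ (fun p hp => absurd hp (by simp))
    id (fun y p hp => absurd hp (by simp)) (fun y => rfl)
  have h11' : Bf Q hQ f₁ e₁ = 1 := by rw [Bf_symm, h11]
  have s1 := hs e₁ he₁
  have s2 := hs f₁ hf₁
  -- second pair
  obtain ⟨e₂, he₂0, he₂, h2⟩ := sing_perp Q hQ hch 2 ![Bf Q hQ e₁, Bf Q hQ f₁] (by omega)
  have hee12 : Bf Q hQ e₁ e₂ = 0 := by simpa using h2 0
  have hfe12 : Bf Q hQ f₁ e₂ = 0 := by simpa using h2 1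
  have hee12' : Bf Q hQ e₂ e₁ = 0 := by rw [Bf_symm, hee12]
  have hfe12' : Bf Q hQ e₂ f₁ = 0 := by rw [Bf_symm, hfe12]
  obtain ⟨f₂, hf₂, h22, hf₂S⟩ := partner Q hQ hch e₂ he₂0 he₂ {e₁, f₁}
    (by
      intro p hp
      simp only [Set.mem_insert_iff, Set.mem_singleton_iff] at hp
      rcases hp with rfl | rfl
      · exact hee12'
      · exact hfe12')
    (fun y => y - Bf Q hQ y f₁ • e₁ - Bf Q hQ y e₁ • f₁)
    (by
      intro y p hp
      simp only [Set.mem_insert_iff, Set.mem_singleton_iff] at hp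
      rcases hp with rfl | rfl
      · simp only [map_sub, map_smul, LinearMap.sub_apply, LinearMap.smul_apply, smul_eq_mul,
          s1, h11']
        ring
      · simp only [map_sub, map_smul, LinearMap.sub_apply, LinearMap.smul_apply, smul_eq_mul,
          s2, h11]
        ring)
    (by
      intro y
      simp only [map_sub, map_smul, smul_eq_mul, hee12', hfe12']
      ring)
  have h22' : Bf Q hQ f₂ e₂ = 1 := by rw [Bf_symm, h22]
  have hef12' : Bf Q hQ f₂ e₁ = 0 := hf₂S e₁ (by simp)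
  have hff12' : Bf Q hQ f₂ f₁ = 0 := hf₂S f₁ (by simp)
  have hef12 : Bf Q hQ e₁ f₂ = 0 := by rw [Bf_symm, hef12']
  have hff12 : Bf Q hQ f₁ f₂ = 0 := by rw [Bf_symm, hff12']
  have s3 := hs e₂ he₂
  have s4 := hs f₂ hf₂
  -- third pair
  obtain ⟨e₃, he₃0, he₃, h3⟩ := sing_perp Q hQ hch 4
    ![Bf Q hQ e₁, Bf Q hQ f₁, Bf Q hQ e₂, Bf Q hQ f₂] (by omega)
  have hee13 : Bf Q hQ e₁ e₃ = 0 := by simpa using h3 0
  have hfe13 : Bf Q hQ f₁ e₃ = 0 := by simpa using h3 1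
  have hee23 : Bf Q hQ e₂ e₃ = 0 := by simpa using h3 2
  have hfe23 : Bf Q hQ f₂ e₃ = 0 := by simpa using h3 3
  have hee13' : Bf Q hQ e₃ e₁ = 0 := by rw [Bf_symm, hee13]
  have hfe13' : Bf Q hQ e₃ f₁ = 0 := by rw [Bf_symm, hfe13]
  have hee23' : Bf Q hQ e₃ e₂ = 0 := by rw [Bf_symm, hee23]
  have hfe23' : Bf Q hQ e₃ f₂ = 0 := by rw [Bf_symm, hfe23]
  obtain ⟨f₃, hf₃, h33, hf₃S⟩ := partner Q hQ hch e₃ he₃0 he₃ {e₁, f₁, e₂, f₂}
    (by
      intro p hp
      simp only [Set.mem_insert_iff, Set.mem_singleton_iff] at hp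
      rcases hp with rfl | rfl | rfl | rfl
      · exact hee13'
      · exact hfe13'
      · exact hee23'
      · exact hfe23')
    (fun y => y - Bf Q hQ y f₁ • e₁ - Bf Q hQ y e₁ • f₁ - Bf Q hQ y f₂ • e₂ - Bf Q hQ y e₂ • f₂)
    (by
      intro y p hp
      simp only [Set.mem_insert_iff, Set.mem_singleton_iff] at hp
      rcases hp with rfl | rfl | rfl | rfl
      · simp only [map_sub, map_smul, LinearMap.sub_apply, LinearMap.smul_apply, smul_eq_mul,
          s1, h11', hee12', hef12']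
        ring
      · simp only [map_sub, map_smul, LinearMap.sub_apply, LinearMap.smul_apply, smul_eq_mul,
          s2, h11, hfe12', hff12']
        ring
      · simp only [map_sub, map_smul, LinearMap.sub_apply, LinearMap.smul_apply, smul_eq_mul,
          s3, h22', hee12, hfe12]
        ring
      · simp only [map_sub, map_smul, LinearMap.sub_apply, LinearMap.smul_apply, smul_eq_mul,
          s4, h22, hef12, hff12]
        ring)
    (by
      intro y
      simp only [map_sub, map_smul, smul_eq_mul, hee13', hfe13', hee23', hfe23']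
      ring)
  have hef13 : Bf Q hQ e₁ f₃ = 0 := by rw [Bf_symm]; exact hf₃S e₁ (by simp)
  have hff13 : Bf Q hQ f₁ f₃ = 0 := by rw [Bf_symm]; exact hf₃S f₁ (by simp)
  have hef23 : Bf Q hQ e₂ f₃ = 0 := by rw [Bf_symm]; exact hf₃S e₂ (by simp)
  have hff23 : Bf Q hQ f₂ f₃ = 0 := by rw [Bf_symm]; exact hf₃S f₂ (by simp)
  exact ⟨e₁, f₁, e₂, f₂, e₃, f₃, he₁, hf₁, he₂, hf₂, he₃, hf₃, h11, h22, h33,
    hee12, hef12, hfe12, hff12, hee13, hef13, hfe13, hff13, hee23, hef23, hfe23, hff23⟩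

end Cfsg.Agent.Helper18.OmMc
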