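import Mathlib
import Cfsg.Prelude.Def_GeometricClasses
import Cfsg.Agent.Helper4.OrthPlane
import Cfsg.Agent.Helper18.OmMc
import Cfsg.Agent.Helper18.OmMd

set_option autoImplicit false

namespace Cfsg.Agent.Helper18.OmMd

open Matrix
open Cfsg.Agent.Helper4.OrthPlane

variable {ι : Type} [Fintype ι] [DecidableEq ι] {F : Type*} [Field F] [Fintype F]

/-- (M2b of S5691) In a nondegenerate quadratic space of dimension at least 8 over a finite field
of characteristic 2 there is, for all `lam mu`, a triangle of norm-1 vectors with sides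
`lam, lam, mu`. -/
theorem exists_triangle (Q : (ι → F) → F) (hQ : Cfsg.Geo.IsNondegenerateQuadraticForm Q)
    (hch : (2 : F) = 0) (hn : 8 ≤ Fintype.card ι) (lam mu : F) :
    ∃ a b c : ι → F, Q a = 1 ∧ Q b = 1 ∧ Q c = 1 ∧ a ≠ c ∧ c ≠ b ∧ a ≠ b ∧
      Bf Q hQ a c = lam ∧ Bf Q hQ c b = lam ∧ Bf Q hQ a b = mu :=
  triangle_of_frame Q hQ hch (Cfsg.Agent.Helper18.OmMc.exists_frame3 Q hQ hch hn) lam mu

end Cfsg.Agent.Helper18.OmMd
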