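import Mathlib

/-!
Prime graph helpers: a group `Q⟨y⟩` (`Q` a `q`-group normalised by `y` of prime order `r`)
normalising a nontrivial `p`-group forces an element of order `pq`, `pr` or `qr`.
-/

set_option autoImplicit false

namespace Cfsg.Agent.Helper18

section orders

theorem dvd_orderOf_of_isPGroup {H : Type*} [Group H] {p : ℕ} (hp : p.Prime) {P : Subgroup H}
    (hP : IsPGroup p P) {v : H} (hv : v ∈ P) (hv1 : v ≠ 1) : p ∣ orderOf v := by
  obtain ⟨j, hj⟩ := hP ⟨v, hv⟩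
  have hj' : v ^ p ^ j = 1 := by
    have := congrArg Subtype.val hj
    simpa using this
  have hord : orderOf v ∣ p ^ j := orderOf_dvd_of_pow_eq_one hj'
  obtain ⟨m, hm, hm2⟩ := (Nat.dvd_prime_pow hp).mp hord
  rw [hm2]
  have hm0 : m ≠ 0 := by
    rintro rfl
    rw [pow_zero] at hm2
    exact hv1 (orderOf_eq_one_iff.mp hm2)
  exact dvd_pow_self p hm0

theorem exists_orderOf_mul {H : Type*} [Group H] [Finite H] {p q : ℕ} (hp : p.Prime)
    (hq : q.Prime) (hpq : p ≠ q) (v b : H) (hv : p ∣ orderOf v) (hb : q ∣ orderOf b)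
    (hcomm : Commute v b) : ∃ x : H, orderOf x = p * q := by
  have h1 : orderOf (v ^ (orderOf v / p)) = p := orderOf_pow_orderOf_div (orderOf_pos v).ne' hv
  have h2 : orderOf (b ^ (orderOf b / q)) = q := orderOf_pow_orderOf_div (orderOf_pos b).ne' hb
  have hc : Commute (v ^ (orderOf v / p)) (b ^ (orderOf b / q)) := hcomm.pow_pow _ _
  refine ⟨v ^ (orderOf v / p) * b ^ (orderOf b / q), ?_⟩
  rw [hc.orderOf_mul_eq_mul_orderOf_of_coprime
    (by rw [h1, h2]; exact (Nat.coprime_primes hp hq).mpr hpq), h1, h2]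

theorem exists_orderOf_of_dvd {H : Type*} [Group H] [Finite H] (x : H) (n : ℕ)
    (h : n ∣ orderOf x) : ∃ z : H, orderOf z = n :=
  ⟨x ^ (orderOf x / n), orderOf_pow_orderOf_div (orderOf_pos x).ne' h⟩

end orders

section norm

theorem prod_conj_eq_one {T A : Type*} [Group T] [CommGroup A] (φ : T →* MulAut A)
    (Q : Subgroup T) [Fintype Q] (Y : T)
    (hYQ : ∀ a ∈ Q, Y * a * Y⁻¹ ∈ Q)
    (hcen : ∀ a ∈ Q, a * Y = Y * a → a = 1)
    (h1 : ∀ w : A, ∏ a : Q, φ (a : T) w = 1) (v : A) :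
    ∏ a : Q, φ ((a : T)⁻¹ * Y * a) v = 1 := by
  classical
  let σ : Q → Q := fun a => ⟨(a : T)⁻¹ * (Y * a * Y⁻¹), Q.mul_mem (Q.inv_mem a.2) (hYQ a a.2)⟩
  have hσinj : Function.Injective σ := by
    intro a b hab
    have h : (a : T)⁻¹ * (Y * a * Y⁻¹) = (b : T)⁻¹ * (Y * b * Y⁻¹) := congrArg Subtype.val hab
    have hc : ((b : T) * (a : T)⁻¹) * Y = Y * ((b : T) * (a : T)⁻¹) := by
      calc ((b : T) * (a : T)⁻¹) * Y
          = (b : T) * ((a : T)⁻¹ * (Y * a * Y⁻¹)) * (Y * (a : T)⁻¹) := by group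
        _ = (b : T) * ((b : T)⁻¹ * (Y * b * Y⁻¹)) * (Y * (a : T)⁻¹) := by rw [h]
        _ = Y * ((b : T) * (a : T)⁻¹) := by group
    have h4 := hcen ((b : T) * (a : T)⁻¹) (Q.mul_mem b.2 (Q.inv_mem a.2)) hc
    exact Subtype.ext (mul_inv_eq_one.mp h4).symm
  have hσbij : Function.Bijective σ := Finite.injective_iff_bijective.mp hσinj
  have e : ∏ a : Q, φ ((a : T)⁻¹ * Y * a) v = ∏ a : Q, φ ((σ a : Q) : T) (φ Y v) := by
    apply Finset.prod_congr rfl
    intro a _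
    have e1 : (a : T)⁻¹ * Y * a = ((σ a : Q) : T) * Y := by
      show _ = (a : T)⁻¹ * (Y * a * Y⁻¹) * Y
      group
    rw [e1, map_mul, MulAut.mul_apply]
  rw [e, hσbij.prod_comp (fun c : Q => φ (c : T) (φ Y v))]
  exact h1 _

theorem norm_lemma {T A : Type*} [Group T] [CommGroup A] (φ : T →* MulAut A)
    (Q : Subgroup T) [Fintype Q] (y : T) (r : ℕ) (hr : 0 < r)
    (hyQ : ∀ a ∈ Q, y * a * y⁻¹ ∈ Q)
    (h1 : ∀ w : A, ∏ a : Q, φ (a : T) w = 1)
    (h2 : ∀ w : A, ∏ i ∈ Finset.range r, φ (y ^ i) w = 1)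
    (h3 : ∀ i, 0 < i → i < r → ∀ a ∈ Q, a * y ^ i = y ^ i * a → a = 1) (v : A) :
    v ^ Fintype.card Q = 1 := by
  classical
  have hyQi : ∀ (i : ℕ), ∀ a ∈ Q, y ^ i * a * (y ^ i)⁻¹ ∈ Q := by
    intro i
    induction i with
    | zero => intro a ha; simpa using ha
    | succ i ih =>
      intro a ha
      have h := hyQ _ (ih a ha)
      have e : y ^ (i + 1) * a * (y ^ (i + 1))⁻¹ = y * (y ^ i * a * (y ^ i)⁻¹) * y⁻¹ := by
        rw [pow_succ']; group
      rw [e]; exact h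
  have key : ∏ a : Q, ∏ i ∈ Finset.range r, φ ((a : T)⁻¹ * y ^ i * a) v = 1 := by
    apply Finset.prod_eq_one
    intro a _
    have e : ∏ i ∈ Finset.range r, φ ((a : T)⁻¹ * y ^ i * a) v
        = φ (a : T)⁻¹ (∏ i ∈ Finset.range r, φ (y ^ i) (φ (a : T) v)) := by
      rw [map_prod]
      apply Finset.prod_congr rfl
      intro i _
      rw [map_mul, map_mul, MulAut.mul_apply, MulAut.mul_apply]
    rw [e, h2, map_one]
  rw [Finset.prod_comm] at key
  obtain ⟨r', rfl⟩ : ∃ r', r = r' + 1 := ⟨r - 1, by omega⟩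
  rw [Finset.prod_range_succ'] at key
  have hz : ∏ a : Q, φ ((a : T)⁻¹ * y ^ 0 * a) v = v ^ Fintype.card Q := by
    simp
  have hrest : ∀ i ∈ Finset.range r', ∏ a : Q, φ ((a : T)⁻¹ * y ^ (i + 1) * a) v = 1 := by
    intro i hi
    have hi' : i < r' := Finset.mem_range.mp hi
    exact prod_conj_eq_one φ Q (y ^ (i + 1)) (hyQi (i + 1))
      (h3 (i + 1) (by omega) (by omega)) h1 v
  rw [Finset.prod_eq_one hrest, one_mul, hz] at key
  exact key

theorem frob_lemma {T A : Type*} [Group T] [Finite T] [CommGroup A] (φ : T →* MulAut A)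
    (Q : Subgroup T) (y : T) (p q r : ℕ) (hp : p.Prime) (hq : q.Prime) (hr : r.Prime)
    (hpq : p ≠ q) (hqr : q ≠ r)
    (hQ : IsPGroup q Q) (hQ1 : Q ≠ ⊥) (hy : orderOf y = r) (hyQ : ∀ a ∈ Q, y * a * y⁻¹ ∈ Q)
    (hA : IsPGroup p A) (hA1 : Nontrivial A) :
    (∃ b : T, orderOf b = q ∧ ∃ v : A, v ≠ 1 ∧ φ b v = v) ∨
    (∃ t : T, orderOf t = r ∧ ∃ v : A, v ≠ 1 ∧ φ t v = v) ∨
    (∃ t : T, orderOf t = q * r) := by
  classical
  by_contra hcon
  push Not at hcon
  obtain ⟨na, nb, nc⟩ := hcon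
  have := Fintype.ofFinite Q
  have : Fact q.Prime := ⟨hq⟩
  have hqcard : q ∣ Nat.card Q := by
    obtain ⟨k, hk⟩ := IsPGroup.iff_card.mp hQ
    rw [hk]
    have hk0 : k ≠ 0 := by
      rintro rfl
      rw [pow_zero] at hk
      exact hQ1 (Subgroup.card_eq_one.mp hk)
    exact dvd_pow_self q hk0
  obtain ⟨b, hb⟩ := exists_prime_orderOf_dvd_card' q hqcard
  have hb' : orderOf (b : T) = q := by rw [Subgroup.orderOf_coe]; exact hb
  have h1 : ∀ w : A, ∏ a : Q, φ (a : T) w = 1 := by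
    intro w
    by_contra hn
    apply na (b : T) hb' _ hn
    rw [map_prod, ← Equiv.prod_comp (Equiv.mulLeft b) (fun a : Q => φ (a : T) w)]
    apply Finset.prod_congr rfl
    intro a _
    rw [← MulAut.mul_apply, ← map_mul]
    rfl
  have hyr : y ^ r = 1 := by rw [← hy]; exact pow_orderOf_eq_one y
  have h2 : ∀ w : A, ∏ i ∈ Finset.range r, φ (y ^ i) w = 1 := by
    intro w
    by_contra hn
    apply nb y hy _ hn
    rw [map_prod]
    have e1 := Finset.prod_range_succ (fun i => φ (y ^ i) w) r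
    have e2 := Finset.prod_range_succ' (fun i => φ (y ^ i) w) r
    have e3 : φ (y ^ r) w = φ (y ^ 0) w := by rw [hyr, pow_zero]
    have e4 : ∏ i ∈ Finset.range r, φ (y ^ (i + 1)) w = ∏ i ∈ Finset.range r, φ (y ^ i) w := by
      have e5 := e2.symm.trans e1
      rw [e3] at e5
      exact mul_right_cancel e5
    rw [← e4]
    apply Finset.prod_congr rfl
    intro i _
    rw [pow_succ', map_mul, MulAut.mul_apply]
  have h3 : ∀ i, 0 < i → i < r → ∀ a ∈ Q, a * y ^ i = y ^ i * a → a = 1 := by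
    intro i hi0 hir a ha hcomm
    by_contra ha1
    have hqa : q ∣ orderOf a := dvd_orderOf_of_isPGroup hq hQ ha ha1
    have hyi : orderOf (y ^ i) = r := by
      have hcop : (orderOf y).Coprime i := by
        rw [hy]
        exact (Nat.Prime.coprime_iff_not_dvd hr).mpr (Nat.not_dvd_of_pos_of_lt hi0 hir)
      rw [hcop.orderOf_pow, hy]
    obtain ⟨x, hx⟩ := exists_orderOf_mul hq hr hqr a (y ^ i) hqa (by rw [hyi]) hcomm
    exact nc x hx
  have hv := norm_lemma φ Q y r hr.pos hyQ h1 h2 h3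
  obtain ⟨v, hv1⟩ := exists_ne (1 : A)
  have hvQ := hv v
  obtain ⟨j, hj⟩ := hA v
  have hd1 : orderOf v ∣ p ^ j := orderOf_dvd_of_pow_eq_one hj
  have hd2 : orderOf v ∣ Fintype.card Q := orderOf_dvd_of_pow_eq_one hvQ
  obtain ⟨k, hk⟩ := IsPGroup.iff_card.mp hQ
  rw [← Nat.card_eq_fintype_card, hk] at hd2
  have hcop : Nat.Coprime (p ^ j) (q ^ k) :=
    Nat.Coprime.pow _ _ ((Nat.coprime_primes hp hq).mpr hpq)
  have h5 : orderOf v = 1 := Nat.Coprime.eq_one_of_dvd (hcop.coprime_dvd_left hd1) hd2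
  exact hv1 (orderOf_eq_one_iff.mp h5)

end norm

section three

open scoped IsMulCommutative in
theorem three_primes {H : Type*} [Group H] [Finite H] (P : Subgroup H) [hPn : P.Normal]
    (Q : Subgroup H) (y : H)
    (p q r : ℕ) (hp : p.Prime) (hq : q.Prime) (hr : r.Prime) (hpq : p ≠ q) (hpr : p ≠ r)
    (hqr : q ≠ r)
    (hP : IsPGroup p P) (hP1 : P ≠ ⊥) (hQ : IsPGroup q Q) (hQ1 : Q ≠ ⊥)
    (hy : orderOf y = r) (hyQ : ∀ a ∈ Q, y * a * y⁻¹ ∈ Q) :
    (∃ x : H, orderOf x = p * q) ∨ (∃ x : H, orderOf x = p * r) ∨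
      (∃ x : H, orderOf x = q * r) := by
  classical
  have : Fact p.Prime := ⟨hp⟩
  obtain ⟨Z, hZdef⟩ : ∃ Z : Subgroup H, Z = P ⊓ Subgroup.centralizer (P : Set H) := ⟨_, rfl⟩
  have hZP : Z ≤ P := by rw [hZdef]; exact inf_le_left
  have hZC : ∀ z ∈ Z, ∀ x ∈ P, x * z = z * x := by
    intro z hz x hx
    rw [hZdef] at hz
    exact (Subgroup.mem_centralizer_iff.mp hz.2) x hx
  have hZmem : ∀ z, z ∈ P → (∀ x ∈ P, x * z = z * x) → z ∈ Z := by
    intro z hz hc
    rw [hZdef]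
    exact ⟨hz, Subgroup.mem_centralizer_iff.mpr hc⟩
  have hZn : Z.Normal := by
    constructor
    intro z hz g
    apply hZmem _ (hPn.conj_mem z (hZP hz) g)
    intro x hx
    have h1 : g⁻¹ * x * g ∈ P := by
      have := hPn.conj_mem x hx g⁻¹
      simpa using this
    have h2 := hZC z hz _ h1
    calc x * (g * z * g⁻¹) = g * ((g⁻¹ * x * g) * z) * g⁻¹ := by group
      _ = g * (z * (g⁻¹ * x * g)) * g⁻¹ := by rw [h2]
      _ = g * z * g⁻¹ * x := by group
  have hZc : ∀ a b : Z, a * b = b * a := by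
    intro a b
    apply Subtype.ext
    exact hZC (b : H) b.2 (a : H) (hZP a.2)
  have : IsMulCommutative Z := ⟨⟨hZc⟩⟩
  have hZp : IsPGroup p Z := hP.to_le hZP
  have hZ1 : Nontrivial Z := by
    have : Nontrivial P := (Subgroup.nontrivial_iff_ne_bot P).mpr hP1
    have := hP.center_nontrivial
    obtain ⟨z, hz⟩ := exists_ne (1 : Subgroup.center P)
    have hzZ : ((z : P) : H) ∈ Z := by
      apply hZmem _ (z : P).2
      intro x hx
      have := Subgroup.mem_center_iff.mp z.2 ⟨x, hx⟩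
      exact congrArg Subtype.val this
    refine ⟨⟨⟨((z : P) : H), hzZ⟩, 1, ?_⟩⟩
    intro h
    apply hz
    have h' : ((z : P) : H) = 1 := congrArg Subtype.val h
    exact Subtype.ext (Subtype.ext h')
  rcases frob_lemma (MulAut.conjNormal : H →* MulAut Z) Q y p q r hp hq hr hpq hqr hQ hQ1 hy hyQ
    hZp hZ1 with ⟨b, hb, v, hv1, hbv⟩ | ⟨t, ht, v, hv1, htv⟩ | ⟨t, ht⟩
  · left
    have hbv' : b * (v : H) * b⁻¹ = (v : H) := by
      have := congrArg Subtype.val hbv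
      rwa [MulAut.conjNormal_apply] at this
    have hv1' : (v : H) ≠ 1 := fun h => hv1 (Subtype.ext h)
    have hpv : p ∣ orderOf (v : H) := dvd_orderOf_of_isPGroup hp hP (hZP v.2) hv1'
    have hcomm : Commute (v : H) b := by
      show (v : H) * b = b * v
      calc (v : H) * b = (b * v * b⁻¹) * b := by rw [hbv']
        _ = b * v := by group
    exact exists_orderOf_mul hp hq hpq (v : H) b hpv (by rw [hb]) hcomm
  · right; left
    have htv' : t * (v : H) * t⁻¹ = (v : H) := by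
      have := congrArg Subtype.val htv
      rwa [MulAut.conjNormal_apply] at this
    have hv1' : (v : H) ≠ 1 := fun h => hv1 (Subtype.ext h)
    have hpv : p ∣ orderOf (v : H) := dvd_orderOf_of_isPGroup hp hP (hZP v.2) hv1'
    have hcomm : Commute (v : H) t := by
      show (v : H) * t = t * v
      calc (v : H) * t = (t * v * t⁻¹) * t := by rw [htv']
        _ = t * v := by group
    exact exists_orderOf_mul hp hr hpr (v : H) t hpv (by rw [ht]) hcomm
  · right; right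
    exact ⟨t, ht⟩

theorem frattini_pair {H : Type*} [Group H] [Finite H] (L : Subgroup H) [L.Normal] (q r : ℕ)
    (hq : q.Prime) (hr : r.Prime) (hqL : q ∣ Nat.card L) (hrL : r ∣ L.index) :
    ∃ (Q : Subgroup H) (y : H), IsPGroup q Q ∧ Q ≠ ⊥ ∧ orderOf y = r ∧
      ∀ a ∈ Q, y * a * y⁻¹ ∈ Q := by
  classical
  have : Fact q.Prime := ⟨hq⟩
  have : Fact r.Prime := ⟨hr⟩
  obtain ⟨Q₀⟩ : Nonempty (Sylow q L) := inferInstance
  have hQ₀ : (Q₀ : Subgroup L) ≠ ⊥ := Q₀.ne_bot_of_dvd_card hqL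
  obtain ⟨Q, hQdef⟩ : ∃ Q : Subgroup H, Q = (Q₀ : Subgroup L).map L.subtype := ⟨_, rfl⟩
  have hfr : Subgroup.normalizer (Q : Set H) ⊔ L = ⊤ := by
    rw [hQdef]; exact Sylow.normalizer_sup_eq_top Q₀
  have hidx : L.relIndex (Subgroup.normalizer (Q : Set H)) = L.index := by
    have h := Subgroup.relIndex_sup_right (Subgroup.normalizer (Q : Set H)) L
    rw [hfr, Subgroup.relIndex_top_right] at h
    exact h.symm
  have hrN : r ∣ Nat.card (Subgroup.normalizer (Q : Set H)) := by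
    rw [← hidx] at hrL
    exact hrL.trans (Subgroup.relIndex_dvd_card _ _)
  obtain ⟨y₀, hy₀⟩ := exists_prime_orderOf_dvd_card' r hrN
  refine ⟨Q, (y₀ : H), ?_, ?_, ?_, ?_⟩
  · rw [hQdef]; exact Q₀.isPGroup'.map _
  · rw [hQdef]
    intro h
    exact hQ₀ ((Subgroup.map_eq_bot_iff_of_injective _ L.subtype_injective).mp h)
  · rw [Subgroup.orderOf_coe]; exact hy₀
  · intro a ha
    exact ((Subgroup.mem_normalizer_iff).mp y₀.2 a).mp ha

end three

end Cfsg.Agent.Helper18
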