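import Mathlib
import Cfsg.Prelude.Def_ClassicalGeometry
import Cfsg.Prelude.Def_Classical
import Cfsg.Agent.Helper15.SpQa
import Cfsg.Agent.Helper20.SpQb

set_option autoImplicit false

namespace Cfsg.Agent.Helper18.SpQf

open Matrix

variable {F : Type*} [Field F] {d : ℕ}

/-- Transitivity on fixed forms (for L7 of S5983): if `x ∈ Sp` preserves both the form `Q₁` and the
form `Q₁ ∘ h` (`h ∈ Sp`), then some symplectic transvection `g` with centre `b` fixed by `x`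
(so `g` commutes with `x`) carries `Q₁` to `Q₁ ∘ h`. -/
theorem trans_fix [Fintype F] (hch : (2 : F) = 0) (Q₁ : (Fin d ⊕ Fin d → F) → F)
    (hsm : ∀ (c : F) (v : Fin d ⊕ Fin d → F), Q₁ (c • v) = c ^ 2 * Q₁ v)
    (hpol : ∀ u v : Fin d ⊕ Fin d → F, Q₁ (u + v) = Q₁ u + Q₁ v + Cfsg.sympForm d F u v)
    (x : GL (Fin d ⊕ Fin d) F) (hx : x ∈ Cfsg.spGL d F)
    (h : GL (Fin d ⊕ Fin d) F) (hh : h ∈ Cfsg.spGL d F)
    (hx1 : ∀ v, Q₁ ((x : Matrix (Fin d ⊕ Fin d) (Fin d ⊕ Fin d) F) *ᵥ v) = Q₁ v)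
    (hx2 : ∀ v, Q₁ ((h : Matrix (Fin d ⊕ Fin d) (Fin d ⊕ Fin d) F) *ᵥ
      ((x : Matrix (Fin d ⊕ Fin d) (Fin d ⊕ Fin d) F) *ᵥ v)) =
      Q₁ ((h : Matrix (Fin d ⊕ Fin d) (Fin d ⊕ Fin d) F) *ᵥ v)) :
    ∃ (g : GL (Fin d ⊕ Fin d) F) (c : F) (b : Fin d ⊕ Fin d → F), g ∈ Cfsg.spGL d F ∧
      (x : Matrix (Fin d ⊕ Fin d) (Fin d ⊕ Fin d) F) *ᵥ b = b ∧
      (∀ v, (g : Matrix (Fin d ⊕ Fin d) (Fin d ⊕ Fin d) F) *ᵥ v =
        v + (c * Cfsg.sympForm d F v b) • b) ∧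
      (∀ v, Q₁ ((g : Matrix (Fin d ⊕ Fin d) (Fin d ⊕ Fin d) F) *ᵥ v) =
        Q₁ ((h : Matrix (Fin d ⊕ Fin d) (Fin d ⊕ Fin d) F) *ᵥ v)) ∧
      g * x = x * g := by
  classical
  have hxs : ∀ u v, Cfsg.sympForm d F ((x : Matrix (Fin d ⊕ Fin d) (Fin d ⊕ Fin d) F) *ᵥ u)
      ((x : Matrix (Fin d ⊕ Fin d) (Fin d ⊕ Fin d) F) *ᵥ v) = Cfsg.sympForm d F u v :=
    fun u v => hx u v
  have hhs : ∀ u v, Cfsg.sympForm d F ((h : Matrix (Fin d ⊕ Fin d) (Fin d ⊕ Fin d) F) *ᵥ u)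
      ((h : Matrix (Fin d ⊕ Fin d) (Fin d ⊕ Fin d) F) *ᵥ v) = Cfsg.sympForm d F u v :=
    fun u v => hh u v
  -- the second form
  obtain ⟨b, hb⟩ := Cfsg.Agent.Helper15.SpQa.exists_diff hch Q₁
    (fun v => Q₁ ((h : Matrix (Fin d ⊕ Fin d) (Fin d ⊕ Fin d) F) *ᵥ v)) hsm hpol
    (fun c v => by rw [Matrix.mulVec_smul, hsm])
    (fun u v => by rw [Matrix.mulVec_add, hpol, hhs])
  -- b is fixed by x
  have hbx : ∀ v, Cfsg.sympForm d F b ((x : Matrix (Fin d ⊕ Fin d) (Fin d ⊕ Fin d) F) *ᵥ v) =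
      Cfsg.sympForm d F b v := by
    intro v
    apply Cfsg.Agent.Helper15.SpQa.sq_inj_of_two hch
    have h1 := hb ((x : Matrix (Fin d ⊕ Fin d) (Fin d ⊕ Fin d) F) *ᵥ v)
    have h2 := hb v
    rw [hx2, hx1] at h1
    rw [h2] at h1
    exact (add_left_cancel h1).symm
  have hxb : (x : Matrix (Fin d ⊕ Fin d) (Fin d ⊕ Fin d) F) *ᵥ b = b := by
    rw [← sub_eq_zero]
    apply Cfsg.Agent.Helper15.SpQa.sf_nondeg
    intro z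
    have hz : z = (x : Matrix (Fin d ⊕ Fin d) (Fin d ⊕ Fin d) F) *ᵥ
        (((x⁻¹ : GL (Fin d ⊕ Fin d) F) : Matrix (Fin d ⊕ Fin d) (Fin d ⊕ Fin d) F) *ᵥ z) := by
      rw [Matrix.mulVec_mulVec, ← Units.val_mul, mul_inv_cancel, Units.val_one, Matrix.one_mulVec]
    rw [hz, sub_eq_add_neg, Cfsg.Agent.Helper15.SpQa.sf_add_left, hxs]
    have hneg : Cfsg.sympForm d F (-b)
        ((x : Matrix (Fin d ⊕ Fin d) (Fin d ⊕ Fin d) F) *ᵥ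
          (((x⁻¹ : GL (Fin d ⊕ Fin d) F) : Matrix (Fin d ⊕ Fin d) (Fin d ⊕ Fin d) F) *ᵥ z)) =
        - Cfsg.sympForm d F b
          (((x⁻¹ : GL (Fin d ⊕ Fin d) F) : Matrix (Fin d ⊕ Fin d) (Fin d ⊕ Fin d) F) *ᵥ z) := by
      have h3 := Cfsg.Agent.Helper15.SpQa.sf_smul_left (-1 : F) b
        ((x : Matrix (Fin d ⊕ Fin d) (Fin d ⊕ Fin d) F) *ᵥ
          (((x⁻¹ : GL (Fin d ⊕ Fin d) F) : Matrix (Fin d ⊕ Fin d) (Fin d ⊕ Fin d) F) *ᵥ z))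
      rw [neg_one_smul, hbx] at h3
      rw [h3]; ring
    rw [hneg]; ring
  obtain ⟨w, hw⟩ := Cfsg.Agent.Helper20.SpQb.orbit_pp hch Q₁ hsm hpol h hh b (fun v => hb v)
  obtain ⟨g, c, hg, hgv, hgQ⟩ := Cfsg.Agent.Helper15.SpQa.reach hch Q₁ hsm hpol b ⟨w, hw⟩
  refine ⟨g, c, b, hg, hxb, hgv, fun v => ?_, ?_⟩
  · rw [hgQ v]; exact (hb v).symm
  · apply Units.ext
    rw [Units.val_mul, Units.val_mul]
    apply Matrix.toLin'.injective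
    apply LinearMap.ext
    intro v
    rw [Matrix.toLin'_apply, Matrix.toLin'_apply, ← Matrix.mulVec_mulVec, ← Matrix.mulVec_mulVec,
      hgv, hgv, Matrix.mulVec_add, Matrix.mulVec_smul, hxb]
    have h4 : Cfsg.sympForm d F ((x : Matrix (Fin d ⊕ Fin d) (Fin d ⊕ Fin d) F) *ᵥ v) b =
        Cfsg.sympForm d F v b := by
      have h5 := hxs v b
      rw [hxb] at h5
      exact h5
    rw [h4]

end Cfsg.Agent.Helper18.SpQf
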